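import Cfsg.Agent.H93.RC.BoxB3_m3
import Cfsg.Agent.H578.RC.One_m3
import Cfsg.Agent.H202.RC.Point_mg_m3
import Cfsg.Agent.ClassicalGeometry.OrthDickson
import Cfsg.Agent.H198.TwComp
import Cfsg.Agent.H161.TriLin
import Cfsg.Agent.H161.G2Emb
import Cfsg.Agent.H198.TriDia
import Cfsg.Agent.H752.SemiNormal
import Cfsg.Agent.H198.TriInn
import Cfsg.Agent.FastGrp
import Cfsg.Agent.Prune
set_option linter.all false

section
prune_inst 0x7f00000000000000000000000000000000000000000000000000000000000000000000000000000000000000000000000000000000000000000000000000000000000000000000000000000000000000003fffffffffffffffffffffffffffaeffbdffffffff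

-- part: H385/RC/Lrs_mg
section
prune_inst 0x10000000000000
set_option linter.all false
open scoped Cfsg.Agent.FastGrp

-- part: H385/RC/Iso
section
/-!
# S3510, symplectic groups in characteristic two: isometry groups of alternating forms are simple (helper385)

* `SimpCl.congr`;
* `simpCl_Sp` : `Sp B` is simple, classical, not exceptional (char 2, dimension `≥ 4`, not `Sp₄(2)`; or dimension 2, `|F| > 4`)
* `Ev.nalt`, `Ev.rho : Sp B →* G` with range `N`.
-/

set_option autoImplicit false
set_option linter.unusedVariables false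

namespace Cfsg.Agent.H385.RC

open Cfsg Cfsg.Agent.H106.RC Cfsg.Agent.H520.RC Module

theorem SimpCl.congr {H H' : Type*} [Group H] [Group H'] (e : H ≃* H') (h : SimpCl H) : SimpCl H' :=
  ⟨isSimple_cgr e h.simple, notComm_cgr e h.ncomm, Cl.cgr e h.cl, fun hx => h.nexc (Exc.cgr e.symm hx)⟩

theorem center_Sp {F V : Type*} [Field F] [AddCommGroup V] [Module F V] [FiniteDimensional F V] [Finite F]
    {B : LinearMap.BilinForm F V} (hB : NAlt B) (h2 : (2 : F) = 0) : Subgroup.center (Sp B) = ⊥ := by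
  rw [eq_bot_iff]
  intro t ht
  obtain ⟨a, ha⟩ := (mem_center_Sp hB).1 ht
  rw [Subgroup.mem_bot]
  apply Subtype.ext
  apply LinearEquiv.ext
  intro v
  show t.1 v = v
  rw [ha]
  by_cases hV : ∀ w : V, w = 0
  · rw [hV v, smul_zero]
  · push Not at hV
    obtain ⟨w, hw⟩ := hV
    obtain ⟨z, hz⟩ := hB.exists_one hw
    have h1 : B (t.1 w) (t.1 z) = B w z := t.2 w z
    rw [ha, ha, map_smul, LinearMap.map_smul₂, smul_eq_mul, smul_eq_mul, hz, mul_one] at h1
    have h3 : (a - 1) * (a - 1) = 0 := by linear_combination h1 + (1 - a) * h2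
    have h4 : a = 1 := by
      have := mul_self_eq_zero.1 h3
      linear_combination this
    rw [h4, one_smul]

/-- the quotient by the (trivial) centre -/
noncomputable def quotEquiv {H : Type*} [Group H] (h : Subgroup.center H = ⊥) : H ≃* H ⧸ Subgroup.center H :=
  MulEquiv.ofBijective (QuotientGroup.mk' (Subgroup.center H))
    ⟨by rw [← MonoidHom.ker_eq_bot_iff, QuotientGroup.ker_mk', h], QuotientGroup.mk'_surjective _⟩

theorem simpCl_Sp {F V : Type} [Field F] [Finite F] [AddCommGroup V] [Module F V] [FiniteDimensional F V]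
    {B : LinearMap.BilinForm F V} (hB : NAlt B) (h2 : (2 : F) = 0)
    (h : 6 ≤ finrank F V ∨ (finrank F V = 4 ∧ 3 ≤ Nat.card F) ∨ (finrank F V = 2 ∧ 4 < Nat.card F)) :
    SimpCl (Sp B) := by
  have h' : 6 ≤ finrank F V ∨ (finrank F V = 4 ∧ 3 ≤ Nat.card F) ∨ (finrank F V ≠ 0 ∧ 4 ≤ Nat.card F) := by
    rcases h with h | h | h
    · exact Or.inl h
    · exact Or.inr (Or.inl h)
    · exact Or.inr (Or.inr ⟨by omega, by omega⟩)
  have h3 : ¬ Exc (Sp B ⧸ Subgroup.center (Sp B)) := by
    rcases h with h | h | h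
    · exact not_exc_Sp hB (Or.inl h)
    · exact not_exc_Sp hB (Or.inr h)
    · have h5 : ¬ Odd (Nat.card F) := by
        intro ho
        have : Fintype F := Fintype.ofFinite F
        have hc : CharP F 2 := CharTwo.of_one_ne_zero_of_two_eq_zero one_ne_zero h2
        obtain ⟨n, -, hn⟩ := FiniteField.card F 2
        rw [Nat.card_eq_fintype_card, hn, Nat.odd_pow_iff n.ne_zero] at ho
        exact absurd ho (by decide)
      exact not_exc_Sp2 hB h.1 (by omega) (fun h6 => h5 (by rw [h6]; decide)) (fun h6 => h5 (by rw [h6]; decide))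
  exact SimpCl.congr (quotEquiv (center_Sp hB h2)).symm ⟨simple_Sp hB h', ncomm_Sp hB h', cl_Sp hB h', h3⟩

section env

variable {F V G : Type*} [Field F] [AddCommGroup V] [Module F V] [Group G] [DistribMulAction G V]
  {B : LinearMap.BilinForm F V} {N : Subgroup G}

theorem Ev.nalt (h : Ev B N) : NAlt B := ⟨h.alt, h.nd⟩

/-- the isometry group inside `G` -/
noncomputable def Ev.rho (h : Ev B N) : Sp B →* G where
  toFun t := (h.surjN t.1 t.2).choose
  map_one' := by
    apply h.ext
    intro v
    rw [(h.surjN (1 : Sp B).1 (1 : Sp B).2).choose_spec.2, one_smul]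
    rfl
  map_mul' s t := by
    apply h.ext
    intro v
    rw [mul_smul, (h.surjN (s * t).1 (s * t).2).choose_spec.2, (h.surjN s.1 s.2).choose_spec.2,
      (h.surjN t.1 t.2).choose_spec.2]
    rfl

theorem Ev.rho_apply (h : Ev B N) (t : Sp B) (v : V) : h.rho t • v = t.1 v := (h.surjN t.1 t.2).choose_spec.2 v

theorem Ev.rho_mem (h : Ev B N) (t : Sp B) : h.rho t ∈ N := (h.surjN t.1 t.2).choose_spec.1

theorem Ev.rho_injective (h : Ev B N) : Function.Injective h.rho := by
  intro s t hst
  apply Subtype.ext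
  apply LinearEquiv.ext
  intro v
  rw [← h.rho_apply, ← h.rho_apply, hst]

theorem Ev.rho_surj (h : Ev B N) {g : G} (hg : g ∈ N) : ∃ t, h.rho t = g := by
  refine ⟨⟨h.le hg, fun u v => h.isom hg u v⟩, h.ext fun v => ?_⟩
  rw [h.rho_apply]
  rfl

theorem Ev.range_rho (h : Ev B N) : h.rho.range = N := by
  apply le_antisymm
  · rintro _ ⟨t, rfl⟩
    exact h.rho_mem t
  · intro g hg
    exact h.rho_surj hg

end env

end Cfsg.Agent.H385.RC
end

-- part: H385/RC/Lrs
section
/-!
# S3510, symplectic groups in characteristic two: the short root rule (helper385)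

`E = ⟨e, f⟩` a totally isotropic plane, `QE e f` the elements of `N` trivial on `E` and on `Eᗮ / E`, dimension `≥ 6`.

* `Ev.sr_mem_cmm` : `sr e f ∈ [QE, x]` for every `x` with `x E ≤ E`, `x ∉ QE`.
* `Ev.lrs`, `Ev.lrs_one` : the rules.
-/

set_option autoImplicit false
set_option linter.unusedVariables false
set_option linter.unusedSimpArgs false

namespace Cfsg.Agent.H385.RC

open Cfsg Cfsg.Agent.H106.RC Cfsg.Agent.H520.RC Cfsg.Agent.H380.RC Module Submodule

section

variable {F V G : Type*} [Field F] [AddCommGroup V] [Module F V] [Group G] [DistribMulAction G V]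
  {B : LinearMap.BilinForm F V} {N : Subgroup G}

/-- an element of `N` fixing `e` and `f` is trivial on the plane -/
theorem Ev.fix_span (h : Ev B N) {g : G} (hg : g ∈ N) {e f : V} (he : g • e = e) (hf : g • f = f) {v : V}
    (hv : v ∈ span F {e, f}) : g • v = v := by
  obtain ⟨a, b, rfl⟩ := mem_span_pair.1 hv
  rw [smul_add, h.lin hg, h.lin hg, he, hf]

/-- orthogonality to the plane -/
theorem Ev.orth_span (h : Ev B N) {e f : V} {w v : V} (hwe : B w e = 0) (hwf : B w f = 0) (hv : v ∈ span F {e, f}) :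
    B w v = 0 := by
  obtain ⟨a, b, rfl⟩ := mem_span_pair.1 hv
  rw [map_add, map_smul, map_smul, hwe, hwf, smul_zero, smul_zero, add_zero]

theorem Ev.ti_span (h : Ev B N) {e f : V} (hef : B e f = 0) {u v : V} (hu : u ∈ span F {e, f})
    (hv : v ∈ span F {e, f}) : B u v = 0 := by
  obtain ⟨a, b, rfl⟩ := mem_span_pair.1 hu
  have hfe : B f e = 0 := by rw [h.symm, hef]
  apply h.orth_span _ _ hv <;>
    simp only [map_add, map_smul, LinearMap.add_apply, LinearMap.smul_apply, h.self, hef, hfe, smul_zero, add_zero]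

/-- the unipotent radical of the stabiliser of the plane `⟨e, f⟩` -/
def Ev.QE (h : Ev B N) (e f : V) : Subgroup G where
  carrier := {g | g ∈ N ∧ g • e = e ∧ g • f = f ∧ ∀ v : V, B v e = 0 → B v f = 0 → g • v - v ∈ span F {e, f}}
  one_mem' := ⟨N.one_mem, one_smul _ _, one_smul _ _, fun v _ _ => by
    rw [one_smul, sub_self]; exact Submodule.zero_mem _⟩
  mul_mem' := by
    rintro a b ⟨ha, ha1, ha2, ha3⟩ ⟨hb, hb1, hb2, hb3⟩
    refine ⟨N.mul_mem ha hb, by rw [mul_smul, hb1, ha1], by rw [mul_smul, hb2, ha2], fun v h1 h2 => ?_⟩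
    have h3 : (a * b) • v - v = a • (b • v - v) + (a • v - v) := by
      rw [mul_smul, smul_sub]; abel
    rw [h3, h.fix_span ha ha1 ha2 (hb3 v h1 h2)]
    exact Submodule.add_mem _ (hb3 v h1 h2) (ha3 v h1 h2)
  inv_mem' := by
    rintro a ⟨ha, ha1, ha2, ha3⟩
    refine ⟨N.inv_mem ha, by rw [inv_smul_eq_iff, ha1], by rw [inv_smul_eq_iff, ha2], fun v h1 h2 => ?_⟩
    have h3 : a⁻¹ • v - v = -(a • v - v) := by
      have h4 := h.fix_span ha ha1 ha2 (ha3 v h1 h2)
      have h5 : a⁻¹ • (a • v - v) = a • v - v := by rw [inv_smul_eq_iff, h4]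
      rw [smul_sub, inv_smul_smul] at h5
      rw [← h5]; abel
    rw [h3]
    exact Submodule.neg_mem _ (ha3 v h1 h2)

theorem Ev.QE_comm (h : Ev B N) {e f : V} (hef : B e f = 0) {u : G} (hu : u ∈ h.QE e f) :
    u * h.sr hef = h.sr hef * u := by
  obtain ⟨-, h1, h2, -⟩ := hu
  have h3 := h.conj_sr u hef
  have h4 : h.sr (h.form_zero u hef) = h.sr hef := by
    apply h.ext
    intro v
    rw [h.sr_apply, h.sr_apply, h1, h2]
  rw [h4] at h3
  exact mul_inv_eq_iff_eq_mul.1 h3

theorem Ev.QE_pow (h : Ev B N) {e f : V} (hef : B e f = 0) {g : G} (hg : g ∈ h.QE e f) : g ^ 4 = 1 := by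
  obtain ⟨hN, h1, h2, h3⟩ := hg
  have h4 : ∀ v : V, g • g • v - v ∈ span F {e, f} := by
    intro v
    have h5 : B (g • v - v) e = 0 := by
      have h6 := h.isom hN v e
      rw [h1] at h6
      rw [map_sub, LinearMap.sub_apply, h6, sub_self]
    have h6 : B (g • v - v) f = 0 := by
      have h6 := h.isom hN v f
      rw [h2] at h6
      rw [map_sub, LinearMap.sub_apply, h6, sub_self]
    have h7 := h3 _ h5 h6
    have h8 : g • g • v - v = (g • (g • v - v) - (g • v - v)) + ((g • v - v) + (g • v - v)) := by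
      rw [smul_sub]; abel
    rw [h8, h.vadd_self, add_zero]
    exact h7
  apply h.ext
  intro v
  rw [one_smul, show (4 : ℕ) = 2 + 2 from rfl, pow_add, pow_two, mul_smul, mul_smul, mul_smul]
  obtain ⟨d, hd⟩ : ∃ d, d = g • g • v - v := ⟨_, rfl⟩
  have h5 : g • g • v = v + d := by rw [hd]; abel
  have h6 := h.fix_span hN h1 h2 (h4 v)
  rw [← hd] at h6
  rw [h5, smul_add, smul_add, h6, h6, h5]
  have h7 := h.vadd_self d
  rw [add_assoc, h7, add_zero]

theorem Ev.QE_isPGroup (h : Ev B N) {e f : V} (hef : B e f = 0) : IsPGroup 2 (h.QE e f) := by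
  intro g
  refine ⟨2, Subtype.ext ?_⟩
  have := h.QE_pow hef g.2
  simpa only [_root_.Nat.reducePow, _root_.SubmonoidClass.coe_pow, _root_.OneMemClass.coe_one] using this

theorem Ev.sr_mem_QE (h : Ev B N) {e f : V} (hef : B e f = 0) {e' w : V} (he' : e' ∈ span F {e, f}) (hwe : B w e = 0)
    (hwf : B w f = 0) (hew : B e' w = 0) : h.sr hew ∈ h.QE e f := by
  have he : e ∈ span F {e, f} := Submodule.subset_span (by simp)
  have hf : f ∈ span F {e, f} := Submodule.subset_span (by simp)
  have key : ∀ v : V, B v e = 0 → B v f = 0 → h.sr hew • v - v = B v w • e' := by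
    intro v h1 h2
    rw [h.sr_apply, h.orth_span h1 h2 he', zero_smul, add_zero, add_sub_cancel_left]
  have hwe' : B e w = 0 := by rw [h.symm, hwe]
  have hwf' : B f w = 0 := by rw [h.symm, hwf]
  have hfe : B f e = 0 := by rw [h.symm, hef]
  refine ⟨h.sr_mem hew, ?_, ?_, fun v h1 h2 => ?_⟩
  · have := key e (h.self e) hef
    rw [hwe', zero_smul, sub_eq_zero] at this
    exact this
  · have := key f hfe (h.self f)
    rw [hwf', zero_smul, sub_eq_zero] at this
    exact this
  · rw [key v h1 h2]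
    exact Submodule.smul_mem _ _ he'

/-- an element preserving the plane: its inverse does, too -/
theorem inv_stable [Finite G] {E : Submodule F V} {x : G} (hx : ∀ v ∈ E, x • v ∈ E) : ∀ v ∈ E, x⁻¹ • v ∈ E := by
  intro v hv
  have h1 : ∀ n : ℕ, x ^ n • v ∈ E := by
    intro n
    induction n with
    | zero => simpa using hv
    | succ n ih => rw [pow_succ', mul_smul]; exact hx _ ih
  have h2 : x⁻¹ = x ^ (orderOf x - 1) := by
    rw [inv_eq_iff_mul_eq_one, ← pow_succ', Nat.sub_add_cancel (orderOf_pos x), pow_orderOf_eq_one]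
  rw [h2]
  exact h1 _

theorem Ev.orth_stable [Finite G] (h : Ev B N) {e f : V} {x : G} (hx : ∀ v ∈ span F {e, f}, x • v ∈ span F {e, f}) {w : V}
    (hwe : B w e = 0) (hwf : B w f = 0) {v : V} (hv : v ∈ span F {e, f}) : B (x • w) v = 0 := by
  obtain ⟨σ, -, h2⟩ := h.semi x
  have h3 := h2 w (x⁻¹ • v)
  rw [smul_inv_smul, h.orth_span hwe hwf (inv_stable hx v hv), map_zero] at h3
  exact h3

theorem Ev.QE_norm [Finite G] (h : Ev B N) {e f : V} {x : G} (hx : ∀ v ∈ span F {e, f}, x • v ∈ span F {e, f}) {u : G}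
    (hN : x * u * x⁻¹ ∈ N) (hu : u ∈ h.QE e f) : x * u * x⁻¹ ∈ h.QE e f := by
  have he : e ∈ span F {e, f} := Submodule.subset_span (by simp)
  have hf : f ∈ span F {e, f} := Submodule.subset_span (by simp)
  obtain ⟨h0, h1, h2, h3⟩ := hu
  refine ⟨hN, ?_, ?_, fun v hve hvf => ?_⟩
  · rw [mul_smul, mul_smul, h.fix_span h0 h1 h2 (inv_stable hx _ he), smul_inv_smul]
  · rw [mul_smul, mul_smul, h.fix_span h0 h1 h2 (inv_stable hx _ hf), smul_inv_smul]
  · have h4 : (x * u * x⁻¹) • v - v = x • (u • x⁻¹ • v - x⁻¹ • v) := by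
      rw [mul_smul, mul_smul, smul_sub, smul_inv_smul]
    rw [h4]
    exact hx _ (h3 _ (h.orth_stable (inv_stable hx) hve hvf he) (h.orth_stable (inv_stable hx) hve hvf hf))

/-- `(Eᗮ)ᗮ = E` -/
theorem Ev.mem_of_orth [FiniteDimensional F V] (h : Ev B N) {e f v : V}
    (hv : ∀ w, B w e = 0 → B w f = 0 → B w v = 0) : v ∈ span F {e, f} := by
  have hnd : B.Nondegenerate := by
    rw [LinearMap.BilinForm.nondegenerate_iff_ker_eq_bot, LinearMap.ker_eq_bot']
    intro u hu
    exact h.nd u fun w => by rw [hu]; rfl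
  have hrefl : B.IsRefl := h.alt.isRefl
  have h1 := LinearMap.BilinForm.orthogonal_orthogonal hnd hrefl (span F {e, f})
  rw [← h1, LinearMap.BilinForm.mem_orthogonal_iff]
  intro w hw
  rw [LinearMap.BilinForm.mem_orthogonal_iff] at hw
  refine hv w ?_ ?_
  · rw [h.symm]
    exact hw e (Submodule.subset_span (by simp))
  · rw [h.symm]
    exact hw f (Submodule.subset_span (by simp))

/-- there are `w z ∈ Eᗮ` with `B z w = 1` -/
theorem Ev.exists_pair [FiniteDimensional F V] (h : Ev B N) {e f : V} (hdim : 6 ≤ finrank F V) :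
    ∃ w z, B w e = 0 ∧ B w f = 0 ∧ B z e = 0 ∧ B z f = 0 ∧ B z w = 1 := by
  have hnd : B.Nondegenerate := by
    rw [LinearMap.BilinForm.nondegenerate_iff_ker_eq_bot, LinearMap.ker_eq_bot']
    intro u hu
    exact h.nd u fun w => by rw [hu]; rfl
  have hrefl : B.IsRefl := h.alt.isRefl
  have h1 := LinearMap.BilinForm.finrank_orthogonal hnd (span F {e, f})
  have h2 : finrank F (span F ({e, f} : Set V)) ≤ 2 := by
    classical
    have h3 := finrank_span_finset_le_card (R := F) ({e, f} : Finset V)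
    rw [Finset.coe_pair] at h3
    exact h3.trans Finset.card_le_two
  obtain ⟨w, hw, hwE⟩ : ∃ w ∈ B.orthogonal (span F {e, f}), w ∉ span F ({e, f} : Set V) := by
    by_contra hcon
    push Not at hcon
    have h3 := Submodule.finrank_mono (s := B.orthogonal (span F {e, f})) (t := span F {e, f}) hcon
    omega
  rw [LinearMap.BilinForm.mem_orthogonal_iff] at hw
  have hwe : B w e = 0 := by
    rw [h.symm]; exact hw e (Submodule.subset_span (by simp))
  have hwf : B w f = 0 := by
    rw [h.symm]; exact hw f (Submodule.subset_span (by simp))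
  have h4 : ∃ z, B z e = 0 ∧ B z f = 0 ∧ B z w ≠ 0 := by
    by_contra hcon
    push Not at hcon
    exact hwE (h.mem_of_orth hcon)
  obtain ⟨z, hze, hzf, hzw⟩ := h4
  refine ⟨w, (B z w)⁻¹ • z, hwe, hwf, ?_, ?_, ?_⟩
  · rw [map_smul, LinearMap.smul_apply, hze, smul_zero]
  · rw [map_smul, LinearMap.smul_apply, hzf, smul_zero]
  · rw [map_smul, LinearMap.smul_apply, smul_eq_mul, inv_mul_cancel₀ hzw]

/-- **`R_E ≤ [Q_E, x]`** -/
theorem Ev.sr_mem_cmm [FiniteDimensional F V] [Finite G] (h : Ev B N) {e f : V} (hef : B e f = 0)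
    (hli : ∀ a b : F, a • e + b • f = 0 → a = 0 ∧ b = 0) (hdim : 6 ≤ finrank F V) {x : G}
    (hx : ∀ v ∈ span F {e, f}, x • v ∈ span F {e, f}) (hq : x ∉ h.QE e f) : h.sr hef ∈ cmm (h.QE e f) x := by
  have he : e ∈ span F {e, f} := Submodule.subset_span (by simp)
  have hf : f ∈ span F {e, f} := Submodule.subset_span (by simp)
  have he0 : e ≠ 0 := by
    intro h0
    have := (hli 1 0 (by rw [h0]; simp)).1
    exact one_ne_zero this
  obtain ⟨σ, h1, h2⟩ := h.semi x
  obtain ⟨e', he', w, z, hwe, hwf, hze, hzf, hne⟩ : ∃ e' ∈ span F {e, f}, ∃ w z, B w e = 0 ∧ B w f = 0 ∧ B z e = 0 ∧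
      B z f = 0 ∧ B z (x • w) • (x • e') + B z w • e' ≠ 0 := by
    by_contra hcon
    push Not at hcon
    apply hq
    have hcon' : ∀ e' ∈ span F {e, f}, ∀ w z, B w e = 0 → B w f = 0 → B z e = 0 → B z f = 0 →
        B z (x • w) • (x • e') = B z w • e' := by
      intro e' he' w z h3 h4 h5 h6
      have h7 := hcon e' he' w z h3 h4 h5 h6
      rw [← sub_eq_zero, sub_eq_add_neg, h.vneg]
      exact h7
    obtain ⟨w, z, hwe, hwf, hze, hzf, hzw⟩ := h.exists_pair (e := e) (f := f) hdim
    obtain ⟨κ, hκ⟩ : ∃ κ, κ = B z (x • w) := ⟨_, rfl⟩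
    have hk : ∀ e' ∈ span F {e, f}, κ • (x • e') = e' := by
      intro e' he'
      have := hcon' e' he' w z hwe hwf hze hzf
      rw [hzw, one_smul] at this
      rw [hκ]; exact this
    have hk0 : κ ≠ 0 := by
      rintro rfl
      have := hk e he
      rw [zero_smul] at this
      exact he0 this.symm
    have hσ : ∀ a, σ a = a := by
      intro a
      have h3 := hk (a • e) (Submodule.smul_mem _ a he)
      rw [h1, smul_comm, hk e he] at h3
      have h4 : (σ a - a) • e = 0 := by rw [sub_smul, h3, sub_self]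
      rcases smul_eq_zero.1 h4 with h5 | h5
      · exact sub_eq_zero.1 h5
      · exact absurd h5 he0
    have hxN : x ∈ N := (h.mem x).2 fun a v => by rw [h1, hσ]
    -- the action on the orthogonal complement
    have horth : ∀ w', B w' e = 0 → B w' f = 0 → x • w' - κ • w' ∈ span F {e, f} := by
      intro w' h3 h4
      apply h.mem_of_orth
      intro z' h5 h6
      have h7 := hcon' e he w' z' h3 h4 h5 h6
      have h8 : B z' (x • w') • e = (κ * B z' w') • e := by
        rw [← hk e he, smul_comm, h7, smul_smul, hk e he]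
      have h9 : (B z' (x • w') - κ * B z' w') • e = 0 := by rw [sub_smul, h8, sub_self]
      rcases smul_eq_zero.1 h9 with h10 | h10
      · rw [map_sub, LinearMap.map_smul (B z') κ w', smul_eq_mul]; exact h10
      · exact absurd h10 he0
    have hκ1 : κ = 1 := by
      obtain ⟨p, hp⟩ : ∃ p, p = x • w - κ • w := ⟨_, rfl⟩
      obtain ⟨q, hq⟩ : ∃ q, q = x • z - κ • z := ⟨_, rfl⟩
      have h3 := horth w hwe hwf
      have h4 := horth z hze hzf
      rw [← hp] at h3
      rw [← hq] at h4
      have h5 := h.isom hxN z w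
      have h6 : x • w = κ • w + p := by rw [hp]; abel
      have h7 : x • z = κ • z + q := by rw [hq]; abel
      rw [h6, h7] at h5
      have h8 : B w q = 0 := h.orth_span hwe hwf h4
      have h9 : B z p = 0 := h.orth_span hze hzf h3
      have h10 : B q p = 0 := h.ti_span hef h4 h3
      have h11 : B q w = 0 := by rw [h.symm, h8]
      simp only [map_add, LinearMap.add_apply, LinearMap.map_smul, LinearMap.smul_apply, smul_eq_mul, h9, h10, h11, hzw,
        mul_one, mul_zero, add_zero] at h5
      have h12 : (κ - 1) * (κ - 1) = 0 := by linear_combination h5 + (1 - κ) * h.two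
      have h13 := mul_self_eq_zero.1 h12
      linear_combination h13
    have hfix : ∀ e' ∈ span F {e, f}, x • e' = e' := by
      intro e' he'
      have := hk e' he'
      rwa [hκ1, one_smul] at this
    refine ⟨hxN, hfix e he, hfix f hf, fun v h3 h4 => ?_⟩
    have := horth v h3 h4
    rwa [hκ1, one_smul] at this
  obtain ⟨ε, hε⟩ : ∃ ε, ε = B z (x • w) • (x • e') + B z w • e' := ⟨_, rfl⟩
  rw [← hε] at hne
  have hεE : ε ∈ span F {e, f} := by
    rw [hε]
    exact Submodule.add_mem _ (Submodule.smul_mem _ _ (hx _ he')) (Submodule.smul_mem _ _ he')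
  have hew : B e' w = 0 := by rw [h.symm]; exact h.orth_span hwe hwf he'
  have hxew : B (x • e') (x • w) = 0 := h.form_zero x hew
  have hu : h.sr hew ∈ h.QE e f := h.sr_mem_QE hef he' hwe hwf hew
  have hc : h.sr hew * h.sr hxew ∈ cmm (h.QE e f) x := by
    have h3 := mem_cmm (x := x) hu
    have h4 : h.sr hew * x * (h.sr hew)⁻¹ * x⁻¹ = h.sr hew * (x * h.sr hew * x⁻¹) := by
      rw [h.sr_inv]; group
    rw [h4, h.conj_sr x hew] at h3
    exact h3
  -- all the elements `sr f' ε`
  have key : ∀ f' ∈ span F {e, f}, ∀ hfε : B f' ε = 0, h.sr hfε ∈ cmm (h.QE e f) x := by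
    intro f' hf' hfε
    have hfz : B f' z = 0 := by rw [h.symm]; exact h.orth_span hze hzf hf'
    have hv : h.sr hfz ∈ h.QE e f := h.sr_mem_QE hef hf' hze hzf hfz
    have h3 := cmm_comm hv hc
    have h4 : h.sr hfz * (h.sr hew * h.sr hxew) * (h.sr hfz)⁻¹ * (h.sr hew * h.sr hxew)⁻¹ =
        h.sr hfz * ((h.sr hew * h.sr hxew) * h.sr hfz * (h.sr hew * h.sr hxew)⁻¹) := by
      rw [h.sr_inv]; group
    rw [h4, h.conj_sr _ hfz] at h3
    have h5 : h.sr hfz * h.sr (h.form_zero (h.sr hew * h.sr hxew) hfz) = h.sr hfε := by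
      have hxe' := hx _ he'
      have hf1 : B f' (x • e') = 0 := h.ti_span hef hf' hxe'
      have hf2 : B f' (x • w) = 0 := by
        rw [h.symm]; exact h.orth_stable hx hwe hwf hf'
      have hf3 : B f' e' = 0 := h.ti_span hef hf' he'
      have hf4 : B f' w = 0 := by rw [h.symm]; exact h.orth_span hwe hwf hf'
      have hz1 : B z (x • e') = 0 := h.orth_span hze hzf hxe'
      have hz2 : B z e' = 0 := h.orth_span hze hzf he'
      have ha : (h.sr hew * h.sr hxew) • f' = f' := by
        rw [mul_smul, h.sr_apply hxew, hf1, hf2, zero_smul, zero_smul, add_zero, add_zero, h.sr_apply, hf3, hf4,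
          zero_smul, zero_smul, add_zero, add_zero]
      have hb : (h.sr hew * h.sr hxew) • z = z + ε := by
        rw [mul_smul, h.sr_apply hxew, hz1, zero_smul, add_zero, h.sr_apply hew]
        have h6 : B (x • e') e' = 0 := h.ti_span hef hxe' he'
        have h7 : B (x • e') w = 0 := by rw [h.symm]; exact h.orth_span hwe hwf hxe'
        simp only [map_add, map_smul, LinearMap.add_apply, LinearMap.smul_apply, h6, h7, hz2, smul_zero, add_zero,
          zero_smul, zero_add]
        rw [hε]
        abel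
      apply h.ext
      intro v
      rw [mul_smul, h.sr_apply hfz, h.sr_apply, h.sr_apply, ha, hb]
      have hzε : B z ε = 0 := h.orth_span hze hzf hεE
      have hεz : B ε z = 0 := by rw [h.symm, hzε]
      have hfz' : B z f' = 0 := by rw [h.symm, hfz]
      have hfε' : B ε f' = 0 := by rw [h.symm, hfε]
      simp only [map_add, map_smul, LinearMap.add_apply, LinearMap.smul_apply, hzε, hεz, hfz, hfz', hfε, hfε', h.self,
        smul_zero, add_zero, zero_smul, zero_add, smul_add, add_smul]
      have e1 := h.vadd_self (B v f' • z)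
      have e2 := h.vadd_self (B v z • f')
      calc _ = v + B v f' • ε + B v ε • f' + (B v f' • z + B v f' • z) + (B v z • f' + B v z • f') := by abel
        _ = _ := by rw [e1, e2, add_zero, add_zero]
    rw [h5] at h3
    exact h3
  obtain ⟨α, β, hαβ⟩ := mem_span_pair.1 hεE
  by_cases hα : α = 0
  · have hβ : β ≠ 0 := by
      rintro rfl
      apply hne
      rw [← hαβ, hα, zero_smul, zero_smul, add_zero]
    have hfe : B f e = 0 := by rw [h.symm, hef]
    have hfε : B (β⁻¹ • e) ε = 0 := by
      rw [← hαβ, map_add, map_smul, map_smul, map_smul, LinearMap.smul_apply, LinearMap.smul_apply, h.self, hef]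
      simp
    have h6 := key (β⁻¹ • e) (Submodule.smul_mem _ _ he) hfε
    have h7 : h.sr hfε = h.sr hef := by
      apply h.ext
      intro v
      rw [h.sr_apply, h.sr_apply, ← hαβ, hα, zero_smul, zero_add, map_smul, map_smul, smul_eq_mul, smul_eq_mul,
        smul_smul, smul_smul]
      have e1 : β⁻¹ * B v e * β = B v e := by field_simp
      have e2 : β * B v f * β⁻¹ = B v f := by field_simp
      rw [e1, e2]
    rw [← h7]; exact h6
  · have hfe : B f e = 0 := by rw [h.symm, hef]
    have hfε : B (α⁻¹ • f) ε = 0 := by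
      rw [← hαβ, map_add, map_smul, map_smul, map_smul, LinearMap.smul_apply, LinearMap.smul_apply, h.self, hfe]
      simp
    have h6 := key (α⁻¹ • f) (Submodule.smul_mem _ _ hf) hfε
    have h7 : h.sr hfε = h.sr hef := by
      apply h.ext
      intro v
      rw [h.sr_apply, h.sr_apply, ← hαβ, map_add, map_smul, map_smul, map_smul, smul_eq_mul, smul_eq_mul, smul_eq_mul,
        smul_add, add_smul, smul_smul, smul_smul, smul_smul, smul_smul]
      have e1 : α⁻¹ * B v f * α = B v f := by field_simp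
      have e2 : α * B v e * α⁻¹ = B v e := by field_simp
      have e3 : β * B v f * α⁻¹ = α⁻¹ * B v f * β := by ring
      rw [e1, e2, e3]
      have e4 := h.vadd_self ((α⁻¹ * B v f * β) • f)
      calc _ = v + B v e • f + B v f • e + ((α⁻¹ * B v f * β) • f + (α⁻¹ * B v f * β) • f) := by abel
        _ = _ := by rw [e4, add_zero]
    rw [← h7]; exact h6

theorem Ev.sr_ne_one [FiniteDimensional F V] (h : Ev B N) {e f : V} (hef : B e f = 0)
    (hli : ∀ a b : F, a • e + b • f = 0 → a = 0 ∧ b = 0) : h.sr hef ≠ 1 := by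
  intro h1
  have he0 : e ≠ 0 := by
    intro h0
    have := (hli 1 0 (by rw [h0]; simp)).1
    exact one_ne_zero this
  have h2 : ∃ v, B v e ≠ 0 := by
    by_contra hcon
    push Not at hcon
    exact he0 (h.nd e fun v => by rw [h.symm, hcon])
  obtain ⟨v, hv⟩ := h2
  have h3 := h.sr_apply hef v
  rw [h1, one_smul] at h3
  have h4 : B v f • e + B v e • f = 0 := by
    have : v + (B v f • e + B v e • f) = v := by rw [← add_assoc, add_right_comm]; exact h3.symm
    exact left_eq_add.1 this.symm
  exact hv (hli _ _ h4).2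

end

section rules

variable {F V G Ω : Type*} [Field F] [AddCommGroup V] [Module F V] [FiniteDimensional F V] [Group G] [Finite G]
  [DistribMulAction G V] {B : LinearMap.BilinForm F V} {N : Subgroup G} [MulAction G Ω] [Nonempty Ω]

/-- **Short root rule, one element.** -/
theorem Ev.lrs_one (h : Ev B N) (hE : Env G Ω N) {e f : V} (hef : B e f = 0)
    (hli : ∀ a b : F, a • e + b • f = 0 → a = 0 ∧ b = 0) (hdim : 6 ≤ finrank F V) {x : G}
    (hx : ∀ v ∈ span F {e, f}, x • v ∈ span F {e, f}) (hq : x ∉ h.QE e f)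
    (hcov : ∀ ω : Ω, h.sr hef • ω = ω ∨ x • ω = ω) : False :=
  not_cov_one hE (U := h.QE e f) hcov (fun u hu => h.QE_comm hef hu) (h.sr_ne_one hef hli)
    (h.sr_mem_cmm hef hli hdim hx hq)

end rules

end Cfsg.Agent.H385.RC
end

-- part: H957/RC/Ind
section
/-!
# S3510, symplectic groups in characteristic two: centralisers of self-adjoint elements (box IND; helper957)

* `trForm` : for a field `L ⊇ F` acting on `V` with `B (c u) v = B u (c v)`, the `L`-bilinear form `B_L` with
  `Tr (B_L u v * c) = B (c u) v`;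
* `centL_equiv` : `{g ∈ N | g c = c g for all c ∈ L} ≃* Sp B_L`;
* `cent_simpCl` : the centraliser of a self-adjoint element with irreducible minimal polynomial of degree `≥ 2`.
-/

set_option autoImplicit false
set_option linter.unusedSectionVars false

namespace Cfsg.Agent.H957.RC

open Cfsg Cfsg.Agent.H106.RC Cfsg.Agent.H520.RC Cfsg.Agent.H385.RC Module

section form

variable {F L V : Type*} [Field F] [Field L] [Algebra F L] [FiniteDimensional F L] [Algebra.IsSeparable F L]
  [AddCommGroup V] [Module F V] [Module L V] [IsScalarTower F L V]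

theorem tr_ext {b b' : L} (h : ∀ c : L, Algebra.trace F L (b * c) = Algebra.trace F L (b' * c)) : b = b' := by
  have h1 := (LinearMap.BilinForm.toDual (Algebra.traceForm F L) (traceForm_nondegenerate F L)).injective
  apply h1
  apply LinearMap.ext
  intro c
  rw [LinearMap.BilinForm.toDual_def, LinearMap.BilinForm.toDual_def]
  exact h c

/-- the functional `c ↦ B (c u) v` -/
def fn (B : LinearMap.BilinForm F V) (u v : V) : Module.Dual F L where
  toFun c := B (c • u) v
  map_add' c d := by rw [add_smul, map_add, LinearMap.add_apply]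
  map_smul' a c := by rw [smul_assoc, map_smul, LinearMap.smul_apply, RingHom.id_apply]

/-- the value of `B_L` -/
noncomputable def bl (L : Type*) [Field L] [Algebra F L] [FiniteDimensional F L] [Algebra.IsSeparable F L] [Module L V]
    [IsScalarTower F L V] (B : LinearMap.BilinForm F V) (u v : V) : L :=
  (LinearMap.BilinForm.toDual (Algebra.traceForm F L) (traceForm_nondegenerate F L)).symm (fn B u v)

theorem bl_spec (B : LinearMap.BilinForm F V) (u v : V) (c : L) :
    Algebra.trace F L (bl L B u v * c) = B (c • u) v := by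
  have h1 := LinearMap.BilinForm.toDual_def (B := Algebra.traceForm F L) (traceForm_nondegenerate F L) (m := bl L B u v)
    (n := c)
  rw [bl, LinearEquiv.apply_symm_apply] at h1
  exact h1.symm

variable (B : LinearMap.BilinForm F V) (hadj : ∀ (c : L) (u v : V), B (c • u) v = B u (c • v))

/-- the form over `L` -/
noncomputable def trForm : LinearMap.BilinForm L V :=
  LinearMap.mk₂ L (fun u v => bl L B u v)
    (fun u u' v => tr_ext (F := F) fun c => by
      rw [add_mul, map_add, bl_spec, bl_spec, bl_spec, smul_add, map_add, LinearMap.add_apply])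
    (fun k u v => tr_ext (F := F) fun c => by
      rw [bl_spec, smul_eq_mul, mul_comm k, mul_assoc, bl_spec, mul_comm k, mul_smul])
    (fun u v v' => tr_ext (F := F) fun c => by
      rw [add_mul, map_add, bl_spec, bl_spec, bl_spec, map_add])
    (fun k u v => tr_ext (F := F) fun c => by
      rw [bl_spec, smul_eq_mul, mul_comm k, mul_assoc, bl_spec, ← hadj, smul_smul])

theorem trForm_spec (u v : V) (c : L) : Algebra.trace F L (trForm B hadj u v * c) = B (c • u) v := bl_spec B u v c

theorem trForm_tr (u v : V) : Algebra.trace F L (trForm B hadj u v) = B u v := by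
  have := trForm_spec B hadj u v 1
  rwa [mul_one, one_smul] at this

theorem trForm_nalt (hB : NAlt B) (hsq : ∀ c : L, IsSquare c) : NAlt (trForm B hadj) := by
  refine ⟨fun u => ?_, fun u hu => ?_⟩
  · refine tr_ext (F := F) fun c => ?_
    rw [trForm_spec, zero_mul, map_zero]
    obtain ⟨d, rfl⟩ := hsq c
    rw [mul_smul, hadj, hB.alt]
  · refine hB.nd u fun v => ?_
    rw [← trForm_tr B hadj, hu v, map_zero]

/-- preserving `B_L` is the same as preserving `B` -/
theorem trForm_isom_iff (g : V ≃ₗ[L] V) :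
    (∀ u v, trForm B hadj (g u) (g v) = trForm B hadj u v) ↔ ∀ u v, B (g u) (g v) = B u v := by
  constructor
  · intro h u v
    rw [← trForm_tr B hadj, h, trForm_tr]
  · intro h u v
    refine tr_ext (F := F) fun c => ?_
    rw [trForm_spec, trForm_spec, ← map_smul, h]

end form

section grp

variable {F L V G : Type*} [Field F] [Field L] [Algebra F L] [FiniteDimensional F L] [Algebra.IsSeparable F L]
  [AddCommGroup V] [Module F V] [Module L V] [IsScalarTower F L V] [Group G] [DistribMulAction G V]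
  {B : LinearMap.BilinForm F V} {N : Subgroup G}

/-- the elements of `N` commuting with `L` -/
def centL (L : Type*) [Field L] [Module L V] (N : Subgroup G) : Subgroup G where
  carrier := {g | g ∈ N ∧ ∀ (c : L) (v : V), g • c • v = c • g • v}
  one_mem' := ⟨N.one_mem, fun c v => by rw [one_smul, one_smul]⟩
  mul_mem' {g g'} h h' := ⟨N.mul_mem h.1 h'.1, fun c v => by rw [mul_smul, h'.2, h.2, mul_smul]⟩
  inv_mem' {g} h := ⟨N.inv_mem h.1, fun c v => by
    rw [inv_smul_eq_iff, h.2, smul_inv_smul]⟩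

variable (hadj : ∀ (c : L) (u v : V), B (c • u) v = B u (c • v))

/-- restriction of scalars -/
def resL : Sp (trForm B hadj) →* Sp B where
  toFun t := ⟨t.1.restrictScalars F, (trForm_isom_iff B hadj t.1).1 t.2⟩
  map_one' := rfl
  map_mul' _ _ := rfl

theorem resL_injective : Function.Injective (resL (B := B) hadj) := by
  intro s t h
  apply Subtype.ext
  apply LinearEquiv.ext
  intro v
  exact congrArg (fun z : Sp B => z.1 v) h

theorem range_resL (h : Ev B N) : (h.rho.comp (resL hadj)).range = centL (V := V) L N := by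
  apply le_antisymm
  · rintro _ ⟨t, rfl⟩
    refine ⟨h.rho_mem _, fun c v => ?_⟩
    show h.rho (resL hadj t) • c • v = c • h.rho (resL hadj t) • v
    rw [h.rho_apply, h.rho_apply]
    exact t.1.map_smul c v
  · rintro g ⟨hg, hc⟩
    let A : V ≃ₗ[L] V := { DistribMulAction.toAddEquiv V g with map_smul' := fun c v => hc c v }
    have hA : ∀ v, A v = g • v := fun _ => rfl
    have hA2 : ∀ u v, trForm B hadj (A u) (A v) = trForm B hadj u v :=
      (trForm_isom_iff B hadj A).2 fun u v => h.isom hg u v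
    refine ⟨⟨A, hA2⟩, h.ext fun v => ?_⟩
    show h.rho (resL hadj ⟨A, hA2⟩) • v = g • v
    rw [h.rho_apply]
    rfl

/-- the centraliser of `L` is the symplectic group over `L` -/
noncomputable def centL_equiv (h : Ev B N) : Sp (trForm B hadj) ≃* centL (V := V) L N :=
  (MonoidHom.ofInjective (f := h.rho.comp (resL hadj))
    (h.rho_injective.comp (resL_injective hadj))).trans (MulEquiv.subgroupCongr (range_resL hadj h))

end grp

section main

variable {F L V G : Type} [Field F] [Finite F] [Field L] [Algebra F L] [FiniteDimensional F L]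
  [AddCommGroup V] [Module F V] [FiniteDimensional F V] [Module L V] [IsScalarTower F L V] [Group G]
  [DistribMulAction G V] {B : LinearMap.BilinForm F V} {N : Subgroup G}

theorem card_L : Nat.card L = Nat.card F ^ finrank F L := by
  have : Finite L := Module.finite_of_finite F
  have := Fintype.ofFinite F
  have := Fintype.ofFinite L
  rw [Nat.card_eq_fintype_card, Nat.card_eq_fintype_card]
  exact Module.card_eq_pow_finrank

theorem centL_simpCl (h : Ev B N) (hadj : ∀ (c : L) (u v : V), B (c • u) v = B u (c • v)) (hdeg : 2 ≤ finrank F L)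
    (hdim : 4 ≤ finrank F V) (h42 : finrank F V = 4 → 2 < Nat.card F) : SimpCl (centL (V := V) L N) := by
  have : Finite L := Module.finite_of_finite F
  have h2 : (2 : L) = 0 := by
    have := congrArg (algebraMap F L) h.two
    rwa [map_ofNat, map_zero] at this
  have hchar : ringChar L = 2 := by
    have : CharP L 2 := CharTwo.of_one_ne_zero_of_two_eq_zero one_ne_zero h2
    exact ringChar.eq L 2
  have hfd : FiniteDimensional L V := Module.Finite.of_restrictScalars_finite F L V
  have hN : NAlt (trForm B hadj) := trForm_nalt B hadj h.nalt (FiniteField.isSquare_of_char_two hchar)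
  refine SimpCl.congr (centL_equiv hadj h) (simpCl_Sp hN h2 ?_)
  obtain ⟨m, hm⟩ := exists_dim hN
  have hmul : finrank F L * finrank L V = finrank F V := Module.finrank_mul_finrank F L V
  have hF : 2 ≤ Nat.card F := by
    have := Fintype.ofFinite F
    rw [Nat.card_eq_fintype_card]
    exact Fintype.one_lt_card
  have hL := card_L (F := F) (L := L)
  have hL4 : 4 ≤ Nat.card L := by
    rw [hL]
    calc 4 = 2 ^ 2 := by norm_num
      _ ≤ Nat.card F ^ 2 := Nat.pow_le_pow_left hF 2
      _ ≤ Nat.card F ^ finrank F L := Nat.pow_le_pow_right (by omega) hdeg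
  have hm0 : m ≠ 0 := by
    rintro rfl
    rw [hm, mul_zero, mul_zero] at hmul
    omega
  by_cases hm3 : 3 ≤ m
  · left; omega
  · by_cases hm2 : m = 2
    · right; left
      omega
    · right; right
      have hm1 : m = 1 := by omega
      refine ⟨by omega, ?_⟩
      rw [hm, hm1, mul_one] at hmul
      by_cases hd : finrank F L = 2
      · have h3 : 2 < Nat.card F := h42 (by omega)
        rw [hL, hd]
        nlinarith only [h3]
      · rw [hL]
        calc 4 < 2 ^ 3 := by norm_num
          _ ≤ Nat.card F ^ 3 := Nat.pow_le_pow_left hF 3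
          _ ≤ Nat.card F ^ finrank F L := Nat.pow_le_pow_right (by omega) (by omega)

/-- the centraliser of `a` in `N` -/
def centN {F V G : Type*} [Field F] [AddCommGroup V] [Module F V] [Group G] [DistribMulAction G V]
    (N : Subgroup G) (a : V →ₗ[F] V) : Subgroup G where
  carrier := {g | g ∈ N ∧ ∀ v : V, g • a v = a (g • v)}
  one_mem' := ⟨N.one_mem, fun v => by rw [one_smul, one_smul]⟩
  mul_mem' {g g'} h h' := ⟨N.mul_mem h.1 h'.1, fun v => by rw [mul_smul, h'.2, h.2, mul_smul]⟩
  inv_mem' {g} h := ⟨N.inv_mem h.1, fun v => by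
    rw [inv_smul_eq_iff, h.2, smul_inv_smul]⟩

end main

open Polynomial in
/-- **IND** -/
theorem cent_simpCl {F V G : Type} [Field F] [Finite F] [AddCommGroup V] [Module F V] [FiniteDimensional F V]
    [Group G] [DistribMulAction G V] {B : LinearMap.BilinForm F V} {N : Subgroup G} (h : Ev B N)
    (a : V →ₗ[F] V) (hadj : ∀ u v, B (a u) v = B u (a v)) (hirr : Irreducible (minpoly F a))
    (hdeg : 2 ≤ (minpoly F a).natDegree) (hdim : 4 ≤ Module.finrank F V)
    (h42 : Module.finrank F V = 4 → 2 < Nat.card F) : SimpCl (centN N a) := by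
  have hfact : Fact (Irreducible (minpoly F a)) := ⟨hirr⟩
  -- the action of `L = F[X] / (minpoly)`
  let ev : F[X] →+* Module.End F V := ((aeval (R := F) (A := Module.End F V) a : F[X] →ₐ[F] Module.End F V) : F[X] →+* Module.End F V)
  have hev : ∀ p ∈ Ideal.span {minpoly F a}, ev p = 0 := by
    intro p hp
    obtain ⟨q, rfl⟩ := Ideal.mem_span_singleton.1 hp
    rw [map_mul]
    have : ev (minpoly F a) = 0 := minpoly.aeval F a
    rw [this, zero_mul]
  let toEnd : AdjoinRoot (minpoly F a) →+* Module.End F V := Ideal.Quotient.lift _ ev hev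
  have hmk : ∀ p : F[X], toEnd (AdjoinRoot.mk _ p) = aeval a p := fun p => Ideal.Quotient.lift_mk _ _ _
  let _ : Module (AdjoinRoot (minpoly F a)) V := Module.compHom V toEnd
  have hsmul : ∀ (p : F[X]) (v : V), (AdjoinRoot.mk (minpoly F a) p) • v = (aeval a p : Module.End F V) v := by
    intro p v
    show toEnd (AdjoinRoot.mk (minpoly F a) p) v = _
    rw [hmk]
  have hst : IsScalarTower F (AdjoinRoot (minpoly F a)) V := by
    refine ⟨fun x y v => ?_⟩
    obtain ⟨p, rfl⟩ := AdjoinRoot.mk_surjective y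
    rw [AdjoinRoot.smul_mk, hsmul, hsmul, map_smul, LinearMap.smul_apply]
  have hfdL : FiniteDimensional F (AdjoinRoot (minpoly F a)) := (AdjoinRoot.powerBasis hirr.ne_zero).finite
  have hfr : finrank F (AdjoinRoot (minpoly F a)) = (minpoly F a).natDegree := by
    rw [(AdjoinRoot.powerBasis hirr.ne_zero).finrank, AdjoinRoot.powerBasis_dim]
  have hadjL : ∀ (c : AdjoinRoot (minpoly F a)) (u v : V), B (c • u) v = B u (c • v) := by
    intro c u v
    obtain ⟨p, rfl⟩ := AdjoinRoot.mk_surjective c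
    rw [hsmul, hsmul]
    induction p using Polynomial.induction_on' generalizing u v with
    | add p q hp hq => rw [map_add, LinearMap.add_apply, LinearMap.add_apply, map_add, LinearMap.add_apply, map_add, hp, hq]
    | monomial n c =>
      rw [aeval_monomial]
      have h1 : ∀ w : V, (algebraMap F (Module.End F V) c * a ^ n) w = c • (a ^ n) w := fun w => rfl
      rw [h1, h1, map_smul, LinearMap.smul_apply, map_smul]
      congr 1
      clear h1
      induction n generalizing u v with
      | zero => rfl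
      | succ n ih =>
        rw [pow_succ, Module.End.mul_apply, ih, hadj, ← Module.End.mul_apply, ← pow_succ', ← pow_succ]
  have hcent : centL (V := V) (AdjoinRoot (minpoly F a)) N = centN N a := by
    ext g
    constructor
    · rintro ⟨hg, hc⟩
      refine ⟨hg, fun v => ?_⟩
      have := hc (AdjoinRoot.mk _ X) v
      rwa [hsmul, hsmul, aeval_X] at this
    · rintro ⟨hg, hc⟩
      refine ⟨hg, fun c v => ?_⟩
      obtain ⟨p, rfl⟩ := AdjoinRoot.mk_surjective c
      rw [hsmul, hsmul]
      induction p using Polynomial.induction_on' generalizing v with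
      | add p q hp hq => rw [map_add, LinearMap.add_apply, LinearMap.add_apply, smul_add, hp, hq]
      | monomial n c =>
        rw [aeval_monomial]
        have h1 : ∀ w : V, (algebraMap F (Module.End F V) c * a ^ n) w = c • (a ^ n) w := fun w => rfl
        rw [h1, h1, h.lin hg]
        congr 1
        clear h1
        induction n generalizing v with
        | zero => rfl
        | succ n ih => rw [pow_succ, Module.End.mul_apply, Module.End.mul_apply, ih, hc]
  rw [← hcent]
  exact centL_simpCl h hadjL (by rw [hfr]; exact hdeg) hdim h42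

end Cfsg.Agent.H957.RC
end

-- part: H842/RC/Split
section
/-!
# S3510, symplectic groups in characteristic two: decompositions and the M-rule for a nondegenerate subspace (helper842)

* `lft`, `lf_lft`, `spEnv` : from the environment `Ev` (helper385) to the environment `SpEnv` (helper520);
* `resN` : restriction of an element of `N` to an invariant subspace; `exists_emb` : the elements trivial on `Aᗮ`;
* `sp_rule` : the M-rule for `Sp(A)`, `A` nondegenerate;
* `exists_split` : `a` self-adjoint with reducible squarefree minimal polynomial: decomposition;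
* `exists_split_scalar` : `g + g⁻¹` scalar, `g² ≠ 1`: invariant nondegenerate plane;
* `sp_two_four` : elements of `Sp₂(4)`.
-/

set_option autoImplicit false
set_option linter.unusedVariables false
set_option linter.unusedSectionVars false

namespace Cfsg.Agent.H842.RC

open Cfsg Cfsg.Agent.H106.RC Cfsg.Agent.H520.RC Cfsg.Agent.H385.RC Cfsg.Agent.H957.RC Module MulAction

section env

variable {F V G : Type*} [Field F] [AddCommGroup V] [Module F V] [Group G] [DistribMulAction G V]
  {B : LinearMap.BilinForm F V} {N : Subgroup G}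

/-- the action of `x` as a semisimilitude -/
noncomputable def lft (h : Ev B N) (x : G) : SS B where
  f := DistribMulAction.toAddEquiv V x
  σ := (h.semi x).choose
  l := 1
  hl := one_ne_zero
  smul' := (h.semi x).choose_spec.1
  form' u v := by rw [one_mul]; exact (h.semi x).choose_spec.2 u v

theorem lft_apply (h : Ev B N) (x : G) (v : V) : lft h x v = x • v := rfl

theorem lf_lft (h : Ev B N) (x : G) : Lf h.rho x (lft h x) := by
  intro t
  apply h.ext
  intro v
  rw [mul_smul, mul_smul, h.rho_apply, h.rho_apply]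
  have h1 := SS.cj_apply (lft h x) t (x⁻¹ • v)
  rw [lft_apply, lft_apply, smul_inv_smul] at h1
  exact h1.symm

theorem spEnv [Finite F] [FiniteDimensional F V] (h : Ev B N) {Ω : Type*} [MulAction G Ω] (hE : Env G Ω N)
    (hdim : 4 ≤ finrank F V) : SpEnv Ω N h.rho where
  env := hE
  form := h.nalt
  range := h.range_rho
  ker t := by
    constructor
    · intro ht
      exact ⟨1, fun v => by rw [one_smul, ← h.rho_apply, ht, one_smul]⟩
    · intro ht
      have h1 : t ∈ Subgroup.center (Sp B) := (mem_center_Sp h.nalt).2 ht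
      rw [center_Sp h.nalt h.two, Subgroup.mem_bot] at h1
      rw [h1, map_one]
  lift x := ⟨_, lf_lft h x⟩
  dim := hdim

/-- restriction of an element of `N` to an invariant subspace -/
noncomputable def resN [Finite V] (h : Ev B N) {g : G} (hg : g ∈ N) {A : Submodule F V} (hA : ∀ v ∈ A, g • v ∈ A) :
    Sp (B.restrict A) :=
  ⟨LinearEquiv.ofBijective
    ({ toFun := fun a => ⟨g • (a : V), hA a a.2⟩
       map_add' := fun a b => Subtype.ext (smul_add g (a : V) (b : V))
       map_smul' := fun c a => Subtype.ext (h.lin hg c (a : V)) } : A →ₗ[F] A) (by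
      rw [← Finite.injective_iff_bijective]
      intro a b hab
      exact Subtype.ext (MulAction.injective g (congrArg Subtype.val hab))), fun u v => h.isom hg u v⟩

theorem resN_apply [Finite V] (h : Ev B N) {g : G} (hg : g ∈ N) {A : Submodule F V} (hA : ∀ v ∈ A, g • v ∈ A) (a : A) :
    (((resN h hg hA).1 a : A) : V) = g • (a : V) := rfl

theorem resN_eq_one [Finite V] (h : Ev B N) {g : G} (hg : g ∈ N) {A : Submodule F V} (hA : ∀ v ∈ A, g • v ∈ A) :
    resN h hg hA = 1 ↔ ∀ v ∈ A, g • v = v := by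
  constructor
  · intro h1 v hv
    have h2 := resN_apply h hg hA ⟨v, hv⟩
    rw [h1] at h2
    exact h2.symm
  · intro h1
    apply Subtype.ext
    apply LinearEquiv.ext
    intro v
    exact Subtype.ext (h1 v v.2)

theorem nondeg_of [FiniteDimensional F V] (h : NAlt B) : B.Nondegenerate := by
  rw [LinearMap.BilinForm.nondegenerate_iff_ker_eq_bot, LinearMap.ker_eq_bot']
  intro u hu
  exact h.nd u fun w => by rw [hu]; rfl

theorem refl_of (h : NAlt B) : B.IsRefl := fun x y hxy => h.swap0 hxy

/-- an element of `N` trivial on `Aᗮ` preserves `A` -/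
theorem stable_of_orth [FiniteDimensional F V] (h : Ev B N) {g : G} (hg : g ∈ N) {A : Submodule F V}
    (hA : ∀ v ∈ B.orthogonal A, g • v = v) : ∀ v ∈ A, g • v ∈ A := by
  intro v hv
  have h1 := LinearMap.BilinForm.orthogonal_orthogonal (nondeg_of h.nalt) (refl_of h.nalt) A
  rw [← h1, LinearMap.BilinForm.mem_orthogonal_iff]
  intro w hw
  show B w (g • v) = 0
  rw [← hA w hw, h.isom hg]
  exact h.nalt.swap0 (hw v hv)

/-- the elements of `N` trivial on `Aᗮ` come from `Sp(A)` -/
theorem exists_emb [Finite V] [FiniteDimensional F V] (h : Ev B N) {g : G} (hg : g ∈ N) {A : Submodule F V}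
    (hA : NAlt (B.restrict A)) (hgA : ∀ v ∈ B.orthogonal A, g • v = v) : ∃ t, h.rho (emb h.nalt hA t) = g := by
  refine ⟨resN h hg (stable_of_orth h hg hgA), ?_⟩
  obtain ⟨s, rfl⟩ := h.rho_surj hg
  congr 1
  apply ext_orth h.nalt hA
  · intro a ha
    have h1 := emb_apply_mem h.nalt hA (resN h hg (stable_of_orth h hg hgA)) ⟨a, ha⟩
    rw [resN_apply, h.rho_apply] at h1
    exact h1
  · intro d hd
    rw [emb_apply_orth h.nalt hA _ hd]
    have h1 := hgA d hd
    rw [h.rho_apply] at h1
    exact h1.symm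

/-- `x` preserving `A` commutes with `Sp(A)` iff it is trivial on `A` -/
theorem cent_emb_iff [Finite F] [FiniteDimensional F V] (h : Ev B N) {x : G} (hx : x ∈ N) {A : Submodule F V}
    (hA : NAlt (B.restrict A)) (hxA : ∀ v ∈ A, x • v ∈ A) :
    (∀ s, x * h.rho (emb h.nalt hA s) = h.rho (emb h.nalt hA s) * x) ↔ ∀ v ∈ A, x • v = v := by
  have : Finite V := Module.finite_of_finite F
  constructor
  · intro hc
    rw [← resN_eq_one h hx hxA, ← Subgroup.mem_bot, ← center_Sp hA h.two, Subgroup.mem_center_iff]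
    intro s
    apply Subtype.ext
    apply LinearEquiv.ext
    intro a
    apply Subtype.ext
    have h1 := congrArg (fun z : G => z • (a : V)) (hc s)
    simp only [mul_smul, h.rho_apply] at h1
    rw [emb_apply_mem] at h1
    have h2 := emb_apply_mem h.nalt hA s ⟨x • (a : V), hxA a a.2⟩
    change (emb h.nalt hA s).1 (x • (a : V)) = _ at h2
    rw [h2] at h1
    exact h1.symm
  · intro hv s
    apply h.ext
    intro v
    obtain ⟨c, d, hd, rfl⟩ := Cfsg.Agent.H727.GW.exists_decomp h.nalt.alt A (sub_nd hA) v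
    have h3 : x • d ∈ B.orthogonal A := by
      have := (lft h x).orth_mem A hxA hd
      exact this
    rw [mul_smul, mul_smul, smul_add, smul_add, smul_add, smul_add, h.rho_apply, h.rho_apply, h.rho_apply, h.rho_apply,
      emb_apply_mem, emb_apply_orth h.nalt hA _ hd, emb_apply_orth h.nalt hA _ h3, hv _ (SetLike.coe_mem _), hv _ c.2,
      emb_apply_mem]

theorem emb_not_surj [FiniteDimensional F V] (hB : NAlt B) {A : Submodule F V} (hA : NAlt (B.restrict A))
    (hAt : A ≠ ⊤) : ¬ Function.Surjective (emb hB hA) := by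
  intro hs
  obtain ⟨d, hd, hd0⟩ : ∃ d ∈ B.orthogonal A, d ≠ 0 := by
    by_contra hno
    push Not at hno
    apply hAt
    rw [eq_top_iff]
    intro v _
    obtain ⟨c, d, hd, rfl⟩ := Cfsg.Agent.H727.GW.exists_decomp hB.alt A (sub_nd hA) v
    rw [hno d hd, add_zero]
    exact c.2
  obtain ⟨s, hs⟩ := hs (tv hB d 1)
  apply hd0
  apply hB.nd' d
  intro v
  obtain ⟨c, d', hd', rfl⟩ := Cfsg.Agent.H727.GW.exists_decomp hB.alt A (sub_nd hA) v
  have h1 : B (c : V) d = 0 := (LinearMap.BilinForm.mem_orthogonal_iff.1 hd) c c.2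
  have h2 := emb_apply_orth hB hA s hd'
  rw [hs, tv_apply, one_mul, add_eq_left, smul_eq_zero] at h2
  rw [map_add, LinearMap.add_apply, h1, zero_add]
  rcases h2 with h2 | h2
  · exact h2
  · exact absurd h2 hd0

end env

section rule

variable {F V G Ω S : Type} [Field F] [Finite F] [AddCommGroup V] [Module F V] [FiniteDimensional F V] [Group G]
  [Finite G] [DistribMulAction G V] {B : LinearMap.BilinForm F V} {N : Subgroup G} [MulAction G Ω] [Group S] [Finite S]

/-- **M-rule for `Sp(A)`**, `A` a nondegenerate subspace. -/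
theorem sp_rule (h : Ev B N) (hE : Env G Ω N) (hIH : IH (Nat.card S)) (eS : N ≃* S) (hdim : 4 ≤ finrank F V)
    (hV : 6 ≤ finrank F V ∨ (finrank F V = 4 ∧ 3 ≤ Nat.card F) ∨ 4 ≤ Nat.card F)
    {ι : Type} [Finite ι] {x : ι → G} {r : ι → ℕ} (hx : PF x r) (hcov : Cov Ω x) (hN : ∀ i, x i ∈ N)
    {A : Submodule F V} (hA : NAlt (B.restrict A)) (hAt : A ≠ ⊤) (hinv : ∀ i, ∀ v ∈ A, x i • v ∈ A)
    (hd : 6 ≤ finrank F A ∨ (finrank F A = 4 ∧ 3 ≤ Nat.card F) ∨ (finrank F A ≠ 0 ∧ 4 ≤ Nat.card F))
    (hg : ¬ Exc (Sp (B.restrict A) ⧸ Subgroup.center (Sp (B.restrict A))) ∨ ∃ i₀, ∀ i, i ≠ i₀ → ∀ v ∈ A, x i • v = v)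
    (ω : Ω) :
    (∀ g ∈ N, (∀ v ∈ B.orthogonal A, g • v = v) → g • ω = ω) ∨ ∃ i, (∀ v ∈ A, x i • v = v) ∧ x i • ω = ω := by
  have : Finite V := Module.finite_of_finite F
  have hfd : Finite A := inferInstance
  have : Finite (Sp (B.restrict A)) := Finite.of_injective (fun t : Sp (B.restrict A) => (t.1 : A → A)) fun s t hst =>
    Subtype.ext (LinearEquiv.ext fun v => congrFun hst v)
  have E := spEnv h hE hdim
  have hd' : 6 ≤ finrank F A ∨ (finrank F A = 4 ∧ 3 ≤ Nat.card F) ∨ 4 ≤ Nat.card F := by (clear * - hd; tauto)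
  have hcard : Nat.card N = Nat.card S := Nat.card_congr eS.toEquiv
  rcases E.mrule (by rw [hcard]; exact hIH) (emb h.nalt hA) (emb_injective h.nalt hA)
    (E.range_ne (perfect_Sp h.nalt hV) (emb h.nalt hA) (emb_not_surj h.nalt hA hAt)) (perfect_Sp hA hd')
    (simple_Sp hA hd) (ncomm_Sp hA hd) (fun i => lf_lft h (x i)) hx hcov
    (fun i s => ⟨_, cj_emb h.nalt hA (lft h (x i)) (hinv i) s⟩)
    (by
      rcases hg with hg | ⟨i₀, hi₀⟩
      · exact Or.inl ⟨cl_Sp hA hd, hg⟩
      · exact Or.inr ⟨i₀, fun i hi => (cent_emb_iff h (hN i) hA (hinv i)).2 (hi₀ i hi)⟩) ω with h1 | ⟨i, h1, h2⟩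
  · left
    intro g hg hgA
    obtain ⟨t, rfl⟩ := exists_emb h hg hA hgA
    exact h1 t
  · exact Or.inr ⟨i, (cent_emb_iff h (hN i) hA (hinv i)).1 h1, h2⟩

end rule

section lin

variable {F V G : Type*} [Field F] [AddCommGroup V] [Module F V] [Group G] [DistribMulAction G V]
  {B : LinearMap.BilinForm F V} {N : Subgroup G}

open Polynomial in
/-- elements of `N` commuting with `a` commute with the polynomials in `a` -/
theorem aeval_comm (h : Ev B N) (a : V →ₗ[F] V) {g : G} (hg : g ∈ N) (hc : ∀ v, g • a v = a (g • v)) (p : F[X]) (v : V) :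
    g • (aeval a p : Module.End F V) v = (aeval a p : Module.End F V) (g • v) := by
  induction p using Polynomial.induction_on' generalizing v with
  | add p q hp hq => rw [map_add, LinearMap.add_apply, LinearMap.add_apply, smul_add, hp, hq]
  | monomial n c =>
    rw [aeval_monomial]
    have h1 : ∀ w : V, (algebraMap F (Module.End F V) c * a ^ n) w = c • (a ^ n) w := fun w => rfl
    rw [h1, h1, h.lin hg]
    congr 1
    clear h1
    induction n generalizing v with
    | zero => rfl
    | succ n ih => rw [pow_succ, Module.End.mul_apply, Module.End.mul_apply, ih, hc]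

open Polynomial in
/-- polynomials in a self-adjoint map are self-adjoint -/
theorem aeval_adj (a : V →ₗ[F] V) (hadj : ∀ u v, B (a u) v = B u (a v)) (p : F[X]) (u v : V) :
    B ((aeval a p : Module.End F V) u) v = B u ((aeval a p : Module.End F V) v) := by
  induction p using Polynomial.induction_on' generalizing u v with
  | add p q hp hq => rw [map_add, LinearMap.add_apply, LinearMap.add_apply, map_add, LinearMap.add_apply, map_add, hp, hq]
  | monomial n c =>
    rw [aeval_monomial]
    have h1 : ∀ w : V, (algebraMap F (Module.End F V) c * a ^ n) w = c • (a ^ n) w := fun w => rfl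
    rw [h1, h1, map_smul, LinearMap.smul_apply, map_smul]
    congr 1
    clear h1
    induction n generalizing u v with
    | zero => rfl
    | succ n ih =>
      rw [pow_succ, Module.End.mul_apply, ih, hadj, ← Module.End.mul_apply, ← pow_succ', ← pow_succ]

open Polynomial in
/-- **Decomposition** from a self-adjoint element with reducible squarefree minimal polynomial. -/
theorem exists_split [FiniteDimensional F V] [Nontrivial V] (h : Ev B N) (a : V →ₗ[F] V)
    (hadj : ∀ u v, B (a u) v = B u (a v)) (hsq : Squarefree (minpoly F a)) (hirr : ¬ Irreducible (minpoly F a)) :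
    ∃ A : Submodule F V, A ≠ ⊥ ∧ A ≠ ⊤ ∧ NAlt (B.restrict A) ∧
      ∀ g ∈ N, (∀ v, g • a v = a (g • v)) → ∀ v ∈ A, g • v ∈ A := by
  have hint : IsIntegral F a := Algebra.IsIntegral.isIntegral a
  have hnu : ¬ IsUnit (minpoly F a) := minpoly.not_isUnit F a
  obtain ⟨p, q, hpq, hp, hq⟩ : ∃ p q, minpoly F a = p * q ∧ ¬ IsUnit p ∧ ¬ IsUnit q := by
    by_contra hno
    push Not at hno
    apply hirr
    refine ⟨hnu, fun p q hpq => ?_⟩
    by_contra hno2
    push Not at hno2
    exact hno2.2 (hno p q hpq hno2.1)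
  have hcop : IsCoprime p q := by
    rw [hpq, squarefree_mul_iff] at hsq
    exact hsq.1.isCoprime
  have hp0 : p ≠ 0 := by rintro rfl; rw [zero_mul] at hpq; exact minpoly.ne_zero hint hpq
  have hq0 : q ≠ 0 := by rintro rfl; rw [mul_zero] at hpq; exact minpoly.ne_zero hint hpq
  have hpq0 : (aeval a (p * q) : Module.End F V) = 0 := by rw [← hpq]; exact minpoly.aeval F a
  have hpne : (aeval a p : Module.End F V) ≠ 0 := by
    intro h1
    have h2 := minpoly.dvd F a h1
    rw [hpq] at h2
    have h3 : p * q ∣ p * 1 := by rwa [mul_one]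
    exact hq (isUnit_of_dvd_one ((mul_dvd_mul_iff_left hp0).1 h3))
  have hqne : (aeval a q : Module.End F V) ≠ 0 := by
    intro h1
    have h2 := minpoly.dvd F a h1
    rw [hpq] at h2
    have h3 : p * q ∣ 1 * q := by rwa [one_mul]
    exact hp (isUnit_of_dvd_one ((mul_dvd_mul_iff_right hq0).1 h3))
  obtain ⟨α, β, hαβ⟩ := hcop
  -- `v = α(a) p(a) v + β(a) q(a) v`
  have hdec : ∀ v : V, v = (aeval a (α * p) : Module.End F V) v + (aeval a (β * q) : Module.End F V) v := by
    intro v
    rw [← LinearMap.add_apply, ← map_add, hαβ, map_one]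
    rfl
  have hzero : ∀ (s : F[X]) (v : V), (aeval a p : Module.End F V) ((aeval a (s * q) : Module.End F V) v) = 0 := by
    intro s v
    rw [← Module.End.mul_apply, ← map_mul, show p * (s * q) = s * (p * q) by ring, map_mul, hpq0, mul_zero]
    rfl
  refine ⟨LinearMap.ker (aeval a p : Module.End F V), ?_, ?_, ?_, ?_⟩
  · intro hb
    apply hqne
    apply LinearMap.ext
    intro v
    have h1 : (aeval a q : Module.End F V) v ∈ LinearMap.ker (aeval a p : Module.End F V) := by
      rw [LinearMap.mem_ker]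
      have := hzero 1 v
      rwa [one_mul] at this
    rw [hb, Submodule.mem_bot] at h1
    exact h1
  · intro ht
    apply hpne
    exact LinearMap.ker_eq_top.1 ht
  · refine ⟨fun v => h.alt v, fun u hu => ?_⟩
    apply Subtype.ext
    apply h.nd
    intro v
    have h1 : B (u : V) ((aeval a (α * p) : Module.End F V) v) = 0 := by
      rw [← aeval_adj a hadj, map_mul, Module.End.mul_apply, LinearMap.mem_ker.1 u.2, map_zero, map_zero,
        LinearMap.zero_apply]
    have h2 : B (u : V) ((aeval a (β * q) : Module.End F V) v) = 0 :=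
      hu ⟨_, LinearMap.mem_ker.2 (hzero β v)⟩
    rw [hdec v, map_add, h1, h2, add_zero]
  · intro g hg hc v hv
    rw [LinearMap.mem_ker] at hv ⊢
    rw [← aeval_comm h a hg hc, hv, smul_zero]

/-- a plane spanned by a hyperbolic pair -/
theorem plane_of (hB : NAlt B) {v w : V} (hvw : B v w ≠ 0) :
    NAlt (B.restrict (Submodule.span F {v, w})) ∧ finrank F (Submodule.span F ({v, w} : Set V)) = 2 := by
  have h1 : NAlt (B.restrict (Submodule.span F {v, w})) := by
    refine ⟨fun u => hB.alt u, ?_⟩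
    rintro ⟨u, hu⟩ h2
    apply Subtype.ext
    show u = 0
    obtain ⟨a, b, rfl⟩ := Submodule.mem_span_pair.1 hu
    have hv : B (a • v + b • w) v = 0 := h2 ⟨v, Submodule.subset_span (by simp)⟩
    have hw : B (a • v + b • w) w = 0 := h2 ⟨w, Submodule.subset_span (by simp)⟩
    rw [map_add, map_smul, map_smul, LinearMap.add_apply, LinearMap.smul_apply, LinearMap.smul_apply, hB.alt, smul_zero,
      zero_add, smul_eq_mul] at hv
    rw [map_add, map_smul, map_smul, LinearMap.add_apply, LinearMap.smul_apply, LinearMap.smul_apply, hB.alt, smul_zero,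
      add_zero, smul_eq_mul] at hw
    have hwv : B w v ≠ 0 := by rw [hB.swap]; exact neg_ne_zero.2 hvw
    rw [(mul_eq_zero.1 hw).resolve_right hvw, (mul_eq_zero.1 hv).resolve_right hwv, zero_smul, zero_smul, add_zero]
  refine ⟨h1, ?_⟩
  have hfd : FiniteDimensional F (Submodule.span F ({v, w} : Set V)) :=
    FiniteDimensional.span_of_finite F (Set.toFinite _)
  obtain ⟨m, hm⟩ := exists_dim h1
  have h2 : finrank F (Submodule.span F ({v, w} : Set V)) ≤ 2 := by
    classical
    have h3 := finrank_span_finset_le_card (R := F) ({v, w} : Finset V)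
    rw [Finset.coe_pair] at h3
    exact h3.trans Finset.card_le_two
  have hv0 : v ≠ 0 := by
    rintro rfl
    rw [map_zero] at hvw
    exact hvw rfl
  have h3 : finrank F (Submodule.span F ({v, w} : Set V)) ≠ 0 := by
    intro h4
    have h5 := Submodule.finrank_eq_zero.1 h4
    have h6 : v ∈ Submodule.span F ({v, w} : Set V) := Submodule.subset_span (by simp)
    rw [h5, Submodule.mem_bot] at h6
    exact hv0 h6
  omega

/-- `g + g⁻¹` scalar, `g² ≠ 1`: an invariant nondegenerate plane -/
theorem exists_split_scalar (h : Ev B N) {g : G} (hg : g ∈ N) {τ : F} (hτ : ∀ v : V, g • v + g⁻¹ • v = τ • v)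
    (hg2 : g * g ≠ 1) : ∃ A : Submodule F V, finrank F A = 2 ∧ NAlt (B.restrict A) ∧ ∀ v ∈ A, g • v ∈ A := by
  obtain ⟨v, hv⟩ : ∃ v : V, B v (g • v) ≠ 0 := by
    by_contra hno
    push Not at hno
    apply hg2
    apply h.inj
    intro w
    rw [mul_smul]
    have h1 : ∀ u : V, B (g • w + g⁻¹ • w) u = 0 := by
      intro u
      have h2 := hno (u + w)
      rw [smul_add, map_add, map_add, LinearMap.add_apply, LinearMap.add_apply, hno, hno, zero_add, add_zero] at h2
      have h3 : B w (g • u) = B (g⁻¹ • w) u := by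
        have := h.isom (N.inv_mem hg) w (g • u)
        rw [inv_smul_smul] at this
        exact this.symm
      rw [map_add, LinearMap.add_apply, ← h3, h.symm (g • w) u]
      rw [h3] at h2 ⊢
      linear_combination h2
    have h4 := h.nd _ h1
    have h5 : g • w = g⁻¹ • w := by
      rw [← h.vneg (g⁻¹ • w)]
      exact eq_neg_of_add_eq_zero_left h4
    rw [h5, smul_inv_smul]
  refine ⟨_, (plane_of h.nalt hv).2, (plane_of h.nalt hv).1, ?_⟩
  intro u hu
  obtain ⟨a, b, rfl⟩ := Submodule.mem_span_pair.1 hu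
  rw [smul_add, h.lin hg, h.lin hg]
  have h1 : g • g • v = τ • g • v + v := by
    have h2 := hτ (g • v)
    rw [inv_smul_smul] at h2
    rw [← h2, add_assoc, h.vadd_self, add_zero]
  rw [h1]
  refine Submodule.mem_span_pair.2 ⟨b, a + b * τ, ?_⟩
  rw [smul_add, smul_smul, add_smul]
  abel

end lin

section four

variable {F V : Type*} [Field F] [AddCommGroup V] [Module F V] [FiniteDimensional F V] {B : LinearMap.BilinForm F V}

/-- in dimension two, `t + t⁻¹` is a scalar -/
theorem two_scal (hB : NAlt B) (hd : finrank F V = 2) (t : Sp B) :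
    ∃ τ : F, ∀ v, t.1 v + (t⁻¹).1 v = τ • v := by
  refine scal_of_lines (by omega) ((t.1 : V →ₗ[F] V) + ((t⁻¹).1 : V →ₗ[F] V)).toAddMonoidHom fun v => ?_
  show ∃ c : F, t.1 v + (t⁻¹).1 v = c • v
  by_cases hv : v = 0
  · exact ⟨0, by rw [hv, map_zero, map_zero, add_zero, zero_smul]⟩
  obtain ⟨w, hw⟩ := hB.exists_one hv
  have hw0 : B v w ≠ 0 := by rw [hw]; exact one_ne_zero
  have htop : Submodule.span F ({v, w} : Set V) = ⊤ :=
    Submodule.eq_top_of_finrank_eq (by rw [(plane_of hB hw0).2, hd])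
  have h1 : t.1 v + (t⁻¹).1 v ∈ Submodule.span F ({v, w} : Set V) := by rw [htop]; trivial
  obtain ⟨a, b, hab⟩ := Submodule.mem_span_pair.1 h1
  have h2 : B (t.1 v + (t⁻¹).1 v) v = 0 := by
    have h3 : B ((t⁻¹).1 v) v = B v (t.1 v) := by
      have h4 := t.2 ((t⁻¹).1 v) v
      rw [← h4]
      congr 2
      show t.1 (t.1.symm v) = v
      exact LinearEquiv.apply_symm_apply _ _
    rw [map_add, LinearMap.add_apply, h3, hB.swap (t.1 v) v, neg_add_cancel]
  rw [← hab, map_add, map_smul, map_smul, LinearMap.add_apply, LinearMap.smul_apply, LinearMap.smul_apply, hB.alt,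
    smul_zero, zero_add, smul_eq_mul, hB.swap w v, hw, mul_neg, mul_one, neg_eq_zero] at h2
  exact ⟨a, by rw [← hab, h2, zero_smul, add_zero]⟩

/-- the orders of the elements of `Sp₂(4)` -/
theorem sp_two_four [Finite F] (hB : NAlt B) (h2 : (2 : F) = 0) (hF : Nat.card F = 4) (hd : finrank F V = 2) (t : Sp B) :
    t ^ 2 = 1 ∨ t ^ 3 = 1 ∨ t ^ 5 = 1 := by
  obtain ⟨τ, hτ⟩ := two_scal hB hd t
  have hneg : ∀ v : V, v + v = 0 := fun v => by rw [← two_smul F v, h2, zero_smul]
  have hsq : ∀ v, t.1 (t.1 v) = τ • t.1 v + v := by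
    intro v
    have h3 := hτ (t.1 v)
    have h4 : (t⁻¹).1 (t.1 v) = v := LinearEquiv.symm_apply_apply t.1 v
    rw [h4] at h3
    rw [← h3, add_assoc, hneg, add_zero]
  have hp : ∀ (n : ℕ) (v : V), (t ^ (n + 1)).1 v = t.1 ((t ^ n).1 v) := by
    intro n v
    rw [pow_succ']
    rfl
  have h0 : ∀ v, (t ^ 0).1 v = v := fun v => rfl
  have hfin : τ = 0 ∨ τ ^ 3 = 1 := by
    by_cases h : τ = 0
    · exact Or.inl h
    · right
      have : Fintype F := Fintype.ofFinite F
      have h3 := FiniteField.pow_card_sub_one_eq_one τ h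
      rw [← Nat.card_eq_fintype_card, hF] at h3
      exact h3
  have hext : ∀ s : Sp B, (∀ v, s.1 v = v) → s = 1 := fun s hs => Subtype.ext (LinearEquiv.ext hs)
  rcases hfin with h | h
  · left
    apply hext
    intro v
    rw [hp, hp, h0, hsq, h, zero_smul, zero_add]
  · right
    have hfac : (τ + 1) * (τ ^ 2 + τ + 1) = 0 := by linear_combination h + (τ ^ 2 + τ + 1) * h2
    rcases mul_eq_zero.1 hfac with h3 | h3
    · left
      have h4 : τ = 1 := by linear_combination h3 - h2
      apply hext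
      intro v
      rw [hp, hp, hp, h0, hsq v, map_add, map_smul, hsq v, h4, one_smul, one_smul]
      have h5 := hneg (t.1 v)
      calc t.1 v + v + t.1 v = (t.1 v + t.1 v) + v := by abel
        _ = v := by rw [h5, zero_add]
    · right
      apply hext
      intro v
      rw [hp, hp, hp, hp, hp, h0]
      simp only [hsq, map_add, map_smul, smul_add, smul_smul]
      have key : (τ * τ * τ * τ + τ * τ + τ * τ + τ * τ + 1) • t.1 v + (τ * τ * τ + τ + τ) • v = v := by
        have c1 : τ * τ * τ * τ + τ * τ + τ * τ + τ * τ + 1 = 0 := by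
          linear_combination (τ ^ 2 - τ + 3) * h3 + (-τ - 1) * h2
        have c2 : τ * τ * τ + τ + τ = 1 := by linear_combination h + τ * h2
        rw [c1, c2, zero_smul, one_smul, zero_add]
      rw [← sub_eq_zero]
      rw [← sub_eq_zero] at key
      rw [← key]
      module

end four

end Cfsg.Agent.H842.RC
end

private theorem dce_232a083938b6 : _root_.True := by
  try have : _root_.True := by simp only [_root_.Cfsg.Agent.H385.RC.Ev.rho.congr_simp]
  try have : _root_.True := by simp only [_root_.Cfsg.Agent.H520.RC.emb.congr_simp]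
  try have : _root_.True := by simp only [_root_.Cfsg.Agent.H957.RC.bl.eq_1]
  try have : _root_.True := by simp only [_root_.Cfsg.Agent.H385.RC.Ev.sr.congr_simp]
  exact _root_.True.intro
end

section
prune_inst 0xbeeafbabf8a7fedfff7e7fa6dccdfdfdb93fffa4fff9cbffe069ff0bdf4b004dc5ab8d0fe810fe0ff7401410e87b43fffffeffe26bfc7ffffd5ff41ffbff8fedf7b50811d488340f3c0ff603f0778e7f000000000000000000000000000000000200000000

-- part: H385/RC/Dec_mg
section
prune_inst 0x410400100510000000018008201000020480001000000000008200c020909a8022502080138b00100002200c040000000000000000000000000000400000001000080100080080000000000000000000000000000000000000000000000010000000000000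
set_option linter.all false
open scoped Cfsg.Agent.FastGrp

-- part: H385/RC/Dec
section
/-!
# S3510, symplectic groups in characteristic two: orthogonal decompositions (helper385)

* `Ev.MA A` : the elements of `N` trivial on `Aᗮ`, isomorphic to `Sp (B.restrict A)`
* `Ev.step1`, `Ev.step2`, `Ev.dec_rule`.
-/

set_option autoImplicit false
set_option linter.unusedVariables false
set_option linter.unusedSimpArgs false
set_option linter.unusedSectionVars false

namespace Cfsg.Agent.H385.RC

open Cfsg Cfsg.Agent.H106.RC Cfsg.Agent.H520.RC Cfsg.Agent.H380.RC Module Submodule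

section

variable {F V G : Type*} [Field F] [AddCommGroup V] [Module F V] [FiniteDimensional F V] [Group G] [DistribMulAction G V]
  {B : LinearMap.BilinForm F V} {N : Subgroup G}

omit [FiniteDimensional F V] in
theorem Ev.mem_orth (h : Ev B N) {A : Submodule F V} {w : V} : w ∈ B.orthogonal A ↔ ∀ a ∈ A, B w a = 0 := by
  rw [LinearMap.BilinForm.mem_orthogonal_iff]
  constructor
  · intro hw a ha
    rw [h.symm]; exact hw a ha
  · intro hw a ha
    show B a w = 0
    rw [h.symm]; exact hw a ha

theorem Ev.nondeg (h : Ev B N) : B.Nondegenerate := by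
  rw [LinearMap.BilinForm.nondegenerate_iff_ker_eq_bot, LinearMap.ker_eq_bot']
  intro u hu
  exact h.nd u fun w => by rw [hu]; rfl

theorem Ev.orth_orth (h : Ev B N) (A : Submodule F V) : B.orthogonal (B.orthogonal A) = A :=
  LinearMap.BilinForm.orthogonal_orthogonal h.nondeg h.alt.isRefl A

theorem Ev.mem_of_orth_orth (h : Ev B N) {A : Submodule F V} {v : V} (hv : ∀ w ∈ B.orthogonal A, B v w = 0) : v ∈ A := by
  rw [← h.orth_orth A]
  exact h.mem_orth.2 hv

theorem Ev.finrank_add (h : Ev B N) (A : Submodule F V) :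
    finrank F A + finrank F (B.orthogonal A) = finrank F V := by
  have h1 := LinearMap.BilinForm.finrank_orthogonal h.nondeg A
  have h2 := Submodule.finrank_le A
  omega

/-- the orthogonal complement of a nondegenerate subspace is nondegenerate -/
theorem Ev.nalt_orth (h : Ev B N) {A : Submodule F V} (hA : NAlt (B.restrict A)) : NAlt (B.restrict (B.orthogonal A)) := by
  refine ⟨fun v => h.self _, fun x hx => ?_⟩
  apply Subtype.ext
  show (x : V) = 0
  have h1 : (x : V) ∈ A := h.mem_of_orth_orth fun a ha => hx ⟨a, ha⟩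
  have h2 : (⟨x, h1⟩ : A) = 0 := by
    apply hA.nd
    intro y
    show B (x : V) (y : V) = 0
    exact (h.mem_orth.1 x.2) y y.2
  exact congrArg Subtype.val h2

omit [FiniteDimensional F V] in
/-- a semilinear isometry preserving `A` preserves `Aᗮ` -/
theorem Ev.orth_inv [Finite G] (h : Ev B N) {A : Submodule F V} {x : G} (hx : ∀ v ∈ A, x • v ∈ A) :
    ∀ v ∈ B.orthogonal A, x • v ∈ B.orthogonal A := by
  intro v hv
  rw [h.mem_orth] at hv ⊢
  intro a ha
  obtain ⟨σ, -, h2⟩ := h.semi x
  have h3 := h2 v (x⁻¹ • a)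
  rw [smul_inv_smul, hv _ (inv_stable hx a ha), map_zero] at h3
  exact h3

/-- decomposition -/
theorem Ev.exists_dec (h : Ev B N) {A : Submodule F V} (hA : NAlt (B.restrict A)) (v : V) :
    ∃ a ∈ A, ∃ b ∈ B.orthogonal A, v = a + b := by
  have hd := h.finrank_add A
  have h1 : A ⊓ B.orthogonal A = ⊥ := by
    rw [eq_bot_iff]
    rintro x ⟨h1, h2⟩
    have h3 : (⟨x, h1⟩ : A) = 0 := by
      apply hA.nd
      intro y
      exact (h.mem_orth.1 h2) y y.2
    rw [Submodule.mem_bot]
    exact congrArg Subtype.val h3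
  have h2 : A ⊔ B.orthogonal A = ⊤ := by
    apply Submodule.eq_top_of_finrank_eq
    have h3 := Submodule.finrank_sup_add_finrank_inf_eq A (B.orthogonal A)
    rw [h1, finrank_bot, add_zero] at h3
    rw [h3, hd]
  have h3 : v ∈ A ⊔ B.orthogonal A := by rw [h2]; trivial
  obtain ⟨a, ha, b, hb, hab⟩ := Submodule.mem_sup.1 h3
  exact ⟨a, ha, b, hb, hab.symm⟩

end

section rules

variable {F V G Ω S : Type} [Field F] [Finite F] [AddCommGroup V] [Module F V] [FiniteDimensional F V] [Group G] [Finite G]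
  [DistribMulAction G V] {B : LinearMap.BilinForm F V} {N : Subgroup G} [MulAction G Ω] [Group S] [Finite S]
  {ι : Type} [Finite ι] {x : ι → G} {r : ι → ℕ}

end rules

end Cfsg.Agent.H385.RC
end

-- part: H842/RC/MTwoO
section
/-!
# S3510, symplectic groups in characteristic two, `m = 2`: covers by linear elements of odd order (box M2O; helper842)
-/

set_option autoImplicit false
set_option linter.unusedVariables false
set_option linter.unusedSimpArgs false
set_option linter.unusedSectionVars false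

namespace Cfsg.Agent.H842.RC

open Cfsg Cfsg.Agent.H106.RC Cfsg.Agent.H520.RC Cfsg.Agent.H385.RC Cfsg.Agent.H957.RC Cfsg.Agent.H380.RC Module MulAction

section simp

/-- simple classical subgroups are perfect, with trivial centre -/
theorem simpCl_perfect {G : Type*} [Group G] {M : Subgroup G} (hM : SimpCl M) : ⁅M, M⁆ = M := by
  have h1 : commutator M = ⊤ := by
    rcases hM.simple.eq_bot_or_eq_top_of_normal (commutator M) inferInstance with h | h
    · exfalso
      apply hM.ncomm
      constructor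
      constructor
      intro s t
      rw [← commutatorElement_eq_one_iff_mul_comm, ← Subgroup.mem_bot, ← h, commutator_def]
      exact Subgroup.commutator_mem_commutator trivial trivial
    · exact h
  have h2 := Subgroup.map_commutator (⊤ : Subgroup M) ⊤ M.subtype
  rw [← commutator_def, h1, ← MonoidHom.range_eq_map, Subgroup.range_subtype] at h2
  exact h2.symm

theorem simpCl_center {G : Type*} [Group G] (hM : SimpCl G) : Subgroup.center G = ⊥ := by
  rcases hM.simple.eq_bot_or_eq_top_of_normal (Subgroup.center G) inferInstance with h | h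
  · exact h
  · exfalso
    apply hM.ncomm
    constructor; constructor
    intro s t
    have : t ∈ Subgroup.center G := by rw [h]; trivial
    exact Subgroup.mem_center_iff.1 this s

/-- no cover by elements of a proper simple classical subgroup -/
theorem simpCl_dead {G S Ω ι : Type} [Group G] [Finite G] [Group S] [Finite S] [MulAction G Ω] [Nonempty Ω] [Finite ι]
    {N : Subgroup G} (hE : Env G Ω N) (hIH : IH (Nat.card S)) (e : N ≃* S) {M : Subgroup G} (hMN : M ≤ N) (hne : M ≠ N)
    (hM : SimpCl M) {x : ι → G} {r : ι → ℕ} (hx : PF x r) (hcov : Cov Ω x) (hxM : ∀ i, x i ∈ M) : False := by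
  have := hM.simple
  refine no_cent hE (x := x) (M := M) (fun ω => mrule_IH hIH e hMN hne (simpCl_perfect hM) (MonoidHom.id M)
    Function.surjective_id (by
      intro m hm
      have h1 : m = 1 := hm
      rw [h1]
      exact Subgroup.one_mem _) hM.simple hM.ncomm hM.cl hM.nexc hx hcov (fun i => Subgroup.le_normalizer (hxM i)) ω)
    (fun j hj => ?_) ?_
  · apply hx.ne j
    have h1 : (⟨x j, hxM j⟩ : M) ∈ Subgroup.center M := by
      rw [Subgroup.mem_center_iff]
      intro m
      exact Subtype.ext (hj m m.2).symm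
    rw [simpCl_center hM, Subgroup.mem_bot] at h1
    exact congrArg Subtype.val h1
  · rintro rfl
    have h1 : Nontrivial (⊥ : Subgroup G) := hM.simple.toNontrivial
    exact not_subsingleton _ (inferInstance : Subsingleton (⊥ : Subgroup G))

end simp

section final

variable {F V G : Type*} [Field F] [AddCommGroup V] [Module F V] [Group G] [DistribMulAction G V]
  {B : LinearMap.BilinForm F V} {N : Subgroup G}

/-- the diagonal element `diag(l, l⁻¹)` of a hyperbolic plane -/
theorem exists_dg (h : Ev B N) {e e' : V} (he : B e e' = 1) {l : F} (hl : l ≠ 0) :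
    ∃ g ∈ N, ∀ v, g • v = v + ((l + 1) * B v e') • e + ((l⁻¹ + 1) * B v e) • e' := by
  have he' : B e' e = 1 := by rw [h.symm, he]
  let D : F → V →ₗ[F] V := fun l =>
    LinearMap.id + ((l + 1) • B.flip e').smulRight e + ((l⁻¹ + 1) • B.flip e).smulRight e'
  have hD : ∀ l v, D l v = v + ((l + 1) * B v e') • e + ((l⁻¹ + 1) * B v e) • e' := fun l v => rfl
  have hDD : ∀ l m : F, l ≠ 0 → m ≠ 0 → l * m = 1 → ∀ v, D m (D l v) = v := by
    intro l m hl hm hlm v
    have e1 : B (D l v) e' = l * B v e' := by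
      simp only [hD, map_add, map_smul, LinearMap.add_apply, LinearMap.smul_apply, smul_eq_mul, he, h.self]
      linear_combination B v e' * h.two
    have e2 : B (D l v) e = l⁻¹ * B v e := by
      simp only [hD, map_add, map_smul, LinearMap.add_apply, LinearMap.smul_apply, smul_eq_mul, he', h.self]
      linear_combination B v e * h.two
    have hm' : m = l⁻¹ := (eq_inv_of_mul_eq_one_right hlm)
    rw [hD m, e1, e2, hD l, hm', inv_inv]
    have c1 : (l⁻¹ + 1) * (l * B v e') = (l + 1) * B v e' := by field_simp; ring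
    have c2 : (l + 1) * (l⁻¹ * B v e) = (l⁻¹ + 1) * B v e := by field_simp; ring
    rw [c1, c2]
    have d1 := h.vadd_self (((l + 1) * B v e') • e)
    have d2 := h.vadd_self (((l⁻¹ + 1) * B v e) • e')
    calc _ = v + (((l + 1) * B v e') • e + ((l + 1) * B v e') • e) +
          (((l⁻¹ + 1) * B v e) • e' + ((l⁻¹ + 1) * B v e) • e') := by abel
      _ = v := by rw [d1, d2, add_zero, add_zero]
  obtain ⟨g, hg, hgv⟩ := h.surjN (LinearEquiv.ofLinearMap (D l) (D l⁻¹)
    (LinearMap.ext fun v => hDD l⁻¹ l (inv_ne_zero hl) hl (inv_mul_cancel₀ hl) v)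
    (LinearMap.ext fun v => hDD l l⁻¹ hl (inv_ne_zero hl) (mul_inv_cancel₀ hl) v)) (by
    intro u v
    change B (D l u) (D l v) = B u v
    have hl1 : l * l⁻¹ = 1 := mul_inv_cancel₀ hl
    simp only [hD, map_add, map_smul, LinearMap.add_apply, LinearMap.smul_apply, smul_eq_mul, h.self, he, he']
    rw [h.symm e v, h.symm e' v]
    linear_combination (B u e * B v e' + B u e' * B v e) * (l + l⁻¹ + 2) * h.two +
      (B u e * B v e' + B u e' * B v e) * hl1)
  exact ⟨g, hg, fun v => by rw [hgv]; rfl⟩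

theorem dg_pow (h : Ev B N) {e e' : V} (he : B e e' = 1) {l : F} (hl : l ≠ 0) {g : G}
    (hg : ∀ v, g • v = v + ((l + 1) * B v e') • e + ((l⁻¹ + 1) * B v e) • e') (n : ℕ) (v : V) :
    g ^ n • v = v + ((l ^ n + 1) * B v e') • e + (((l ^ n)⁻¹ + 1) * B v e) • e' := by
  have he' : B e' e = 1 := by rw [h.symm, he]
  induction n generalizing v with
  | zero =>
    have h2 : (1 + 1 : F) = 0 := by rw [one_add_one_eq_two, h.two]
    rw [pow_zero, one_smul, pow_zero, inv_one, h2, zero_mul, zero_mul, zero_smul, zero_smul, add_zero, add_zero]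
  | succ n ih =>
    rw [pow_succ, mul_smul, ih, hg]
    simp only [map_add, map_smul, LinearMap.add_apply, LinearMap.smul_apply, smul_eq_mul, h.self, he, he']
    have c1 : (l + 1) * B v e' + (l ^ n + 1) * (B v e' + (l + 1) * B v e' * 1 + (l⁻¹ + 1) * B v e * 0) =
        (l ^ (n + 1) + 1) * B v e' := by
      rw [pow_succ]
      linear_combination (B v e' + l ^ n * B v e' + l * B v e') * h.two
    have c2 : (l⁻¹ + 1) * B v e + ((l ^ n)⁻¹ + 1) * (B v e + (l + 1) * B v e' * 0 + (l⁻¹ + 1) * B v e * 1) =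
        ((l ^ (n + 1))⁻¹ + 1) * B v e := by
      rw [pow_succ, mul_inv]
      linear_combination (B v e + (l ^ n)⁻¹ * B v e + l⁻¹ * B v e) * h.two
    rw [← c1, ← c2, add_smul, add_smul]
    abel

/-- **Final step.**  If every point is fixed by `Sp(A)` or by `Sp(Aᗮ)`: contradiction. -/
theorem two_final [Finite F] [FiniteDimensional F V] [Finite G] {Ω : Type*} [MulAction G Ω] [Nonempty Ω] (h : Ev B N)
    (hE : Env G Ω N) (hq : 2 < Nat.card F) {A : Submodule F V} (hA : NAlt (B.restrict A)) (hA0 : A ≠ ⊥) (hA1 : A ≠ ⊤)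
    (hcov : ∀ ω : Ω, (∀ g ∈ N, (∀ v ∈ B.orthogonal A, g • v = v) → g • ω = ω) ∨
      (∀ g ∈ N, (∀ v ∈ A, g • v = v) → g • ω = ω)) : False := by
  -- hyperbolic pairs
  obtain ⟨e, heA, he0⟩ := Submodule.exists_mem_ne_zero_of_ne_bot hA0
  obtain ⟨⟨e', heA'⟩, hee⟩ := hA.exists_one (x := ⟨e, heA⟩) (fun h0 => he0 (congrArg Subtype.val h0))
  have hee : B e e' = 1 := hee
  obtain ⟨f, hfA, hf0⟩ : ∃ d ∈ B.orthogonal A, d ≠ 0 := by
    by_contra hno
    push Not at hno
    apply hA1
    rw [eq_top_iff]
    intro v _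
    obtain ⟨c, d, hd, rfl⟩ := Cfsg.Agent.H727.GW.exists_decomp h.alt A (sub_nd hA) v
    rw [hno d hd, add_zero]
    exact c.2
  have horth : ∀ u ∈ A, ∀ w ∈ B.orthogonal A, B u w = 0 := fun u hu w hw => hw u hu
  obtain ⟨f', hfA', hff⟩ : ∃ f' ∈ B.orthogonal A, B f f' = 1 := by
    obtain ⟨w, hw⟩ := h.nalt.exists_one hf0
    obtain ⟨c, d, hd, rfl⟩ := Cfsg.Agent.H727.GW.exists_decomp h.alt A (sub_nd hA) w
    refine ⟨d, hd, ?_⟩
    rw [map_add, h.symm f c, horth c c.2 f hfA, zero_add] at hw
    exact hw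
  have hef : B e f = 0 := horth e heA f hfA
  have hfe : B f e = 0 := by rw [h.symm, hef]
  have hef' : B e f' = 0 := horth e heA f' hfA'
  have he'f : B e' f = 0 := horth e' heA' f hfA
  have he'f' : B e' f' = 0 := horth e' heA' f' hfA'
  have hfe' : B f e' = 0 := by rw [h.symm, he'f]
  have hf'e : B f' e = 0 := by rw [h.symm, hef']
  have hf'e' : B f' e' = 0 := by rw [h.symm, he'f']
  have hee' : B e' e = 1 := by rw [h.symm, hee]
  have hff' : B f' f = 1 := by rw [h.symm, hff]
  -- an element of prime order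
  have : Fintype F := Fintype.ofFinite F
  classical
  obtain ⟨p, hp, hpd⟩ := Nat.exists_prime_and_dvd (n := Nat.card Fˣ) (by
    rw [Nat.card_eq_fintype_card, Fintype.card_units, ← Nat.card_eq_fintype_card]
    omega)
  have := Fact.mk hp
  obtain ⟨u, hu⟩ := exists_prime_orderOf_dvd_card' (G := Fˣ) p hpd
  obtain ⟨l, hl⟩ : ∃ l : F, l = u := ⟨_, rfl⟩
  have hl0 : l ≠ 0 := by rw [hl]; exact u.ne_zero
  have hl1 : l ≠ 1 := by
    intro h1
    rw [hl] at h1
    have h2 : u = 1 := Units.ext h1
    rw [h2, orderOf_one] at hu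
    exact hp.one_lt.ne hu
  have hlp : l ^ p = 1 := by
    rw [hl, ← Units.val_pow_eq_pow_val, ← hu, pow_orderOf_eq_one, Units.val_one]
  have hl1' : 1 + l ≠ 0 := by
    intro h1
    apply hl1
    linear_combination h1 - h.two
  have hp2 : p ≠ 2 := by
    intro h2
    rw [h2] at hlp
    apply hl1'
    have : (1 + l) * (1 + l) = 0 := by linear_combination hlp + (1 + l) * h.two
    exact mul_self_eq_zero.1 this
  obtain ⟨a, ha, hav⟩ := exists_dg h hee hl0
  obtain ⟨b, hb, hbv⟩ := exists_dg h hff hl0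
  have hap : a ^ p = 1 := by
    apply h.inj
    intro v
    have h2 : (1 + 1 : F) = 0 := by rw [one_add_one_eq_two, h.two]
    rw [dg_pow h hee hl0 hav, hlp, inv_one, h2, zero_mul, zero_mul, zero_smul, zero_smul, add_zero, add_zero]
  have hbp : b ^ p = 1 := by
    apply h.inj
    intro v
    have h2 : (1 + 1 : F) = 0 := by rw [one_add_one_eq_two, h.two]
    rw [dg_pow h hff hl0 hbv, hlp, inv_one, h2, zero_mul, zero_mul, zero_smul, zero_smul, add_zero, add_zero]
  have hab : a * b = b * a := by
    apply h.ext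
    intro v
    rw [mul_smul, mul_smul, hav, hbv, hbv, hav]
    simp only [map_add, map_smul, LinearMap.add_apply, LinearMap.smul_apply, smul_eq_mul, hef, hfe, hef', he'f, he'f',
      hfe', hf'e, hf'e', mul_zero, add_zero]
    abel
  -- the group `U`
  have hu : ∀ c : F, ∃ g ∈ N, ∀ v, g • v = v + (c * B v e) • f + (c * B v f) • e := by
    intro c
    have h1 : B (c • e) f = 0 := by rw [map_smul, LinearMap.smul_apply, hef, smul_zero]
    refine ⟨h.sr h1, h.sr_mem h1, fun v => ?_⟩
    rw [h.sr_apply, map_smul, smul_smul, smul_eq_mul, mul_comm (B v f) c]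
  choose u' hu'N hu' using hu
  have hadd : ∀ c d, u' (c + d) = u' c * u' d := by
    intro c d
    apply h.ext
    intro v
    rw [mul_smul, hu', hu', hu']
    simp only [map_add, map_smul, LinearMap.add_apply, LinearMap.smul_apply, smul_eq_mul, hef, hfe, h.self, mul_zero,
      add_zero, add_mul, add_smul]
    abel
  have hzero : u' 0 = 1 := by
    apply h.inj
    intro v
    rw [hu', zero_mul, zero_mul, zero_smul, zero_smul, add_zero, add_zero]
  have hself : ∀ c, u' c * u' c = 1 := by
    intro c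
    rw [← hadd, h.add_self, hzero]
  have hinv : ∀ c, (u' c)⁻¹ = u' c := fun c => inv_eq_of_mul_eq_one_left (hself c)
  let U : Subgroup G :=
    { carrier := {g | ∃ c, u' c = g}
      one_mem' := ⟨0, hzero⟩
      mul_mem' := by
        rintro _ _ ⟨c, rfl⟩ ⟨d, rfl⟩
        exact ⟨c + d, hadd c d⟩
      inv_mem' := by
        rintro _ ⟨c, rfl⟩
        exact ⟨c, (hinv c).symm⟩ }
  have hUp : IsPGroup 2 U := by
    rintro ⟨_, c, rfl⟩
    refine ⟨1, Subtype.ext ?_⟩
    show (u' c) ^ (2 ^ 1) = 1
    rw [pow_one, pow_two, hself]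
  have hca : ∀ c, a * u' c * a⁻¹ = u' (l * c) := by
    intro c
    rw [mul_inv_eq_iff_eq_mul]
    apply h.ext
    intro v
    rw [mul_smul, mul_smul, hu', hu', hav, hav]
    simp only [map_add, map_smul, LinearMap.add_apply, LinearMap.smul_apply, smul_eq_mul, hef, hfe, hef', he'f, he'f',
      hfe', hf'e, hf'e', hee, hee', hff, hff', h.self, mul_zero, add_zero, mul_one]
    have c1 : l * c * (B v e + (l⁻¹ + 1) * B v e) = c * B v e := by
      field_simp
      linear_combination c * B v e * l * h.two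
    have c2 : c * B v f + (l + 1) * (c * B v f) = l * c * B v f := by
      linear_combination c * B v f * h.two
    rw [c1, ← c2, add_smul (c * B v f)]
    simp only [mul_add, add_smul]
    abel
  have hcb : ∀ c, b * u' c * b⁻¹ = u' (l * c) := by
    intro c
    rw [mul_inv_eq_iff_eq_mul]
    apply h.ext
    intro v
    rw [mul_smul, mul_smul, hu', hu', hbv, hbv]
    simp only [map_add, map_smul, LinearMap.add_apply, LinearMap.smul_apply, smul_eq_mul, hef, hfe, hef', he'f, he'f',
      hfe', hf'e, hf'e', hee, hee', hff, hff', h.self, mul_zero, add_zero, mul_one]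
    have c1 : l * c * (B v f + (l⁻¹ + 1) * B v f) = c * B v f := by
      field_simp
      linear_combination c * B v f * l * h.two
    have c2 : c * B v e + (l + 1) * (c * B v e) = l * c * B v e := by
      linear_combination c * B v e * h.two
    rw [c1, ← c2, add_smul (c * B v e)]
    simp only [mul_add, add_smul]
    abel
  have hcall : ∀ (i : Bool) c, (cond i a b) * u' c * (cond i a b)⁻¹ = u' (l * c) := by
    intro i c
    cases i
    · exact hcb c
    · exact hca c
  have hU1 : ∀ (i : Bool), ∀ w ∈ U, (cond i a b) * w * (cond i a b)⁻¹ ∈ U := by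
    rintro i _ ⟨c, rfl⟩
    exact ⟨l * c, (hcall i c).symm⟩
  obtain ⟨n, hn⟩ := IsPGroup.iff_card.1 hUp
  refine not_cov_point hE (x := fun i : Bool => cond i a b) (r := fun _ => p) (fun _ => hp) (fun i => ?_)
    (fun i j => ?_) (U := U) (fun ω => ?_) hU1 hUp.isNilpotent (fun i => ?_) (y := u' 1) ?_ (fun i => ?_)
  · cases i
    · exact hbp
    · exact hap
  · cases i <;> cases j
    · rfl
    · exact hab.symm
    · exact hab
    · rfl
  · rcases hcov ω with h1 | h1
    · refine ⟨true, h1 a ha fun v hv => ?_⟩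
      have e1 : B v e = 0 := by rw [h.symm]; exact horth e heA v hv
      have e2 : B v e' = 0 := by rw [h.symm]; exact horth e' heA' v hv
      rw [hav, e1, e2, mul_zero, mul_zero, zero_smul, zero_smul, add_zero, add_zero]
    · refine ⟨false, h1 b hb fun v hv => ?_⟩
      have e1 : B v f = 0 := horth v hv f hfA
      have e2 : B v f' = 0 := horth v hv f' hfA'
      rw [hbv, e1, e2, mul_zero, mul_zero, zero_smul, zero_smul, add_zero, add_zero]
  · show Nat.Coprime p (Nat.card U)
    rw [hn]
    exact Nat.Coprime.pow_right _ ((Nat.coprime_primes hp Nat.prime_two).2 hp2)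
  · intro h1
    have h2 := hu' 1 e'
    rw [h1, one_smul, hee', he'f, mul_zero, zero_smul, add_zero, one_mul, one_smul, left_eq_add] at h2
    exact hf0 h2
  · have h1 := mem_cmm (x := cond i a b) (u := u' (1 + l)⁻¹) (U := U) ⟨_, rfl⟩
    have h2 : u' (1 + l)⁻¹ * cond i a b * (u' (1 + l)⁻¹)⁻¹ * (cond i a b)⁻¹ = u' 1 := by
      calc _ = u' (1 + l)⁻¹ * (cond i a b * (u' (1 + l)⁻¹)⁻¹ * (cond i a b)⁻¹) := by group
        _ = u' (1 + l)⁻¹ * u' (l * (1 + l)⁻¹) := by rw [hinv, hcall]
        _ = u' 1 := by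
          rw [← hadd]
          congr 1
          field_simp
    rw [h2] at h1
    exact h1

end final

section two

variable {F V G Ω S : Type} [Field F] [Finite F] [AddCommGroup V] [Module F V] [FiniteDimensional F V] [Group G]
  [Finite G] [DistribMulAction G V] {B : LinearMap.BilinForm F V} {N : Subgroup G} [MulAction G Ω] [Group S] [Finite S]

theorem resN_pow (h : Ev B N) [Finite V] {g : G} (hg : g ∈ N) {A : Submodule F V} (hA : ∀ v ∈ A, g • v ∈ A) (n : ℕ)
    (a : A) : (((resN h hg hA ^ n).1 a : A) : V) = g ^ n • (a : V) := by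
  induction n with
  | zero => rw [pow_zero, pow_zero, one_smul]; rfl
  | succ n ih =>
    rw [pow_succ', pow_succ', mul_smul, ← ih]
    exact resN_apply h hg hA _

/-- over `F₄`, at most one of the elements acts nontrivially on an invariant nondegenerate plane -/
theorem four_one (h : Ev B N) {ι : Type} {x : ι → G} {r : ι → ℕ} (hx : PF x r) (hN : ∀ i, x i ∈ N)
    {A : Submodule F V} (hA : NAlt (B.restrict A)) (hA2 : finrank F A = 2) (hF : Nat.card F = 4)
    (hinv : ∀ i, ∀ v ∈ A, x i • v ∈ A) {i j : ι} (hij : i ≠ j) :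
    (∀ v ∈ A, x i • v = v) ∨ ∀ v ∈ A, x j • v = v := by
  have : Finite V := Module.finite_of_finite F
  by_contra hno
  rw [not_or] at hno
  rw [← resN_eq_one h (hN i) (hinv i), ← resN_eq_one h (hN j) (hinv j)] at hno
  have hp : ∀ i, resN h (hN i) (hinv i) ^ r i = 1 := by
    intro i
    apply Subtype.ext
    apply LinearEquiv.ext
    intro a
    apply Subtype.ext
    rw [resN_pow, hx.pow, one_smul]
    rfl
  have hi := Fact.mk (hx.prime i)
  have hj := Fact.mk (hx.prime j)
  have oi := orderOf_eq_prime (hp i) hno.1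
  have oj := orderOf_eq_prime (hp j) hno.2
  have hc : Commute (resN h (hN i) (hinv i)) (resN h (hN j) (hinv j)) := by
    apply Subtype.ext
    apply LinearEquiv.ext
    intro a
    apply Subtype.ext
    have h1 := congrArg (fun z : G => z • (a : V)) (hx.comm i j)
    simp only [mul_smul] at h1
    exact h1
  have hcop : (r i).Coprime (r j) := (Nat.coprime_primes hi.1 hj.1).2 fun h1 => hij (hx.inj h1)
  have ho := hc.orderOf_mul_eq_mul_orderOf_of_coprime (by rw [oi, oj]; exact hcop)
  rw [oi, oj] at ho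
  have key : ∀ k : ℕ, k.Prime → (resN h (hN i) (hinv i) * resN h (hN j) (hinv j)) ^ k ≠ 1 := by
    intro k hk h1
    have h2 := orderOf_dvd_of_pow_eq_one h1
    rw [ho] at h2
    have h3 : r i = k := (Nat.prime_dvd_prime_iff_eq hi.1 hk).1 ((Nat.dvd_mul_right _ _).trans h2)
    have h4 : r j = k := (Nat.prime_dvd_prime_iff_eq hj.1 hk).1 ((Nat.dvd_mul_left _ _).trans h2)
    exact hij (hx.inj (h3.trans h4.symm))
  rcases sp_two_four hA h.two hF hA2 (resN h (hN i) (hinv i) * resN h (hN j) (hinv j)) with h1 | h1 | h1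
  · exact key 2 Nat.prime_two h1
  · exact key 3 Nat.prime_three h1
  · exact key 5 Nat.prime_five h1

theorem card_even (h : Ev B N) : ¬ Odd (Nat.card F) := by
  intro ho
  have : Fintype F := Fintype.ofFinite F
  have hc : CharP F 2 := CharTwo.of_one_ne_zero_of_two_eq_zero one_ne_zero h.two
  obtain ⟨n, -, hn⟩ := FiniteField.card F 2
  rw [Nat.card_eq_fintype_card, hn, Nat.odd_pow_iff n.ne_zero] at ho
  exact absurd ho (by decide)

/-- **M-rule for a nondegenerate plane.** -/
theorem plane_rule (h : Ev B N) (hE : Env G Ω N) (hIH : IH (Nat.card S)) (eS : N ≃* S) (hdim : finrank F V = 4)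
    (hq : 2 < Nat.card F) {ι : Type} [Finite ι] {x : ι → G} {r : ι → ℕ} (hx : PF x r) (hcov : Cov Ω x)
    (hN : ∀ i, x i ∈ N) {A : Submodule F V} (hA : NAlt (B.restrict A)) (hA2 : finrank F A = 2)
    (hinv : ∀ i, ∀ v ∈ A, x i • v ∈ A)
    (hg : Nat.card F = 4 → ∃ i₀, ∀ i, i ≠ i₀ → ∀ v ∈ A, x i • v = v) (ω : Ω) :
    (∀ g ∈ N, (∀ v ∈ B.orthogonal A, g • v = v) → g • ω = ω) ∨ ∃ i, (∀ v ∈ A, x i • v = v) ∧ x i • ω = ω := by
  have h5 := card_even h
  have h4 : 4 ≤ Nat.card F := by
    by_contra hlt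
    have h3 : Nat.card F = 3 := by omega
    rw [h3] at h5
    exact h5 (by decide)
  refine sp_rule h hE hIH eS (by omega) (Or.inr (Or.inr h4)) hx hcov hN hA (fun ht => ?_) hinv
    (Or.inr (Or.inr ⟨by omega, h4⟩)) ?_ ω
  · rw [ht, finrank_top] at hA2
    omega
  · by_cases hF : Nat.card F = 4
    · exact Or.inr (hg hF)
    · exact Or.inl (not_exc_Sp2 hA hA2 hF (fun h6 => h5 (by rw [h6]; decide)) (fun h6 => h5 (by rw [h6]; decide)))

theorem orth_nalt (hB : NAlt B) {A : Submodule F V} (hA : NAlt (B.restrict A)) : NAlt (B.restrict (B.orthogonal A)) := by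
  refine ⟨fun u => hB.alt u, fun u hu => ?_⟩
  apply Subtype.ext
  apply hB.nd
  intro v
  obtain ⟨c, d, hd, rfl⟩ := Cfsg.Agent.H727.GW.exists_decomp hB.alt A (sub_nd hA) v
  rw [map_add, hB.swap0 (u.2 c c.2), zero_add]
  exact hu ⟨d, hd⟩

/-- **First step.**  Every point is fixed by `Sp(A)` or `Sp(Aᗮ)`. -/
theorem two_cov [Nonempty Ω] (h : Ev B N) (hE : Env G Ω N) (hIH : IH (Nat.card S)) (eS : N ≃* S) (hdim : finrank F V = 4)
    (hq : 2 < Nat.card F) {ι : Type} [Finite ι] {x : ι → G} {r : ι → ℕ} (hx : PF x r) (hcov : Cov Ω x)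
    (hN : ∀ i, x i ∈ N) (hodd : ∀ i, r i ≠ 2) {A : Submodule F V} (hA : NAlt (B.restrict A)) (hA2 : finrank F A = 2)
    (hinv : ∀ i, ∀ v ∈ A, x i • v ∈ A) (ω : Ω) :
    (∀ g ∈ N, (∀ v ∈ B.orthogonal A, g • v = v) → g • ω = ω) ∨ (∀ g ∈ N, (∀ v ∈ A, g • v = v) → g • ω = ω) := by
  classical
  have : Finite V := Module.finite_of_finite F
  have hAA : B.orthogonal (B.orthogonal A) = A :=
    LinearMap.BilinForm.orthogonal_orthogonal (nondeg_of h.nalt) (refl_of h.nalt) A
  have hA' := orth_nalt h.nalt hA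
  have hA'2 : finrank F (B.orthogonal A) = 2 := by
    rw [LinearMap.BilinForm.finrank_orthogonal (nondeg_of h.nalt), hdim, hA2]
  have hinv' : ∀ i, ∀ v ∈ B.orthogonal A, x i • v ∈ B.orthogonal A := fun i v hv => (lft h (x i)).orth_mem A (hinv i) hv
  -- a default index
  have hone : ∀ (A : Submodule F V), NAlt (B.restrict A) → finrank F A = 2 → (∀ i, ∀ v ∈ A, x i • v ∈ A) →
      Nat.card F = 4 → ∃ i₀, ∀ i, i ≠ i₀ → ∀ v ∈ A, x i • v = v := by
    intro A hA hA2 hinv hF
    by_cases hex : ∃ i, ¬ ∀ v ∈ A, x i • v = v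
    · obtain ⟨i₀, hi₀⟩ := hex
      exact ⟨i₀, fun i hi => (four_one h hx hN hA hA2 hF hinv hi).resolve_right hi₀⟩
    · push Not at hex
      obtain ⟨i, -⟩ := hcov ω
      exact ⟨i, fun j _ => hex j⟩
  have hrule := fun ω => plane_rule h hE hIH eS hdim hq hx hcov hN hA hA2 hinv (hone A hA hA2 hinv) ω
  by_cases hall : ∀ (e : A) (c : F), h.tr (e : V) c • ω = ω
  · left
    intro g hg hgA
    obtain ⟨t, rfl⟩ := exists_emb h hg hA hgA
    let K : Subgroup (Sp (B.restrict A)) := (stabilizer G ω).comap (h.rho.comp (emb h.nalt hA))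
    have hK : K = ⊤ := gen_tv hA K fun e c => by
      show h.rho (emb h.nalt hA (tv hA e c)) • ω = ω
      have h1 : h.rho (emb h.nalt hA (tv hA e c)) = h.tr (e : V) c := by
        apply h.ext
        intro v
        rw [h.rho_apply, emb_tv, tv_apply, h.tr_apply]
      rw [h1]
      exact hall e c
    have h1 : t ∈ K := by rw [hK]; trivial
    exact h1
  · right
    push Not at hall
    obtain ⟨e, c, hy⟩ := hall
    obtain ⟨y, hyd⟩ : ∃ y, y = h.tr (e : V) c := ⟨_, rfl⟩
    have hyv : ∀ v : V, y • v = v + (c * B v e) • (e : V) := by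
      intro v; rw [hyd]; exact h.tr_apply _ _ _
    have hyN : y ∈ N := by rw [hyd]; exact h.tr_mem _ _
    have hyy : y * y = 1 := by rw [hyd]; exact h.tr_sq _ _
    rw [← hyd] at hy
    have hyA' : ∀ v ∈ B.orthogonal A, y • v = v := by
      intro v hv
      have h1 : B v (e : V) = 0 := by rw [h.symm]; exact hv e e.2
      rw [hyv, h1, mul_zero, zero_smul, add_zero]
    let z : Option {j : ι // ∀ v ∈ A, x j • v = v} → G := fun o => o.elim y (fun j => x j.1)
    let r' : Option {j : ι // ∀ v ∈ A, x j • v = v} → ℕ := fun o => o.elim 2 (fun j => r j.1)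
    have hcomm : ∀ j : {j : ι // ∀ v ∈ A, x j • v = v}, y * x j.1 = x j.1 * y := by
      intro j
      apply h.ext
      intro v
      rw [mul_smul, mul_smul, hyv, hyv, smul_add, h.lin (hN _), j.2 e e.2]
      have h1 := h.isom (hN j.1) v (e : V)
      rw [j.2 e e.2] at h1
      rw [h1]
    have hz : PF z r' := by
      refine ⟨?_, ?_, ?_, ?_, ?_⟩
      · rintro (_ | j)
        · exact Nat.prime_two
        · exact hx.prime j.1
      · rintro (_ | j) (_ | k) hjk
        · rfl
        · exact absurd hjk.symm (hodd k.1)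
        · exact absurd hjk (hodd j.1)
        · exact congrArg some (Subtype.ext (hx.inj hjk))
      · rintro (_ | j)
        · show y ^ 2 = 1
          rw [pow_two, hyy]
        · exact hx.pow j.1
      · rintro (_ | j)
        · intro h1
          apply hy
          have h2 : y = 1 := h1
          rw [h2, one_smul]
        · exact hx.ne j.1
      · rintro (_ | j) (_ | k)
        · rfl
        · exact hcomm k
        · exact (hcomm j).symm
        · exact hx.comm _ _
    have hzc : Cov Ω z := by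
      intro ω'
      rcases hrule ω' with h1 | ⟨i, h1, h2⟩
      · exact ⟨none, h1 y hyN hyA'⟩
      · exact ⟨some ⟨i, h1⟩, h2⟩
    have hzN : ∀ o, z o ∈ N := by
      rintro (_ | j)
      · exact hyN
      · exact hN j.1
    have hzA' : ∀ o, ∀ v ∈ B.orthogonal A, z o • v ∈ B.orthogonal A := by
      rintro (_ | j) v hv
      · show y • v ∈ _
        rw [hyA' v hv]
        exact hv
      · exact hinv' j.1 v hv
    rcases plane_rule h hE hIH eS hdim hq hz hzc hzN hA' hA'2 hzA' (fun hF => by
      obtain ⟨i₀, hi₀⟩ := hone _ hA' hA'2 hinv' hF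
      by_cases hJ : ∀ v ∈ A, x i₀ • v = v
      · refine ⟨some ⟨i₀, hJ⟩, ?_⟩
        rintro (_ | j) hj
        · exact hyA'
        · exact hi₀ j.1 (fun h1 => hj (congrArg some (Subtype.ext h1)))
      · refine ⟨none, ?_⟩
        rintro (_ | j) hj
        · exact hyA'
        · exact hi₀ j.1 (fun h1 => hJ (h1 ▸ j.2))) ω with h1 | ⟨o, h1, h2⟩
    · rw [hAA] at h1
      exact h1
    · exfalso
      rcases o with _ | j
      · exact hy h2
      · apply hx.ne j.1
        apply h.inj
        intro v
        obtain ⟨c, d, hd, rfl⟩ := Cfsg.Agent.H727.GW.exists_decomp h.alt A (sub_nd hA) v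
        rw [smul_add, j.2 c c.2]
        congr 1
        exact h1 d hd

end two

section main

variable {F V G Ω S : Type} [Field F] [Finite F] [AddCommGroup V] [Module F V] [FiniteDimensional F V] [Group G]
  [Finite G] [DistribMulAction G V] {B : LinearMap.BilinForm F V} {N : Subgroup G} [MulAction G Ω] [Nonempty Ω]
  [Group S] [Finite S]

/-- an element of the closure of a commuting family is killed by the product of the orders -/
theorem pow_prod {ι : Type*} [Fintype ι] {x : ι → G} {r : ι → ℕ} (hx : PF x r) {g : G}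
    (hg : g ∈ Subgroup.closure (Set.range x)) : g ^ (∏ i, r i) = 1 := by
  have hc1 : ∀ j, ∀ g ∈ Subgroup.closure (Set.range x), Commute g (x j) := by
    intro j g hg
    induction hg using Subgroup.closure_induction with
    | mem y hy => obtain ⟨i, rfl⟩ := hy; exact hx.comm i j
    | one => exact Commute.one_left _
    | mul a b _ _ ha hb => exact Commute.mul_left ha hb
    | inv a _ ha => exact Commute.inv_left ha
  have hc2 : ∀ a ∈ Subgroup.closure (Set.range x), ∀ b ∈ Subgroup.closure (Set.range x), Commute a b := by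
    intro a ha b hb
    induction hb using Subgroup.closure_induction with
    | mem y hy => obtain ⟨i, rfl⟩ := hy; exact hc1 i a ha
    | one => exact Commute.one_right _
    | mul b c _ _ hb hc => exact Commute.mul_right hb hc
    | inv b _ hb => exact Commute.inv_right hb
  induction hg using Subgroup.closure_induction with
  | mem y hy =>
    obtain ⟨i, rfl⟩ := hy
    obtain ⟨k, hk⟩ : r i ∣ ∏ i, r i := Finset.dvd_prod_of_mem r (Finset.mem_univ i)
    rw [hk, pow_mul, hx.pow, one_pow]
  | one => exact one_pow _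
  | mul a b ha hb iha ihb => rw [(hc2 a ha b hb).mul_pow, iha, ihb, one_mul]
  | inv a _ ha => rw [inv_pow, ha, inv_one]

/-- the map `g + g⁻¹` -/
noncomputable def sumInv (h : Ev B N) {g : G} (hg : g ∈ N) : V →ₗ[F] V :=
  (h.le hg : V →ₗ[F] V) + (h.le (N.inv_mem hg) : V →ₗ[F] V)

theorem sumInv_apply (h : Ev B N) {g : G} (hg : g ∈ N) (v : V) : sumInv h hg v = g • v + g⁻¹ • v := rfl

theorem sumInv_adj (h : Ev B N) {g : G} (hg : g ∈ N) (u v : V) : B (sumInv h hg u) v = B u (sumInv h hg v) := by
  have h1 := h.isom (N.inv_mem hg) (g • u) v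
  have h2 := h.isom hg (g⁻¹ • u) v
  rw [inv_smul_smul] at h1
  rw [smul_inv_smul] at h2
  rw [sumInv_apply, sumInv_apply, map_add, map_add, LinearMap.add_apply, ← h1, ← h2, add_comm]

open Polynomial in
/-- `g + g⁻¹` is semisimple if `g` has odd order -/
theorem sumInv_squarefree (h : Ev B N) {g : G} (hg : g ∈ N) {n : ℕ} (hn : g ^ n = 1) (hodd : Odd n) :
    Squarefree (minpoly F (sumInv h hg)) := by
  have hpow : ∀ (k : ℕ) (v : V), (((h.le hg : V →ₗ[F] V) : Module.End F V) ^ k) v = g ^ k • v := by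
    intro k
    induction k with
    | zero => intro v; rw [pow_zero, pow_zero, one_smul]; rfl
    | succ k ih =>
      intro v
      rw [pow_succ, Module.End.mul_apply, ih, pow_succ, mul_smul]
      rfl
  have hn0 : n ≠ 0 := by rintro rfl; exact absurd hodd (by decide)
  have h1 : Module.End.IsSemisimple ((h.le hg : V →ₗ[F] V) : Module.End F V) := by
    refine Module.End.isSemisimple_of_squarefree_aeval_eq_zero (p := X ^ n - 1) ?_ ?_
    · refine (X_pow_sub_one_separable_iff.2 ?_).squarefree
      obtain ⟨k, rfl⟩ := hodd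
      push_cast
      rw [h.two, zero_mul, zero_add]
      exact one_ne_zero
    · apply LinearMap.ext
      intro v
      rw [map_sub, map_pow, aeval_X, map_one, LinearMap.sub_apply, hpow, hn, one_smul]
      exact sub_self v
  have h2 : sumInv h hg = aeval ((h.le hg : V →ₗ[F] V) : Module.End F V) (X + X ^ (n - 1) : F[X]) := by
    apply LinearMap.ext
    intro v
    rw [map_add, map_pow, aeval_X, LinearMap.add_apply, hpow, sumInv_apply]
    congr 2
    rw [eq_comm, ← mul_eq_one_iff_eq_inv, ← pow_succ, Nat.sub_add_cancel (Nat.pos_of_ne_zero hn0), hn]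
  have h3 : Module.End.IsSemisimple (sumInv h hg : Module.End F V) := by
    rw [h2]
    exact h1.aeval _
  exact h3.minpoly_squarefree

/-- the centraliser of a nonscalar map is proper -/
theorem centN_ne (h : Ev B N) (hdim : 2 ≤ finrank F V) (a : V →ₗ[F] V) (hdeg : 2 ≤ (minpoly F a).natDegree) :
    centN N a ≠ N := by
  intro hN
  have h1 : ∀ e : V, ∃ c : F, a.toAddMonoidHom e = c • e := by
    intro e
    by_cases he : e = 0
    · exact ⟨0, by rw [he, map_zero, smul_zero]⟩
    obtain ⟨v, hv⟩ := h.nalt.exists_one he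
    have h2 : h.tr e 1 ∈ centN N a := by rw [hN]; exact h.tr_mem e 1
    have h3 := h2.2 v
    rw [h.tr_apply, h.tr_apply, map_add, map_smul, h.symm v e, hv, one_mul, one_mul, one_smul, add_right_inj] at h3
    exact ⟨_, h3.symm⟩
  obtain ⟨c, hc⟩ := scal_of_lines hdim _ h1
  have h2 : a = algebraMap F (Module.End F V) c := LinearMap.ext fun v => hc v
  have h3 : (minpoly F a).natDegree ≤ 1 := by
    have h4 : (Polynomial.X - Polynomial.C c : Polynomial F).natDegree = 1 := Polynomial.natDegree_X_sub_C c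
    rw [← h4]
    refine Polynomial.natDegree_le_of_dvd (minpoly.dvd F a ?_) (Polynomial.X_sub_C_ne_zero c)
    rw [map_sub, Polynomial.aeval_X, Polynomial.aeval_C, ← h2, sub_self]
  omega

/-- **M2O** : `m = 2`, `|F| > 2`, all members of the cover linear of odd order. -/
theorem m2o (h : Ev B N) (hE : Env G Ω N) (hIH : IH (Nat.card S)) (eS : N ≃* S) {ι : Type} [Finite ι] {x : ι → G}
    {r : ι → ℕ} (hx : PF x r) (hcov : Cov Ω x) (hdim : finrank F V = 4) (hq : 2 < Nat.card F) (hlin : ∀ i, x i ∈ N)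
    (hodd : ∀ i, r i ≠ 2) : False := by
  classical
  have : Fintype ι := Fintype.ofFinite ι
  have : Nontrivial V := Module.nontrivial_of_finrank_pos (R := F) (by omega)
  obtain ⟨g, hgc, hgx⟩ := exists_gen x r hx.prime hx.inj hx.pow hx.comm
  have hgN : g ∈ N := by
    have : Subgroup.closure (Set.range x) ≤ N := by
      rw [Subgroup.closure_le]
      rintro _ ⟨i, rfl⟩
      exact hlin i
    exact this hgc
  have hgn := pow_prod hx hgc
  have hoddn : Odd (∏ i, r i) := by
    rw [Nat.odd_iff, ← Nat.not_even_iff, even_iff_two_dvd]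
    intro h1
    obtain ⟨i, -, hi⟩ := (Prime.dvd_finsetProd_iff Nat.prime_two.prime _).1 h1
    exact hodd i ((Nat.prime_dvd_prime_iff_eq Nat.prime_two (hx.prime i)).1 hi).symm
  have hpow : ∀ i, ∃ k : ℕ, g ^ k = x i := fun i =>
    (isOfFinOrder_of_finite g).mem_powers_iff_mem_zpowers.2 (hgx i)
  have hg2 : g * g ≠ 1 := by
    intro h1
    have h2 : orderOf g ∣ 2 := orderOf_dvd_of_pow_eq_one (by rw [pow_two, h1])
    have h3 : orderOf g ∣ ∏ i, r i := orderOf_dvd_of_pow_eq_one hgn
    have h4 : Nat.Coprime 2 (∏ i, r i) := Nat.coprime_two_left.2 hoddn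
    have h5 : g = 1 := orderOf_eq_one_iff.1 (Nat.eq_one_of_dvd_coprimes h4 h2 h3)
    obtain ⟨ω⟩ := (inferInstance : Nonempty Ω)
    obtain ⟨i, -⟩ := hcov ω
    apply hx.ne i
    obtain ⟨k, hk⟩ := hpow i
    rw [← hk, h5, one_pow]
  obtain ⟨a, had⟩ : ∃ a, a = sumInv h hgN := ⟨_, rfl⟩
  have hav : ∀ v, a v = g • v + g⁻¹ • v := by rw [had]; exact sumInv_apply h hgN
  have hadj : ∀ u v, B (a u) v = B u (a v) := by rw [had]; exact sumInv_adj h hgN
  have hsq : Squarefree (minpoly F a) := by rw [had]; exact sumInv_squarefree h hgN hgn hoddn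
  have hga : g ∈ centN N a := by
    refine ⟨hgN, fun v => ?_⟩
    rw [hav, hav, smul_add, smul_inv_smul, inv_smul_smul]
  have hxa : ∀ i, x i ∈ centN N a := by
    intro i
    obtain ⟨k, hk⟩ := hpow i
    rw [← hk]
    exact Subgroup.pow_mem _ hga k
  -- the invariant plane
  obtain ⟨A, hA2, hA, hinv⟩ : ∃ A : Submodule F V, finrank F A = 2 ∧ NAlt (B.restrict A) ∧
      ∀ i, ∀ v ∈ A, x i • v ∈ A := by
    by_cases hirr : Irreducible (minpoly F a)
    · by_cases hdeg : 2 ≤ (minpoly F a).natDegree
      · exfalso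
        exact simpCl_dead hE hIH eS (M := centN N a) (fun g hg => hg.1) (centN_ne h (by omega) a hdeg)
          (cent_simpCl h a hadj hirr hdeg (by omega) (fun _ => hq)) hx hcov hxa
      · have h1 : (minpoly F a).natDegree = 1 := by
          have := minpoly.natDegree_pos (A := F) (x := a) (Algebra.IsIntegral.isIntegral a)
          omega
        obtain ⟨τ, hτ⟩ := minpoly.natDegree_eq_one_iff.1 h1
        obtain ⟨A, h2, h3, h4⟩ := exists_split_scalar h hgN (τ := τ) (fun v => by rw [← hav, ← hτ]; rfl) hg2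
        refine ⟨A, h2, h3, fun i => ?_⟩
        obtain ⟨k, hk⟩ := hpow i
        rw [← hk]
        clear hk
        induction k with
        | zero => intro v hv; rw [pow_zero, one_smul]; exact hv
        | succ k ih => intro v hv; rw [pow_succ', mul_smul]; exact h4 _ (ih v hv)
    · obtain ⟨A, h1, h2, h3, h4⟩ := exists_split h a hadj hsq hirr
      refine ⟨A, ?_, h3, fun i => h4 _ (hlin i) (hxa i).2⟩
      obtain ⟨m, hm⟩ := exists_dim h3
      have h5 : finrank F A ≠ 0 := fun h6 => h1 (Submodule.finrank_eq_zero.1 h6)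
      have h6 : finrank F A < finrank F V := Submodule.finrank_lt h2
      omega
  refine two_final h hE hq hA (fun h1 => ?_) (fun h1 => ?_)
    (fun ω => two_cov h hE hIH eS hdim hq hx hcov hlin hodd hA hA2 hinv ω)
  · rw [h1, finrank_bot] at hA2
    omega
  · rw [h1, finrank_top] at hA2
    omega

end main

end Cfsg.Agent.H842.RC
end

private theorem dce_9e32d963d15e : _root_.True := by
  try have : _root_.True := by simp only [_root_.Cfsg.Agent.H385.RC.Ev.tr.congr_simp]
  exact _root_.True.intro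
end

-- part: H675/RC/Single
section
set_option linter.all false
open scoped Cfsg.Agent.FastGrp

/-!
# S3510, triality, type (iv): single generator, parity of the fixed space, the twisted composition (helper675)

* `exists_single` : a commuting family of elements of pairwise different prime orders is cyclic;
* `dsign_eq` : the Dickson sign is `kp`; `even_fix` : an isometric automorphism of `dia τ` has a fixed space of even dimension;
* `tc_dia` : `dia τ` is a composition.
-/

set_option autoImplicit false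

namespace Cfsg.Agent.H675.RC

open Module QuadraticMap Cfsg.Agent.LieClassical.OrthCore Cfsg.Agent.LieClassical.OrthTrans
  Cfsg.Agent.LieClassical.OrthSimple Cfsg.Agent.ClassicalGeometry.OrthAut1
  Cfsg.Agent.ClassicalGeometry.OrthSemi Cfsg.Agent.H198.Classes
  Cfsg.Agent.LieClassical.QuadForms Cfsg.Agent.H198.ClassesPlus
  Cfsg.Agent.ClassicalGeometry.TrialityOct Cfsg.Agent.ClassicalGeometry.Triality
  Cfsg.Agent.ClassicalGeometry.TrialitySpaces Cfsg.Agent.H198.TriBase Cfsg.Agent.H198.TriAut
  Cfsg.Agent.H198.TriDia Cfsg.Agent.H198.TriTC Cfsg.Agent.LieClassical.OrthFinite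
  Cfsg.Agent.ClassicalGeometry.OrthDickson Cfsg.Agent.ClassicalGeometry.OrthCharTwo
  Cfsg.Agent.ClassicalGeometry.Reflection

universe u

/-- **(S)** -/
theorem exists_single {ι G : Type*} [Finite ι] [Group G] (M : ι → G) (hc : ∀ i j, Commute (M i) (M j)) {r : ι → ℕ}
    (hr : ∀ i, (r i).Prime) (hinj : Function.Injective r) (hM : ∀ i, M i ^ r i = 1) :
    ∃ s ∈ Subgroup.closure (Set.range M), (∃ n, s ^ n = 1 ∧ n ≠ 0 ∧ ∀ q : ℕ, q.Prime → q ∣ n → ∃ i, r i = q) ∧
      ∀ i, M i ∈ Subgroup.zpowers s := by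
  have := Fintype.ofFinite ι
  obtain ⟨s, hs, h1, h2⟩ := exists_gen M r hr hinj hM (fun i j => (hc i j).eq) Finset.univ
  refine ⟨s, Subgroup.closure_mono (Set.image_subset_range _ _) hs, ⟨∏ j ∈ Finset.univ, r j, h2, ?_, ?_⟩,
    fun i => h1 i (Finset.mem_univ _)⟩
  · exact Finset.prod_ne_zero_iff.2 fun j _ => (hr j).ne_zero
  · intro q hq hqn
    obtain ⟨i, -, hi⟩ := (Prime.dvd_finsetProd_iff hq.prime _).1 hqn
    exact ⟨i, ((Nat.prime_dvd_prime_iff_eq hq (hr i)).1 hi).symm⟩

variable {F : Type u} [Field F]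

theorem nondeg_pb (hG : Good (plusForm 4 F)) : (polarBilin (plusForm 4 F)).Nondegenerate :=
  ⟨fun v hv => hG.nondeg v hv, fun v hv => hG.nondeg v fun y => by rw [QuadraticMap.polar_comm]; exact hv y⟩

/-- the Dickson sign is `κ` -/
theorem dsign_eq (hG : Good (plusForm 4 F)) (g : Cfsg.isometryGroup F (⇑(plusForm 4 F))) :
    dsign (plusForm 4 F) g = kp F (gamO _ (isometryEquiv (plusForm 4 F) g)) := by
  refine isometry_induction (plusForm 4 F) (nondeg_pb hG) (Or.inr (by decide))
    (fun g => dsign (plusForm 4 F) g = kp F (gamO _ (isometryEquiv (plusForm 4 F) g))) ?_ ?_ g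
  · rw [dsign_one, map_one, map_one, map_one]
  · intro v hv g hg
    rw [dsign_refl_mul _ (nondeg_pb hG), hg, map_mul, map_mul, map_mul, FooteOrth.isometryEquiv_reflIso, kp_refl,
      neg_one_mul]

/-- **(D)** the fixed space of an automorphism of `dia τ` has even dimension -/
theorem even_fix (hG : Good (plusForm 4 F)) {τ : G8 F} {g : V8 F ≃ₗ[F] V8 F} (hg : g ∈ O (plusForm 4 F))
    (hs : ∀ u w, g (dia τ u w) = dia τ (g u) (g w)) :
    Even (finrank F (LinearMap.ker ((g : V8 F →ₗ[F] V8 F) - 1))) := by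
  set g' := (isometryEquiv (plusForm 4 F)).symm ⟨g, hg⟩ with hg'
  have h1 : isometryEquiv (plusForm 4 F) g' = ⟨g, hg⟩ := MulEquiv.apply_symm_apply _ _
  have h2 := dsign_eq hG g'
  rw [h1, (mem_T1_iff hG).1 (mem_T1_of_aut (τ := τ) (s := gamO _ ⟨g, hg⟩) hs), dsign_def] at h2
  have h3 : fixSp g' = LinearMap.ker ((g : V8 F →ₗ[F] V8 F) - 1) := by
    ext x
    have h4 : act g' x = g x := by
      rw [act_def, ← isometryEquiv_apply, h1]
    rw [mem_fixSp, h4, LinearMap.mem_ker, LinearMap.sub_apply, sub_eq_zero]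
    rfl
  rw [h3] at h2
  by_contra hne
  rw [Nat.not_even_iff_odd] at hne
  have h5 : Odd (finrank F (LinearMap.ker ((g : V8 F →ₗ[F] V8 F) - 1)) + Fintype.card (Fin 4 ⊕ Fin 4)) :=
    hne.add_even (by decide)
  rw [h5.neg_one_pow] at h2
  exact absurd h2 (by decide)

/-- **(T)** -/
theorem tc_dia {τ : G8 F} (h : H566.RC.Au τ) : H198.TwComp.TC (plusForm 4 F) (RingEquiv.refl F) (dia τ) where
  add_left := h.dia_add_left
  add_right := h.dia_add_right
  smul_left := h.dia_smul_left
  smul_right := h.dia_smul_right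
  left a b := h.dia_dia a b
  right a b := h.dia_dia' a b
  cube _ := rfl

end Cfsg.Agent.H675.RC
end

-- part: H103/RC/FixPair_mg
section
prune_inst 0x41010410075801000000000103020002020000420004000000060040001090822850220002a3005000a800c01000100000010000000200000000000000004010000001400b1480008000090000000000000000000000000000000000000000000000000000
set_option linter.all false
open scoped Cfsg.Agent.FastGrp

-- part: H103/RC/FixPair
section
/-!
# Fixed octonions of a semisimple linear octonion automorphism (helper103, S3510 triality, box iA)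

* `det_linOf` : a linear octonion automorphism has determinant one;
* `fix_nondeg` : the fixed space of a `p'`-element is nondegenerate;
* `fix_pair` : it contains `b` with `Q b = 1`, `polar b 1 ^ 2 ≠ 4`, unless `q ≤ 3` and it is spanned by `1` and an idempotent.
-/

set_option autoImplicit false

namespace Cfsg.Agent.H103.RC

open Module QuadraticMap Cfsg.Agent.LieClassical.OrthCore Cfsg.Agent.LieClassical.OrthTrans
  Cfsg.Agent.LieClassical.OrthSimple Cfsg.Agent.ClassicalGeometry.OrthAut1
  Cfsg.Agent.ClassicalGeometry.OrthSemi Cfsg.Agent.H198.Classes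
  Cfsg.Agent.LieClassical.QuadForms Cfsg.Agent.H198.ClassesPlus
  Cfsg.Agent.ClassicalGeometry.TrialityOct Cfsg.Agent.ClassicalGeometry.Triality
  Cfsg.Agent.ClassicalGeometry.TrialitySpaces Cfsg.Agent.H198.TriBase Cfsg.Agent.H198.TriAut
  Cfsg.Agent.H206.Balance Cfsg.Agent.H198.BalVar Cfsg.Agent.H198.TriDia Cfsg.Agent.H198.TriSpec
  Cfsg.Agent.H161.TriLin

universe u

variable {F : Type u} [Field F]

/-- `polar` of the octonion norm -/
local notation "B" => polar (plusForm 4 F)

theorem pl_comm (x y : V8 F) : B x y = B y x := QuadraticMap.polar_comm _ x y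

theorem pl_add (x y z : V8 F) : B x (y + z) = B x y + B x z := by
  rw [polar8, polar8, polar8]; simp only [Pi.add_apply]; ring

theorem pl_add_left (x y z : V8 F) : B (x + y) z = B x z + B y z := by
  rw [polar8, polar8, polar8]; simp only [Pi.add_apply]; ring

theorem pl_smul (c : F) (x y : V8 F) : B x (c • y) = c * B x y := by
  rw [polar8, polar8]; simp only [Pi.smul_apply, smul_eq_mul]; ring

theorem pl_smul_left (c : F) (x y : V8 F) : B (c • x) y = c * B x y := by
  rw [polar8, polar8]; simp only [Pi.smul_apply, smul_eq_mul]; ring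

theorem pl_sub (x y z : V8 F) : B x (y - z) = B x y - B x z := by
  rw [polar8, polar8, polar8]; simp only [Pi.sub_apply]; ring

theorem pl_sub_left (x y z : V8 F) : B (x - y) z = B x z - B y z := by
  rw [polar8, polar8, polar8]; simp only [Pi.sub_apply]; ring

theorem q_add (x y : V8 F) : plusForm 4 F (x + y) = plusForm 4 F x + plusForm 4 F y + B x y := by
  rw [polar]; ring

theorem q_smul (c : F) (x : V8 F) : plusForm 4 F (c • x) = c * c * plusForm 4 F x := QuadraticMap.map_smul _ c x

theorem pl_self (x : V8 F) : B x x = 2 * plusForm 4 F x := by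
  rw [polar8, norm8]; ring

theorem pl_one_one : B (one8 F) (one8 F) = 2 := by
  rw [pl_self, norm_one8, mul_one]

section aut

variable {s : G8 F} (hs : TriS s s s) (hl : IsLin s)
include hs hl

theorem aut_ss : IsSS (plusForm 4 F) (RingEquiv.refl F) 1 s.1 := by
  obtain ⟨c, hc⟩ := hl
  have := aut_mult hs hc
  rwa [this] at hc

theorem aut_q (x : V8 F) : plusForm 4 F (s.1 x) = plusForm 4 F x := by
  rw [(aut_ss hs hl).form, one_mul]; rfl

theorem aut_pl (x y : V8 F) : B (s.1 x) (s.1 y) = B x y := by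
  rw [(aut_ss hs hl).polar, one_mul]; rfl

/-- a linear octonion automorphism has determinant one -/
theorem det_linOf (hG : _root_.Cfsg.Agent.LieClassical.OrthTrans.Good (plusForm 4 F)) : LinearEquiv.det (linOf hl) = 1 := by
  have hO : linOf hl ∈ O (plusForm 4 F) := fun x => aut_q hs hl x
  have h1 := sgn_kappa hG (neutral_plus 4 F) hO
  have h2 : gamO (plusForm 4 F) ⟨linOf hl, hO⟩ = s := Subtype.ext (Equiv.ext fun _ => rfl)
  have h3 : kp F s = 1 := (mem_T1_iff hG).1 ⟨s, s, hs⟩
  rw [h2] at h1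
  have h4 : kappa (neutral_plus 4 F) s = 1 := h3
  rw [h4, map_one] at h1
  exact h1.symm

/-- odd characteristic: a fixed vector orthogonal to `1` -/
theorem exists_fixed (hG : _root_.Cfsg.Agent.LieClassical.OrthTrans.Good (plusForm 4 F)) (h2 : (2 : F) ≠ 0) :
    ∃ v : V8 F, v ≠ 0 ∧ s.1 v = v ∧ B v (one8 F) = 0 := by
  have h1 : s.1 (one8 F) = one8 F := aut_one hs
  let f : V8 F →ₗ[F] F :=
    { toFun := fun x => - B x (one8 F)
      map_add' := fun x y => by rw [pl_add_left]; ring
      map_smul' := fun c x => by rw [pl_smul_left]; simp }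
  let D : V8 F →ₗ[F] V8 F := (linOf hl : V8 F →ₗ[F] V8 F) ∘ₗ LinearMap.transvection f (one8 F)
  have hD : ∀ x, D x = s.1 x - B x (one8 F) • one8 F := by
    intro x
    show s.1 (LinearMap.transvection f (one8 F) x) = _
    rw [LinearMap.transvection.apply, (aut_ss hs hl).add, (aut_ss hs hl).smul, h1]
    show s.1 x + (- B x (one8 F)) • one8 F = _
    rw [neg_smul, sub_eq_add_neg]
  have hdet : LinearMap.det D ≠ 1 := by
    show LinearMap.det ((linOf hl : V8 F →ₗ[F] V8 F) ∘ₗ LinearMap.transvection f (one8 F)) ≠ 1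
    rw [LinearMap.det_comp, LinearMap.transvection.det, ← LinearEquiv.coe_det, det_linOf hs hl hG]
    show ((1 : Fˣ) : F) * (1 + - B (one8 F) (one8 F)) ≠ 1
    rw [pl_one_one]
    intro h
    apply h2
    rw [Units.val_one] at h
    linear_combination -h
  have hbl : ∀ x y : V8 F, H161.Oct.bl (phi F x) (phi F y) = B x y := by
    intro x y
    have e := H161.Oct.nm_add (phi F x) (phi F y)
    rw [← map_add, nm_phi, nm_phi, nm_phi] at e
    rw [polar, e]; ring
  obtain ⟨v, hv0, hv⟩ := H161.Oct.exists_fixed_of_det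
    (T := (phi F : V8 F →ₗ[F] (Fin 8 → F)) ∘ₗ D ∘ₗ ((phi F).symm : (Fin 8 → F) →ₗ[F] V8 F)) (by
      intro x y
      obtain ⟨x, rfl⟩ := (phi F).surjective x
      obtain ⟨y, rfl⟩ := (phi F).surjective y
      show H161.Oct.bl (phi F (D ((phi F).symm (phi F x)))) (phi F (D ((phi F).symm (phi F y)))) = _
      rw [LinearEquiv.symm_apply_apply, LinearEquiv.symm_apply_apply, hbl, hbl, hD, hD]
      have e1 : ∀ z, B (s.1 z) (one8 F) = B z (one8 F) := fun z => by
        conv_lhs => rw [← h1]
        exact aut_pl hs hl _ _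
      rw [pl_sub, pl_sub_left, pl_sub_left, pl_smul, pl_smul, pl_smul_left, pl_smul_left, aut_pl hs hl, e1,
        pl_comm (one8 F) (s.1 y), e1, pl_one_one]
      ring) (by
      rw [LinearMap.det_conj]
      exact hdet)
  refine ⟨(phi F).symm v, ?_, ?_⟩
  · intro h
    apply hv0
    rw [← (phi F).apply_symm_apply v, h, map_zero]
  · have hv' : D ((phi F).symm v) = (phi F).symm v := by
      have := congrArg (phi F).symm hv
      rwa [LinearMap.comp_apply, LinearMap.comp_apply, LinearEquiv.coe_coe, LinearEquiv.coe_coe,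
        LinearEquiv.symm_apply_apply] at this
    set x := (phi F).symm v with hx
    rw [hD] at hv'
    have e0 : B x (one8 F) = 0 := by
      have e2 : B (s.1 x - B x (one8 F) • one8 F) (one8 F) = B x (one8 F) := congrArg (fun z => B z (one8 F)) hv'
      rw [pl_sub_left, pl_smul_left, pl_one_one] at e2
      have e1 : B (s.1 x) (one8 F) = B x (one8 F) := by
        conv_lhs => rw [← h1]
        exact aut_pl hs hl _ _
      rw [e1] at e2
      have e3 : 2 * B x (one8 F) = 0 := by linear_combination -e2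
      exact (mul_eq_zero.1 e3).resolve_left h2
    rw [e0, zero_smul, sub_zero] at hv'
    exact ⟨hv', e0⟩

/-- the fixed space of a `p'`-element is nondegenerate -/
theorem fix_nondeg {m : ℕ} (hm : (m : F) ≠ 0) (hsm : s ^ m = 1) {v : V8 F} (hv0 : v ≠ 0) (hv : s.1 v = v) :
    ∃ z : V8 F, s.1 z = z ∧ B v z ≠ 0 := by
  obtain ⟨y, hy⟩ : ∃ y, B v y ≠ 0 := by
    by_contra hcon
    push Not at hcon
    exact hv0 (polar_plusForm_nondeg 4 v hcon)
  have hmap0 : s.1 0 = 0 := (aut_ss hs hl).map_zero
  have hsum : ∀ k : ℕ, s.1 (∑ i ∈ Finset.range k, ((s ^ i : G8 F)).1 y) =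
      ∑ i ∈ Finset.range k, ((s ^ (i + 1) : G8 F)).1 y := by
    intro k
    induction k with
    | zero => simpa only [_root_.Finset.range_zero, _root_.SubmonoidClass.coe_pow, _root_.Finset.sum_empty] using hmap0
    | succ k ih =>
      rw [Finset.sum_range_succ, (aut_ss hs hl).add, ih, Finset.sum_range_succ]
      congr 1
      rw [pow_succ']
      rfl
  have hpl : ∀ k : ℕ, B v (∑ i ∈ Finset.range k, ((s ^ i : G8 F)).1 y) = k * B v y := by
    have h1 : ∀ i : ℕ, B v (((s ^ i : G8 F)).1 y) = B v y := by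
      intro i
      induction i with
      | zero => rfl
      | succ i ih =>
        rw [pow_succ']
        show B v (s.1 (((s ^ i : G8 F)).1 y)) = _
        conv_lhs => rw [← hv]
        rw [aut_pl hs hl, ih]
    intro k
    induction k with
    | zero =>
      rw [Finset.sum_range_zero, Nat.cast_zero, zero_mul]
      have := pl_smul 0 v (0 : V8 F)
      rwa [zero_smul, zero_mul] at this
    | succ k ih =>
      rw [Finset.sum_range_succ, pl_add, ih, h1]
      push_cast
      ring
  refine ⟨∑ i ∈ Finset.range m, ((s ^ i : G8 F)).1 y, ?_, ?_⟩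
  · rw [hsum]
    have e1 := Finset.sum_range_succ (fun i => ((s ^ i : G8 F)).1 y) m
    have e2 := Finset.sum_range_succ' (fun i => ((s ^ i : G8 F)).1 y) m
    rw [hsm] at e1
    rw [e1] at e2
    exact (add_right_cancel e2).symm
  · rw [hpl]
    exact mul_ne_zero hm hy

/-- existence of a nondegenerate plane `⟨1, c⟩` of fixed vectors -/
theorem exists_disc (hG : _root_.Cfsg.Agent.LieClassical.OrthTrans.Good (plusForm 4 F)) {m : ℕ} (hm : (m : F) ≠ 0) (hsm : s ^ m = 1) :
    ∃ c : V8 F, s.1 c = c ∧ B c (one8 F) ^ 2 - 4 * plusForm 4 F c ≠ 0 ∧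
      ((2 : F) ≠ 0 → B c (one8 F) = 0) := by
  have h1 : s.1 (one8 F) = one8 F := aut_one hs
  by_cases h2 : (2 : F) = 0
  · have h10 : one8 F ≠ 0 := by
      intro h
      have := norm_one8 (F := F)
      rw [h, QuadraticMap.map_zero] at this
      exact zero_ne_one this
    obtain ⟨c, hc, hc1⟩ := fix_nondeg hs hl hm hsm h10 h1
    refine ⟨c, hc, ?_, fun h => absurd h2 h⟩
    rw [pl_comm] at hc1
    have h4 : (4 : F) = 0 := by linear_combination 2 * h2
    rw [h4, zero_mul, sub_zero]
    exact pow_ne_zero _ hc1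
  · obtain ⟨v, hv0, hv, hv1⟩ := exists_fixed hs hl hG h2
    have h4 : (4 : F) ≠ 0 := by
      have : (4 : F) = 2 * 2 := by norm_num
      rw [this]; exact mul_ne_zero h2 h2
    by_cases hq : plusForm 4 F v = 0
    · obtain ⟨z, hz, hvz⟩ := fix_nondeg hs hl hm hsm hv0 hv
      set! z' := z - (B z (one8 F) / 2) • one8 F with hz'
      have hz's : s.1 z' = z' := by
        rw [hz', (aut_ss hs hl).sub, (aut_ss hs hl).smul, h1, hz]; rfl
      have hz'1 : B z' (one8 F) = 0 := by
        rw [hz', pl_sub_left, pl_smul_left, pl_one_one]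
        field_simp
        ring
      have hvz' : B v z' ≠ 0 := by
        rw [hz', pl_sub, pl_smul, hv1, mul_zero, sub_zero]
        exact hvz
      by_cases hqz : plusForm 4 F z' = 0
      · refine ⟨v + z', ?_, ?_, fun _ => ?_⟩
        · rw [(aut_ss hs hl).add, hv, hz's]
        · rw [pl_add_left, hv1, hz'1, q_add, hq, hqz]
          simpa using ⟨h4, hvz'⟩
        · rw [pl_add_left, hv1, hz'1, add_zero]
      · refine ⟨z', hz's, ?_, fun _ => hz'1⟩
        rw [hz'1]
        simpa only [_root_.ne_eq, _root_.OfNat.ofNat_ne_zero, _root_.not_false_eq_true, _root_.zero_pow, _root_.zero_sub, _root_.neg_eq_zero, _root_.mul_eq_zero, _root_.not_or] using ⟨h4, hqz⟩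
    · refine ⟨v, hv, ?_, fun _ => hv1⟩
      rw [hv1]
      simpa only [_root_.ne_eq, _root_.OfNat.ofNat_ne_zero, _root_.not_false_eq_true, _root_.zero_pow, _root_.zero_sub, _root_.neg_eq_zero, _root_.mul_eq_zero, _root_.not_or] using ⟨h4, hq⟩

end aut

/-- the reflected vector -/
theorem exists_norm_one {s : G8 F} (hs : TriS s s s) (hl : IsLin s) {c : V8 F} (hc : s.1 c = c)
    (hd : B c (one8 F) ^ 2 - 4 * plusForm 4 F c ≠ 0) {l : F} (h0 : plusForm 4 F (c + l • one8 F) ≠ 0)
    (h1 : B (c + l • one8 F) (one8 F) ≠ 0) :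
    ∃ b : V8 F, s.1 b = b ∧ plusForm 4 F b = 1 ∧ B b (one8 F) ^ 2 ≠ 4 := by
  have hso : s.1 (one8 F) = one8 F := aut_one hs
  set v := c + l • one8 F with hv
  have hvs : s.1 v = v := by
    rw [hv, (aut_ss hs hl).add, (aut_ss hs hl).smul, hc, hso]; rfl
  have hd' : B v (one8 F) ^ 2 - 4 * plusForm 4 F v ≠ 0 := by
    have e1 : B v (one8 F) = B c (one8 F) + 2 * l := by
      rw [hv, pl_add_left, pl_smul_left, pl_one_one]; ring
    have e2 : plusForm 4 F v = plusForm 4 F c + l * B c (one8 F) + l * l := by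
      rw [hv, q_add, q_smul, norm_one8, pl_smul]; ring
    rw [e1, e2]
    intro h
    apply hd
    linear_combination h
  refine ⟨one8 F - (B v (one8 F) / plusForm 4 F v) • v, ?_, ?_, ?_⟩
  · rw [(aut_ss hs hl).sub, (aut_ss hs hl).smul, hso, hvs]; rfl
  · rw [sub_eq_add_neg, ← neg_smul, q_add, q_smul, norm_one8, pl_smul, pl_comm (one8 F) v]
    field_simp
    ring
  · rw [pl_sub_left, pl_smul_left, pl_one_one]
    intro h
    have e : (B v (one8 F) / plusForm 4 F v * B v (one8 F)) *
        (B v (one8 F) / plusForm 4 F v * B v (one8 F) - 4) = 0 := by linear_combination h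
    rcases mul_eq_zero.1 e with h3 | h3
    · rcases mul_eq_zero.1 h3 with h4 | h4
      · rcases div_eq_zero_iff.1 h4 with h5 | h5
        · exact h1 h5
        · exact h0 h5
      · exact h1 h4
    · apply hd'
      rw [sub_eq_zero, div_mul_eq_mul_div, div_eq_iff h0] at h3
      linear_combination h3

/-- `q ≥ 4` -/
theorem fix_pair_four [Finite F] (hG : _root_.Cfsg.Agent.LieClassical.OrthTrans.Good (plusForm 4 F)) (hq : 4 ≤ Nat.card F) {s : G8 F} (hs : TriS s s s)
    (hl : IsLin s) {m : ℕ} (hm : (m : F) ≠ 0) (hsm : s ^ m = 1) :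
    ∃ b : V8 F, s.1 b = b ∧ plusForm 4 F b = 1 ∧ B b (one8 F) ^ 2 ≠ 4 := by
  classical
  have := Fintype.ofFinite F
  obtain ⟨c, hc, hd, hc2⟩ := exists_disc hs hl hG hm hsm
  set t := B c (one8 F) with ht
  set k := plusForm 4 F c with hk
  have hql : ∀ l : F, plusForm 4 F (c + l • one8 F) = l ^ 2 + l * t + k := fun l => by
    rw [q_add, q_smul, norm_one8, pl_smul, ← ht, ← hk]; ring
  have hbl : ∀ l : F, B (c + l • one8 F) (one8 F) = t + 2 * l := fun l => by
    rw [pl_add_left, pl_smul_left, pl_one_one, ← ht]; ring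
  -- the bad values
  have hroots : ∃ S : Finset F, S.card ≤ 2 ∧ ∀ l : F, l ^ 2 + l * t + k = 0 → l ∈ S := by
    by_cases hex : ∃ l : F, l ^ 2 + l * t + k = 0
    · obtain ⟨l0, hl0⟩ := hex
      refine ⟨{l0, - t - l0}, Finset.card_le_two, fun l hl => ?_⟩
      rw [Finset.mem_insert, Finset.mem_singleton]
      have e : (l - l0) * (l - (- t - l0)) = 0 := by linear_combination hl - hl0
      rcases mul_eq_zero.1 e with h | h
      · exact Or.inl (sub_eq_zero.1 h)
      · exact Or.inr (sub_eq_zero.1 h)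
    · exact ⟨∅, by simp, fun l hl => absurd ⟨l, hl⟩ hex⟩
  obtain ⟨S, hS, hS'⟩ := hroots
  have hbad : ∃ S' : Finset F, S'.card ≤ 1 ∧ ∀ l : F, t + 2 * l = 0 → l ∈ S' := by
    by_cases h2 : (2 : F) = 0
    · refine ⟨∅, by simp, fun l hl' => ?_⟩
      exfalso
      rw [h2, zero_mul, add_zero] at hl'
      apply hd
      rw [hl']
      linear_combination (-2 * k) * h2
    · refine ⟨{-t / 2}, by simp, fun l hl' => ?_⟩
      rw [Finset.mem_singleton, eq_div_iff h2]
      linear_combination hl'
  obtain ⟨S', hS1, hS1'⟩ := hbad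
  obtain ⟨l, hl1⟩ : ∃ l : F, l ∉ S ∪ S' := by
    by_contra hcon
    push Not at hcon
    have h1 : Finset.univ ⊆ S ∪ S' := fun x _ => hcon x
    have h2 := Finset.card_le_card h1
    have h3 := Finset.card_union_le S S'
    rw [Finset.card_univ, ← Nat.card_eq_fintype_card] at h2
    omega
  rw [Finset.mem_union, not_or] at hl1
  refine exists_norm_one hs hl hc hd (l := l) ?_ ?_
  · rw [hql]
    exact fun h => hl1.1 (hS' l h)
  · rw [hbl]
    exact fun h => hl1.2 (hS1' l h)

/-- the square of an octonion -/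
theorem sq8 (x : V8 F) : omul x x = B x (one8 F) • x - plusForm 4 F x • one8 F := by
  rw [norm8, polar8]
  apply ext8 <;>
    simp only [omul_l0, omul_l1, omul_l2, omul_l3, omul_r0, omul_r1, omul_r2, omul_r3, Pi.sub_apply,
      Pi.smul_apply, smul_eq_mul, one8, Sum.elim_inl, Sum.elim_inr, Matrix.cons_val_zero, Matrix.cons_val_one,
      Matrix.cons_val] <;>
    ring

/-- the case `q ≤ 3`, given an idempotent -/
theorem fix_idem {s : G8 F} (hs : TriS s s s) (hl : IsLin s) {m : ℕ} (hm : (m : F) ≠ 0) (hsm : s ^ m = 1)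
    (hval : ∀ a : F, a = 0 ∨ a = 1 ∨ (a = -1 ∧ (3 : F) = 0)) (h23 : (2 : F) = 0 ∨ (3 : F) = 0)
    {e : V8 F} (he : s.1 e = e) (hq : plusForm 4 F e = 0) (ht : B e (one8 F) = 1) :
    (∃ b : V8 F, s.1 b = b ∧ plusForm 4 F b = 1 ∧ B b (one8 F) ^ 2 ≠ 4) ∨
      ∀ v : V8 F, s.1 v = v → ∃ a c : F, v = a • one8 F + c • e := by
  have hso : s.1 (one8 F) = one8 F := aut_one hs
  have h1 : (1 : F) ≠ 0 := one_ne_zero
  -- projection
  have hproj : ∀ v : V8 F, s.1 v = v → ∃ (a c : F) (v' : V8 F), v = a • one8 F + c • e + v' ∧ s.1 v' = v' ∧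
      B v' (one8 F) = 0 ∧ B v' e = 0 := by
    intro v hv
    refine ⟨B v e, B v (one8 F) - 2 * B v e, v - (B v e) • one8 F - (B v (one8 F) - 2 * B v e) • e, ?_, ?_, ?_, ?_⟩
    · abel
    · rw [(aut_ss hs hl).sub, (aut_ss hs hl).sub, (aut_ss hs hl).smul, (aut_ss hs hl).smul, hv, he, hso]; rfl
    · rw [pl_sub_left, pl_sub_left, pl_smul_left, pl_smul_left, pl_one_one, ht]; ring
    · rw [pl_sub_left, pl_sub_left, pl_smul_left, pl_smul_left, pl_self, hq, pl_comm (one8 F) e, ht]; ring
  by_cases hall : ∀ v' : V8 F, s.1 v' = v' → B v' (one8 F) = 0 → B v' e = 0 → v' = 0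
  · right
    intro v hv
    obtain ⟨a, c, v', h2, h3, h4, h5⟩ := hproj v hv
    refine ⟨a, c, ?_⟩
    rw [hall v' h3 h4 h5, add_zero] at h2
    exact h2
  · left
    push Not at hall
    obtain ⟨v', hv', hv1, hve, hv0⟩ := hall
    -- a vector of norm different from zero
    obtain ⟨x, hx, hx1, hxe, hxq⟩ : ∃ x : V8 F, s.1 x = x ∧ B x (one8 F) = 0 ∧ B x e = 0 ∧ plusForm 4 F x ≠ 0 := by
      by_contra hcon
      push Not at hcon
      obtain ⟨z, hz, hvz⟩ := fix_nondeg hs hl hm hsm hv0 hv'
      obtain ⟨a, c, z', h2, h3, h4, h5⟩ := hproj z hz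
      have h6 : B v' z' = B v' z := by
        rw [h2, pl_add, pl_add, pl_smul, pl_smul, hv1, hve]; ring
      have h7 := hcon (v' + z') (by rw [(aut_ss hs hl).add, hv', h3]) (by rw [pl_add_left, hv1, h4, add_zero])
        (by rw [pl_add_left, hve, h5, add_zero])
      rw [q_add, hcon v' hv' hv1 hve, hcon z' h3 h4 h5, h6, zero_add, zero_add] at h7
      exact hvz h7
    rcases h23 with h2 | h3
    · -- `q = 2`
      have hx1' : plusForm 4 F x = 1 := by
        rcases hval (plusForm 4 F x) with h | h | ⟨-, h⟩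
        · exact absurd h hxq
        · exact h
        · exfalso
          apply h1
          linear_combination h - h2
      refine ⟨e + x, ?_, ?_, ?_⟩
      · rw [(aut_ss hs hl).add, he, hx]
      · rw [q_add, hq, hx1', pl_comm, hxe]; ring
      · rw [pl_add_left, ht, hx1]
        intro h
        apply h1
        linear_combination h + 2 * h2
    · -- `q = 3`
      by_cases hx1' : plusForm 4 F x = 1
      · refine ⟨x, hx, hx1', ?_⟩
        rw [hx1]
        intro h
        apply h1
        linear_combination -h - h3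
      · have hxm : plusForm 4 F x = -1 := by
          rcases hval (plusForm 4 F x) with h | h | ⟨h, -⟩
          · exact absurd h hxq
          · exact absurd h hx1'
          · exact h
        refine ⟨(2 : F) • e + (-1 : F) • one8 F + x, ?_, ?_, ?_⟩
        · rw [(aut_ss hs hl).add, (aut_ss hs hl).add, (aut_ss hs hl).smul, (aut_ss hs hl).smul, he, hx, hso]; rfl
        · have e1 : B ((2 : F) • e + (-1 : F) • one8 F) x = 0 := by
            rw [pl_add_left, pl_smul_left, pl_smul_left, pl_comm e x, pl_comm (one8 F) x, hxe, hx1]; ring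
          rw [q_add, q_add, q_smul, q_smul, pl_smul_left, pl_smul, norm_one8, hq, hxm, ht, e1]
          linear_combination -h3
        · rw [pl_add_left, pl_add_left, pl_smul_left, pl_smul_left, pl_one_one, ht, hx1]
          intro h
          apply h1
          linear_combination -h - h3

/-- **Box iA**: one semisimple element -/
theorem fix_pair [Finite F] (hG : _root_.Cfsg.Agent.LieClassical.OrthTrans.Good (plusForm 4 F)) {s : G8 F} (hs : TriS s s s)
    (hl : IsLin s) {m : ℕ} (hm : (m : F) ≠ 0) (hsm : s ^ m = 1) :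
    (∃ b : V8 F, s.1 b = b ∧ plusForm 4 F b = 1 ∧ B b (one8 F) ^ 2 ≠ 4) ∨
    (Nat.card F ≤ 3 ∧ ∃ e : V8 F, s.1 e = e ∧ omul e e = e ∧ plusForm 4 F e = 0 ∧ B e (one8 F) = 1 ∧
      ∀ v : V8 F, s.1 v = v → ∃ a c : F, v = a • one8 F + c • e) := by
  classical
  have := Fintype.ofFinite F
  rcases Nat.lt_or_ge (Nat.card F) 4 with hq | hq
  swap
  · exact Or.inl (fix_pair_four hG hq hs hl hm hsm)
  by_cases hex : ∃ b : V8 F, s.1 b = b ∧ plusForm 4 F b = 1 ∧ B b (one8 F) ^ 2 ≠ 4
  · exact Or.inl hex
  right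
  refine ⟨by omega, ?_⟩
  have hso : s.1 (one8 F) = one8 F := aut_one hs
  have h1 : (1 : F) ≠ 0 := one_ne_zero
  -- the values
  have hval : ((2 : F) = 0 ∧ ∀ a : F, a = 0 ∨ a = 1) ∨ ((3 : F) = 0 ∧ ∀ a : F, a = 0 ∨ a = 1 ∨ a = -1) := by
    have hc2 : 2 ≤ Nat.card F := by
      rw [Nat.card_eq_fintype_card]
      exact Fintype.one_lt_card
    have hcs : ((Nat.card F : ℕ) : F) = 0 := by
      rw [Nat.card_eq_fintype_card]
      exact FiniteField.cast_card_eq_zero F
    have hcases : Nat.card F = 2 ∨ Nat.card F = 3 := by omega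
    rcases hcases with h | h
    · left
      rw [h] at hcs
      refine ⟨by exact_mod_cast hcs, fun a => ?_⟩
      have h3 : a ^ Fintype.card F = a := FiniteField.pow_card a
      rw [← Nat.card_eq_fintype_card, h] at h3
      have e : a * (a - 1) = 0 := by linear_combination h3
      rcases mul_eq_zero.1 e with h4 | h4
      · exact Or.inl h4
      · exact Or.inr (sub_eq_zero.1 h4)
    · right
      rw [h] at hcs
      refine ⟨by exact_mod_cast hcs, fun a => ?_⟩
      have h3 : a ^ Fintype.card F = a := FiniteField.pow_card a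
      rw [← Nat.card_eq_fintype_card, h] at h3
      have e : a * ((a - 1) * (a + 1)) = 0 := by linear_combination h3
      rcases mul_eq_zero.1 e with h4 | h4
      · exact Or.inl h4
      rcases mul_eq_zero.1 h4 with h5 | h5
      · exact Or.inr (Or.inl (sub_eq_zero.1 h5))
      · exact Or.inr (Or.inr (eq_neg_of_add_eq_zero_left h5))
  obtain ⟨c, hc, hd, hc2⟩ := exists_disc hs hl hG hm hsm
  -- the idempotent
  obtain ⟨e, he, hq0, ht⟩ : ∃ e : V8 F, s.1 e = e ∧ plusForm 4 F e = 0 ∧ B e (one8 F) = 1 := by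
    rcases hval with ⟨h2, hv⟩ | ⟨h3, hv⟩
    · have ht1 : B c (one8 F) = 1 := by
        rcases hv (B c (one8 F)) with h | h
        · exfalso
          apply hd
          rw [h]
          linear_combination (-2 * plusForm 4 F c) * h2
        · exact h
      refine ⟨c, hc, ?_, ht1⟩
      rcases hv (plusForm 4 F c) with h | h
      · exact h
      · exfalso
        apply hex
        refine ⟨c, hc, h, ?_⟩
        rw [ht1]
        intro h4
        apply h1
        linear_combination h4 + 2 * h2
    · have h2 : (2 : F) ≠ 0 := by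
        intro h2
        apply h1
        linear_combination h3 - h2
      have ht0 := hc2 h2
      have hqc : plusForm 4 F c = -1 := by
        rcases hv (plusForm 4 F c) with h | h | h
        · exfalso
          apply hd
          rw [ht0, h]; ring
        · exfalso
          apply hex
          refine ⟨c, hc, h, ?_⟩
          rw [ht0]
          intro h4
          apply h1
          linear_combination -h4 - h3
        · exact h
      refine ⟨(-1 : F) • one8 F + (-1 : F) • c, ?_, ?_, ?_⟩
      · rw [(aut_ss hs hl).add, (aut_ss hs hl).smul, (aut_ss hs hl).smul, hso, hc]; rfl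
      · rw [q_add, q_smul, q_smul, pl_smul_left, pl_smul, norm_one8, hqc, pl_comm (one8 F) c, ht0]; ring
      · rw [pl_add_left, pl_smul_left, pl_smul_left, pl_one_one, ht0]
        linear_combination -h3
  refine ⟨e, he, ?_, hq0, ht, ?_⟩
  · rw [sq8, hq0, ht, one_smul, zero_smul, sub_zero]
  · refine (fix_idem hs hl hm hsm ?_ ?_ he hq0 ht).resolve_left hex
    · rcases hval with ⟨h2, hv⟩ | ⟨h3, hv⟩
      · intro a
        rcases hv a with h | h
        · exact Or.inl h
        · exact Or.inr (Or.inl h)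
      · intro a
        rcases hv a with h | h | h
        · exact Or.inl h
        · exact Or.inr (Or.inl h)
        · exact Or.inr (Or.inr ⟨h, h3⟩)
    · rcases hval with ⟨h2, -⟩ | ⟨h3, -⟩
      · exact Or.inl h2
      · exact Or.inr h3

end Cfsg.Agent.H103.RC
end

-- part: H338/RC/TriS
section
/-!
# S3510, triality type (i), box iS (helper338)

A family of commuting linear octonion automorphisms of order prime to `p` whose common fixed space `A` is a plane,
and an octonion automorphism `U ≠ 1` of order `p` commuting with them: `U` is trivial on `A`, and `A` contains an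
element `b` of norm one with `polar b 1 ^ 2 ≠ 4`.
-/

set_option autoImplicit false

namespace Cfsg.Agent.H338.RC.TriS

open Module QuadraticMap Cfsg.Agent.LieClassical.OrthCore Cfsg.Agent.LieClassical.OrthTrans
  Cfsg.Agent.ClassicalGeometry.OrthSemi Cfsg.Agent.H198.Classes
  Cfsg.Agent.LieClassical.QuadForms Cfsg.Agent.H198.ClassesPlus
  Cfsg.Agent.ClassicalGeometry.TrialityOct Cfsg.Agent.ClassicalGeometry.Triality
  Cfsg.Agent.ClassicalGeometry.TrialitySpaces Cfsg.Agent.H198.TriBase Cfsg.Agent.H198.TriDia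

universe u

variable {F : Type u} [Field F]

/-- A linear octonion automorphism. -/
structure OL (g : V8 F ≃ₗ[F] V8 F) : Prop where
  mul : ∀ x y, g (omul x y) = omul (g x) (g y)
  nm : ∀ x, plusForm 4 F (g x) = plusForm 4 F x
  one : g (one8 F) = one8 F

theorem exists_OL {M : G8 F} (hT : TriS M M M) (hl : IsLin M) :
    ∃ g : V8 F ≃ₗ[F] V8 F, OL g ∧ ∀ x, g x = M.1 x := by
  obtain ⟨c, hs⟩ := hl
  have hc := aut_mult hT hs
  refine ⟨{ M.1 with
    map_add' := hs.add
    map_smul' := hs.smul }, ⟨hT, fun x => ?_, aut_one hT⟩, fun _ => rfl⟩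
  have := hs.form x
  rw [hc, one_mul] at this
  exact this

theorem OL.pol {g : V8 F ≃ₗ[F] V8 F} (h : OL g) (x y : V8 F) :
    polar (plusForm 4 F) (g x) (g y) = polar (plusForm 4 F) x y := by
  rw [polar, polar, ← map_add, h.nm, h.nm, h.nm]

theorem OL.pow_apply {g : V8 F ≃ₗ[F] V8 F} {M : G8 F} (h : ∀ x, g x = M.1 x) (n : ℕ) (x : V8 F) :
    (g ^ n) x = (M ^ n).1 x := by
  induction n generalizing x with
  | zero => rfl
  | succ n ih =>
    rw [pow_succ, pow_succ]
    change (g ^ n) (g x) = (M ^ n).1 (M.1 x)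
    rw [ih, h]

/-! ### Octonion identities -/

theorem oct_sq (x : V8 F) : omul x x = polar (plusForm 4 F) x (one8 F) • x - plusForm 4 F x • one8 F := by
  rw [polar8, norm8]
  apply ext8 <;>
  · simp only [omul_l0, omul_l1, omul_l2, omul_l3, omul_r0, omul_r1, omul_r2, omul_r3, Pi.sub_apply, Pi.smul_apply,
      smul_eq_mul, one8, Sum.elim_inl, Sum.elim_inr, Matrix.cons_val_zero, Matrix.cons_val_one, Matrix.cons_val]
    ring

theorem left_alt (x y : V8 F) : omul x (omul x y) = omul (omul x x) y := by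
  coord8

theorem right_alt (x y : V8 F) : omul (omul y x) x = omul y (omul x x) := by
  coord8

theorem polar_one_one : polar (plusForm 4 F) (one8 F) (one8 F) = 2 := by
  rw [polar8]
  simp [one8]
  norm_num

theorem polar_self' (x : V8 F) : polar (plusForm 4 F) x x = 2 * plusForm 4 F x := by
  rw [polar8, norm8]
  ring

theorem sub_omul' (x x' y : V8 F) : omul (x - x') y = omul x y - omul x' y := by
  have h := add_omul (x - x') x' y
  rw [sub_add_cancel] at h
  rw [h, add_sub_cancel_right]

theorem omul_sub' (x y y' : V8 F) : omul x (y - y') = omul x y - omul x y' := by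
  have h := omul_add x (y - y') y'
  rw [sub_add_cancel] at h
  rw [h, add_sub_cancel_right]

/-! ### The fixed space is nondegenerate -/

theorem exists_avg {κ : Type*} [Finite κ] (g : κ → (V8 F ≃ₗ[F] V8 F)) (hg : ∀ j, OL (g j)) (r : κ → ℕ)
    (hr : ∀ j, ((r j : ℕ) : F) ≠ 0) (hM : ∀ j, g j ^ r j = 1) (hc : ∀ i j, g i * g j = g j * g i) (v : V8 F) :
    ∃ v' : V8 F, ∃ c : F, c ≠ 0 ∧ (∀ j, g j v' = v') ∧
      ∀ x : V8 F, (∀ j, g j x = x) → polar (plusForm 4 F) x v' = c * polar (plusForm 4 F) x v := by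
  classical
  have := Fintype.ofFinite κ
  have key : ∀ s : Finset κ, ∃ v' : V8 F, ∃ c : F, c ≠ 0 ∧ (∀ j ∈ s, g j v' = v') ∧
      ∀ x : V8 F, (∀ j, g j x = x) → polar (plusForm 4 F) x v' = c * polar (plusForm 4 F) x v := by
    intro s
    induction s using Finset.induction_on with
    | empty => exact ⟨v, 1, one_ne_zero, by simp, fun x _ => (one_mul _).symm⟩
    | insert j s hj ih =>
      obtain ⟨w, c, hc0, hw, hx⟩ := ih
      refine ⟨∑ i ∈ Finset.range (r j), (g j ^ i) w, (r j : F) * c, mul_ne_zero (hr j) hc0, ?_, ?_⟩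
      · intro k hk
        rcases Finset.mem_insert.1 hk with rfl | hk
        · rw [map_sum]
          have e1 : ∀ i, g k ((g k ^ i) w) = (g k ^ (i + 1)) w := fun i => by rw [pow_succ']; rfl
          simp only [e1]
          have e2 := Finset.sum_range_succ' (fun i => (g k ^ i) w) (r k)
          have e3 := Finset.sum_range_succ (fun i => (g k ^ i) w) (r k)
          rw [e2, hM k, pow_zero] at e3
          exact add_right_cancel e3
        · rw [map_sum]
          refine Finset.sum_congr rfl fun i _ => ?_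
          have hcm : Commute (g k) (g j ^ i) := Commute.pow_right (hc k j) i
          have : g k ((g j ^ i) w) = (g j ^ i) (g k w) := by
            have := congrArg (fun f : V8 F ≃ₗ[F] V8 F => f w) hcm.eq
            exact this
          rw [this, hw k hk]
      · intro x hxf
        have e1 : ∀ i, (g j ^ i) x = x := by
          intro i
          induction i with
          | zero => rfl
          | succ i ih =>
            rw [pow_succ]
            change (g j ^ i) (g j x) = x
            rw [hxf j, ih]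
        have e2 : ∀ i, ∀ y z, polar (plusForm 4 F) ((g j ^ i) y) ((g j ^ i) z) = polar (plusForm 4 F) y z := by
          intro i
          induction i with
          | zero => intro y z; rfl
          | succ i ih =>
            intro y z
            rw [pow_succ]
            change polar (plusForm 4 F) ((g j ^ i) (g j y)) ((g j ^ i) (g j z)) = _
            rw [ih, (hg j).pol]
        have e3 : ∀ i, polar (plusForm 4 F) x ((g j ^ i) w) = polar (plusForm 4 F) x w := by
          intro i
          conv_lhs => rw [← e1 i]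
          exact e2 i x w
        have e4 : polar (plusForm 4 F) x (∑ i ∈ Finset.range (r j), (g j ^ i) w) =
            ∑ i ∈ Finset.range (r j), polar (plusForm 4 F) x ((g j ^ i) w) :=
          map_sum (polarBilin (plusForm 4 F) x) _ _
        rw [e4]
        simp only [e3]
        rw [Finset.sum_const, Finset.card_range, hx x hxf, nsmul_eq_mul, mul_assoc]
  obtain ⟨v', c, h1, h2, h3⟩ := key Finset.univ
  exact ⟨v', c, h1, fun j => h2 j (Finset.mem_univ j), h3⟩

/-- The radical of the fixed space is zero. -/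
theorem fix_nondeg {κ : Type*} [Finite κ] (g : κ → (V8 F ≃ₗ[F] V8 F)) (hg : ∀ j, OL (g j)) (r : κ → ℕ)
    (hr : ∀ j, ((r j : ℕ) : F) ≠ 0) (hM : ∀ j, g j ^ r j = 1) (hc : ∀ i j, g i * g j = g j * g i) {x : V8 F}
    (hx : ∀ j, g j x = x) (h : ∀ y : V8 F, (∀ j, g j y = y) → polar (plusForm 4 F) x y = 0) : x = 0 := by
  apply ClassicalGeometry.Triality.nondeg8
  intro v
  obtain ⟨v', c, hc0, hf, he⟩ := exists_avg g hg r hr hM hc v
  have h1 := he x hx
  rw [h v' hf] at h1
  exact (mul_eq_zero.1 h1.symm).resolve_left hc0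

/-! ### The swap case -/

/-- An alternating form on a space of dimension three has a radical. -/
theorem exists_radical {W : Type*} [AddCommGroup W] [Module F W] (hW : finrank F W = 3) (B : W →ₗ[F] W →ₗ[F] F)
    (hB : ∀ x, B x x = 0) : ∃ x : W, x ≠ 0 ∧ ∀ y, B x y = 0 := by
  have : FiniteDimensional F W := FiniteDimensional.of_finrank_pos (by rw [hW]; norm_num)
  have hs : ∀ x y, B x y = - B y x := by
    intro x y
    have h := hB (x + y)
    simp only [map_add, LinearMap.add_apply, hB, zero_add, add_zero] at h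
    exact eq_neg_of_add_eq_zero_left (by rw [add_comm]; exact h)
  let b := finBasisOfFinrankEq F W hW
  by_cases h0 : B (b 1) (b 2) = 0 ∧ B (b 0) (b 2) = 0 ∧ B (b 0) (b 1) = 0
  · refine ⟨b 0, b.ne_zero 0, fun y => ?_⟩
    have h1 : B (b 0) = 0 := by
      apply b.ext
      intro i
      fin_cases i
      · exact hB _
      · exact h0.2.2
      · exact h0.2.1
    rw [h1, LinearMap.zero_apply]
  · refine ⟨B (b 1) (b 2) • b 0 - B (b 0) (b 2) • b 1 + B (b 0) (b 1) • b 2, ?_, fun y => ?_⟩
    · intro h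
      apply h0
      have h1 : ∑ i : Fin 3, (![B (b 1) (b 2), - B (b 0) (b 2), B (b 0) (b 1)] i) • b i = 0 := by
        rw [Fin.sum_univ_three]
        simp only [Matrix.cons_val_zero, Matrix.cons_val_one, Matrix.cons_val]
        rw [neg_smul, ← sub_eq_add_neg]
        exact h
      have h2 := Fintype.linearIndependent_iff.1 b.linearIndependent _ h1
      exact ⟨h2 0, neg_eq_zero.1 (h2 1), h2 2⟩
    · have h1 : B (B (b 1) (b 2) • b 0 - B (b 0) (b 2) • b 1 + B (b 0) (b 1) • b 2) = 0 := by
        apply b.ext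
        intro i
        rw [map_add, map_sub, map_smul, map_smul, map_smul]
        simp only [LinearMap.add_apply, LinearMap.sub_apply, LinearMap.smul_apply, LinearMap.zero_apply, smul_eq_mul]
        fin_cases i
        · change B (b 1) (b 2) * B (b 0) (b 0) - B (b 0) (b 2) * B (b 1) (b 0) + B (b 0) (b 1) * B (b 2) (b 0) = 0
          rw [hB, hs (b 1) (b 0), hs (b 2) (b 0)]
          ring
        · change B (b 1) (b 2) * B (b 0) (b 1) - B (b 0) (b 2) * B (b 1) (b 1) + B (b 0) (b 1) * B (b 2) (b 1) = 0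
          rw [hB, hs (b 2) (b 1)]
          ring
        · change B (b 1) (b 2) * B (b 0) (b 2) - B (b 0) (b 2) * B (b 1) (b 2) + B (b 0) (b 1) * B (b 2) (b 2) = 0
          rw [hB]
          ring
      rw [h1, LinearMap.zero_apply]

/-- `polar (a x) (a y) = Q a * polar x y`. -/
theorem polar_omul_left (a x y : V8 F) :
    polar (plusForm 4 F) (omul a x) (omul a y) = plusForm 4 F a * polar (plusForm 4 F) x y := by
  rw [polar, ← omul_add, norm_omul, norm_omul, norm_omul, polar]
  ring

theorem polar_omul_one (a x : V8 F) : polar (plusForm 4 F) (omul a x) (one8 F) =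
    polar (plusForm 4 F) x (one8 F) * polar (plusForm 4 F) a (one8 F) - polar (plusForm 4 F) a x := by
  rw [polar_omul, one_omul, oconj_eq, polar_sub_right, polar_smul_right, smul_eq_mul]

/-- In characteristic two, an involutory automorphism which commutes with the family cannot conjugate the
common fixed plane. -/
theorem no_swap [Finite F] (h2 : (2 : F) = 0) {κ : Type*} (g : κ → (V8 F ≃ₗ[F] V8 F)) (hg : ∀ j, OL (g j))
    (U : V8 F ≃ₗ[F] V8 F) (hU : OL U) (hUU : ∀ x, U (U x) = x) (hUc : ∀ j, U * g j = g j * U) (a : V8 F)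
    (ha : polar (plusForm 4 F) a (one8 F) = 1) (haU : U a = a + one8 F)
    (hA : ∀ x, (∀ j, g j x = x) → ∃ c d : F, x = c • one8 F + d • a) : False := by
  have hch : CharP F 2 := by
    have : ((2 : ℕ) : F) = 0 := by exact_mod_cast h2
    exact CharTwo.of_one_ne_zero_of_two_eq_zero one_ne_zero h2
  have hpos := polar_self' (F := F)
  have hps : ∀ x : V8 F, polar (plusForm 4 F) x x = 0 := fun x => by rw [polar_self', h2, zero_mul]
  have hneg : ∀ x : F, -x = x := fun x => CharTwo.neg_eq x
  have hself : ∀ x : F, x + x = 0 := fun x => CharTwo.add_self_eq_zero x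
  have hself' : ∀ x : V8 F, x + x = 0 := fun x => by
    funext i
    exact hself _
  have hcU : ∀ j x, U (g j x) = g j (U x) := fun j x =>
    congrArg (fun f : V8 F ≃ₗ[F] V8 F => f x) (hUc j)
  -- the additive form `f x = polar x (U x)`
  have hf : ∃ w : V8 F, (∀ j, g j w = w) ∧ ∀ x, polar (plusForm 4 F) x (U x) = polar (plusForm 4 F) w x ^ 2 := by
    have hinj : Function.Injective (frobenius F 2) := (frobenius F 2).injective
    have hbij : Function.Bijective (frobenius F 2) := ⟨hinj, Finite.surjective_of_injective hinj⟩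
    have hsq : ∀ c : F, ∃ d : F, d ^ 2 = c := fun c => hbij.2 c
    choose sq hsq using hsq
    have huniq : ∀ c d : F, c ^ 2 = d ^ 2 → c = d := fun c d h => hinj h
    have hadd : ∀ x y, polar (plusForm 4 F) (x + y) (U (x + y)) =
        polar (plusForm 4 F) x (U x) + polar (plusForm 4 F) y (U y) := by
      intro x y
      have e : polar (plusForm 4 F) y (U x) = polar (plusForm 4 F) x (U y) := by
        rw [polar_comm, ← hU.pol, hUU]
      rw [map_add, polar_add_left, polar_add_right, polar_add_right, e]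
      have := hself (polar (plusForm 4 F) x (U y))
      linear_combination this
    have hsmul : ∀ (c : F) x, polar (plusForm 4 F) (c • x) (U (c • x)) = c ^ 2 * polar (plusForm 4 F) x (U x) := by
      intro c x
      rw [map_smul, polar_smul_left, polar_smul_right, smul_eq_mul, smul_eq_mul]
      ring
    let ℓ : V8 F →ₗ[F] F :=
      { toFun := fun x => sq (polar (plusForm 4 F) x (U x))
        map_add' := fun x y => huniq _ _ (by rw [hsq, hadd, add_pow_two, hsq, hsq, h2]; ring)
        map_smul' := fun c x => huniq _ _ (by rw [hsq, hsmul, RingHom.id_apply, smul_eq_mul, mul_pow, hsq]) }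
    have hℓ : ∀ x, ℓ x ^ 2 = polar (plusForm 4 F) x (U x) := fun x => hsq _
    have hnd := _root_.Cfsg.Agent.ClassicalGeometry.TrialitySpaces.polarBilin_nondegenerate (F := F)
    let w := (LinearMap.BilinForm.toDual (polarBilin (plusForm 4 F)) hnd).symm ℓ
    have hw : ∀ x, polar (plusForm 4 F) w x = ℓ x := by
      intro x
      have := LinearMap.BilinForm.apply_toDual_symm_apply (hB := hnd) ℓ x
      exact this
    refine ⟨w, fun j => ?_, fun x => ?_⟩
    · rw [← sub_eq_zero]
      apply ClassicalGeometry.Triality.nondeg8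
      intro y
      obtain ⟨y, rfl⟩ := (g j).surjective y
      rw [polar_sub_left, (hg j).pol, hw, hw, sub_eq_zero]
      apply huniq
      rw [hℓ, hℓ, hcU, (hg j).pol]
    · rw [hw, hℓ]
  obtain ⟨w, hwf, hw⟩ := hf
  obtain ⟨α, β, hwe⟩ := hA w hwf
  -- `N = U + 1`
  let N : V8 F →ₗ[F] V8 F := U.toLinearMap + LinearMap.id
  have hN : ∀ x, N x = U x + x := fun _ => rfl
  have hfix : ∀ x, N x = 0 ↔ U x = x := by
    intro x
    rw [hN]
    constructor
    · intro h
      have h3 := congrArg (· + x) h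
      beta_reduce at h3
      rwa [add_assoc, hself', add_zero, zero_add] at h3
    · intro h
      rw [h, hself']
  have hNN : ∀ x, U (N x) = N x := by
    intro x
    rw [hN, map_add, hUU, add_comm]
  have hNa : ∀ x, U x = x → N (omul a x) = x := by
    intro x hx
    rw [hN, hU.mul, haU, hx, add_omul, one_omul, add_comm (omul a x) x, add_assoc, hself', add_zero]
  have hrk : LinearMap.range N = LinearMap.ker N := by
    ext x
    rw [LinearMap.mem_ker, hfix]
    constructor
    · rintro ⟨y, rfl⟩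
      exact hNN y
    · intro hx
      exact ⟨_, hNa x hx⟩
  have hd4 : finrank F (LinearMap.ker N) = 4 := by
    have h1 := LinearMap.finrank_range_add_finrank_ker N
    have h8 : finrank F (V8 F) = 8 := by simp
    rw [hrk, h8] at h1
    omega
  -- the fixed space is totally isotropic
  have hiso : ∀ x y, U x = x → U y = y → polar (plusForm 4 F) x y = 0 := by
    intro x y hx hy
    have h1 := hU.pol (omul a x) y
    rw [hU.mul, haU, hx, hy, add_omul, one_omul, polar_add_left] at h1
    exact add_eq_left.1 h1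
  have hone : U (one8 F) = one8 F := hU.one
  -- the space `U0`
  let l : LinearMap.ker N →ₗ[F] F := (polarBilin (plusForm 4 F) a).comp (LinearMap.ker N).subtype
  have hl : ∀ x, l x = polar (plusForm 4 F) a x.1 := fun _ => rfl
  have hmem : ∀ x : LinearMap.ker l, U x.1.1 = x.1.1 ∧ polar (plusForm 4 F) a x.1.1 = 0 := fun x =>
    ⟨(hfix _).1 x.1.2, x.2⟩
  have hd3 : finrank F (LinearMap.ker l) = 3 := by
    have h1 := LinearMap.finrank_range_add_finrank_ker l
    have h3 : LinearMap.range l = ⊤ := by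
      rw [LinearMap.range_eq_top]
      intro c
      refine ⟨c • ⟨one8 F, (hfix _).2 hone⟩, ?_⟩
      rw [map_smul, hl, ha, smul_eq_mul, mul_one]
    rw [h3, finrank_top, finrank_self, hd4] at h1
    omega
  let B : LinearMap.ker l →ₗ[F] LinearMap.ker l →ₗ[F] F :=
    LinearMap.mk₂ F (fun x y => polar (plusForm 4 F) (omul a x.1.1) y.1.1)
      (fun x x' y => by
        change polar (plusForm 4 F) (omul a (x.1.1 + x'.1.1)) y.1.1 = _
        rw [omul_add, polar_add_left])
      (fun c x y => by
        change polar (plusForm 4 F) (omul a (c • x.1.1)) y.1.1 = _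
        rw [omul_smul, polar_smul_left])
      (fun x y y' => by
        change polar (plusForm 4 F) (omul a x.1.1) (y.1.1 + y'.1.1) = _
        rw [polar_add_right])
      (fun c x y => by
        change polar (plusForm 4 F) (omul a x.1.1) (c • y.1.1) = _
        rw [polar_smul_right])
  have hBe : ∀ x y, B x y = polar (plusForm 4 F) (omul a x.1.1) y.1.1 := fun _ _ => rfl
  have hBalt : ∀ x, B x x = 0 := by
    intro x
    obtain ⟨hx, hx'⟩ := hmem x
    rw [hBe]
    have h1 := hw (omul a x.1.1)
    have h3 : polar (plusForm 4 F) (one8 F) (omul a x.1.1) = 0 := by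
      rw [polar_comm, polar_omul_one, hiso _ _ hx hone, hx', zero_mul, sub_zero]
    have h4 : polar (plusForm 4 F) a (omul a x.1.1) = 0 := by
      have h5 := polar_omul_left a (one8 F) x.1.1
      rw [omul_one, hiso _ _ hone hx, mul_zero] at h5
      exact h5
    rw [hwe, polar_add_left, polar_smul_left, polar_smul_left, h3, h4, smul_zero, smul_zero, add_zero] at h1
    rw [hU.mul, haU, hx, add_omul, one_omul, polar_add_right, hps, zero_add] at h1
    rw [h1]
    norm_num
  obtain ⟨x, hx0, hx⟩ := exists_radical (W := ↥(LinearMap.ker l)) (by exact hd3) B hBalt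
  apply hx0
  have hBs : ∀ x y, B x y = B y x := by
    intro x y
    have h := hBalt (x + y)
    simp only [map_add, LinearMap.add_apply, hBalt, zero_add, add_zero] at h
    rw [← hneg (B y x)]
    exact eq_neg_of_add_eq_zero_left (by rw [add_comm]; exact h)
  obtain ⟨hxU, hxa⟩ := hmem x
  apply Subtype.ext
  apply Subtype.ext
  apply ClassicalGeometry.Triality.nondeg8
  intro z
  -- `z = z' + a (N z)`
  have h1 : ∀ y, U y = y → polar (plusForm 4 F) x.1.1 (omul a y) = 0 := by
    intro y hy
    set! c := polar (plusForm 4 F) a y with hc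
    have hy' : U (y - c • one8 F) = y - c • one8 F := by rw [map_sub, map_smul, hone, hy]
    have hya : polar (plusForm 4 F) a (y - c • one8 F) = 0 := by
      rw [polar_sub_right, polar_smul_right, ha, ← hc, smul_eq_mul, mul_one, sub_self]
    let y0 : LinearMap.ker l := ⟨⟨y - c • one8 F, (hfix _).2 hy'⟩, hya⟩
    have h3 := hx y0
    rw [hBs, hBe] at h3
    have h4 : y = y0.1.1 + c • one8 F := by
      change y = (y - c • one8 F) + c • one8 F
      rw [sub_add_cancel]
    rw [h4, omul_add, omul_smul, omul_one, polar_add_right, polar_smul_right, polar_comm, h3, polar_comm, hxa,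
      smul_zero, add_zero]
  have h3 : U (z + omul a (N z)) = z + omul a (N z) := by
    rw [← hfix, map_add, hNa _ (hNN z), hself']
  have h4 : z = (z + omul a (N z)) + omul a (N z) := by rw [add_assoc, hself', add_zero]
  rw [h4, polar_add_right, hiso _ _ hxU h3, h1 _ (hNN z), add_zero]

/-! ### The split case over the field of two elements -/

theorem omul_omul_self (e x : V8 F) : omul (omul e x) e =
    polar (plusForm 4 F) e (oconj x) • e - plusForm 4 F e • oconj x := by
  rw [polar8, norm8]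
  apply ext8 <;>
  · simp only [omul_l0, omul_l1, omul_l2, omul_l3, omul_r0, omul_r1, omul_r2, omul_r3, Pi.sub_apply, Pi.smul_apply,
      smul_eq_mul, oconj_l0, oconj_l1, oconj_l2, oconj_l3, oconj_r0, oconj_r1, oconj_r2, oconj_r3]
    ring

/-- The space `{x | e x = x, x e = 0}`. -/
def Xe (e : V8 F) : Submodule F (V8 F) :=
  LinearMap.ker (leftMul e - LinearMap.id) ⊓ LinearMap.ker (rightMul e)

theorem mem_Xe {e x : V8 F} : x ∈ Xe e ↔ omul e x = x ∧ omul x e = 0 := by
  rw [Xe, Submodule.mem_inf, LinearMap.mem_ker, LinearMap.mem_ker]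
  constructor
  · rintro ⟨h1, h2⟩
    exact ⟨sub_eq_zero.1 h1, h2⟩
  · rintro ⟨h1, h2⟩
    exact ⟨sub_eq_zero.2 h1, h2⟩

theorem idem {e : V8 F} (heQ : plusForm 4 F e = 0) (het : polar (plusForm 4 F) e (one8 F) = 1) : omul e e = e := by
  rw [oct_sq, heQ, het, one_smul, zero_smul, sub_zero]

theorem finrank_Xe {e : V8 F} (heQ : plusForm 4 F e = 0) (het : polar (plusForm 4 F) e (one8 F) = 1) :
    finrank F (Xe e) ≤ 3 := by
  have he0 : e ≠ 0 := by
    rintro rfl
    rw [polar_zero_left] at het
    exact zero_ne_one het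
  have hee := idem heQ het
  have h1 : finrank F ↥(Xe e ⊔ F ∙ e) ≤ 4 := by
    apply finrank_le_four
    intro w hw
    obtain ⟨x, hx, y, hy, rfl⟩ := Submodule.mem_sup.1 hw
    obtain ⟨c, rfl⟩ := Submodule.mem_span_singleton.1 hy
    obtain ⟨hx1, hx2⟩ := mem_Xe.1 hx
    have h2 : plusForm 4 F x = 0 := by
      rw [← hx1, norm_omul, heQ, zero_mul]
    have h3 : polar (plusForm 4 F) x e = 0 := by
      have := polar_omul_left e x (one8 F)
      rw [hx1, omul_one, heQ, zero_mul] at this
      exact this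
    rw [QuadraticMap.map_add (plusForm 4 F), h2, QuadraticMap.map_smul, heQ, polar_smul_right, h3]
    simp
  have h2 : Xe e ⊓ F ∙ e = ⊥ := by
    rw [eq_bot_iff]
    intro x hx
    obtain ⟨c, rfl⟩ := Submodule.mem_span_singleton.1 hx.2
    obtain ⟨hx1, hx2⟩ := mem_Xe.1 hx.1
    rw [smul_omul, hee] at hx2
    rw [hx2]
    exact Submodule.zero_mem _
  have h3 := Submodule.finrank_sup_add_finrank_inf_eq (Xe e) (F ∙ e)
  rw [h2, finrank_bot, finrank_span_singleton he0] at h3
  omega

theorem split_fix (h2 : (2 : F) = 0) (h01 : ∀ c : F, c = 0 ∨ c = 1) {κ : Type*} (g : κ → (V8 F ≃ₗ[F] V8 F))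
    (hg : ∀ j, OL (g j)) (U : V8 F ≃ₗ[F] V8 F) (hU : OL U) (hUU : ∀ x, U (U x) = x)
    (hUc : ∀ j, U * g j = g j * U) (e : V8 F) (heQ : plusForm 4 F e = 0)
    (het : polar (plusForm 4 F) e (one8 F) = 1) (heU : U e = e) (heg : ∀ j, g j e = e)
    (hA : ∀ x, (∀ j, g j x = x) → ∃ c d : F, x = c • one8 F + d • e) (x : V8 F) :
    U (omul e x) = omul e x := by
  have hch : CharP F 2 := CharTwo.of_one_ne_zero_of_two_eq_zero one_ne_zero h2
  have hself : ∀ x : F, x + x = 0 := fun x => CharTwo.add_self_eq_zero x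
  have hself' : ∀ x : V8 F, x + x = 0 := fun x => by
    funext i
    exact hself _
  have hcU : ∀ j x, U (g j x) = g j (U x) := fun j x =>
    congrArg (fun f : V8 F ≃ₗ[F] V8 F => f x) (hUc j)
  have hee := idem heQ het
  let N : V8 F →ₗ[F] V8 F := U.toLinearMap + LinearMap.id
  have hN : ∀ x, N x = U x + x := fun _ => rfl
  have hfix : ∀ x, N x = 0 ↔ U x = x := by
    intro x
    rw [hN]
    constructor
    · intro h
      have h3 := congrArg (· + x) h
      beta_reduce at h3
      rwa [add_assoc, hself', add_zero, zero_add] at h3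
    · intro h
      rw [h, hself']
  have hNN : ∀ x, U (N x) = N x := by
    intro x
    rw [hN, map_add, hUU, add_comm]
  have hXU : ∀ x ∈ Xe e, N x ∈ Xe e := by
    intro x hx
    obtain ⟨hx1, hx2⟩ := mem_Xe.1 hx
    rw [mem_Xe, hN]
    constructor
    · rw [omul_add, hx1]
      congr 1
      conv_lhs => rw [← heU, ← hU.mul, hx1]
    · rw [add_omul, hx2, add_zero]
      have : omul (U x) e = U (omul x e) := by rw [hU.mul, heU]
      rw [this, hx2, map_zero]
  have hXg : ∀ j, ∀ x ∈ Xe e, g j x ∈ Xe e := by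
    intro j x hx
    obtain ⟨hx1, hx2⟩ := mem_Xe.1 hx
    rw [mem_Xe]
    constructor
    · conv_lhs => rw [← heg j, ← (hg j).mul, hx1]
    · have : omul (g j x) e = g j (omul x e) := by rw [(hg j).mul, heg]
      rw [this, hx2, map_zero]
  let NX : Xe e →ₗ[F] V8 F := N.comp (Xe e).subtype
  have hNX : ∀ x, NX x = N x.1 := fun _ => rfl
  have hle : finrank F (LinearMap.range NX) ≤ 1 := by
    have h1 := LinearMap.finrank_range_add_finrank_ker NX
    have h3 := finrank_Xe heQ het
    have h4 : LinearMap.range NX ≤ (LinearMap.ker NX).map (Xe e).subtype := by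
      rintro _ ⟨y, rfl⟩
      exact ⟨⟨N y.1, hXU _ y.2⟩, (hfix _).2 (hNN _), rfl⟩
    have h5 := Submodule.finrank_mono h4
    have h6 : finrank F ↥((LinearMap.ker NX).map (Xe e).subtype) = finrank F (LinearMap.ker NX) :=
      (Submodule.equivMapOfInjective _ (Xe e).injective_subtype _).finrank_eq.symm
    omega
  have hX0 : ∀ x ∈ Xe e, U x = x := by
    intro x hx
    rw [← hfix]
    by_contra hne
    obtain ⟨v, hv⟩ := finrank_le_one_iff.1 hle
    have hone : ∀ w : LinearMap.range NX, w ≠ 0 → w = v := by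
      intro w hw
      obtain ⟨c, hc⟩ := hv w
      rcases h01 c with rfl | rfl
      · rw [zero_smul] at hc
        exact absurd hc.symm hw
      · rw [one_smul] at hc
        exact hc.symm
    have hfixj : ∀ j, g j (N x) = N x := by
      intro j
      have e1 : g j (N x) = N (g j x) := by rw [hN, hN, map_add, hcU]
      have m1 : N x ∈ LinearMap.range NX := ⟨⟨x, hx⟩, rfl⟩
      have m2 : g j (N x) ∈ LinearMap.range NX := ⟨⟨g j x, hXg j x hx⟩, e1.symm⟩
      have n2 : g j (N x) ≠ 0 := fun h => hne ((g j).map_eq_zero_iff.1 h)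
      have k1 := hone ⟨_, m1⟩ (fun h => hne (congrArg Subtype.val h))
      have k2 := hone ⟨_, m2⟩ (fun h => n2 (congrArg Subtype.val h))
      exact congrArg Subtype.val (k2.trans k1.symm)
    obtain ⟨c, d, hcd⟩ := hA _ hfixj
    obtain ⟨h3, h4⟩ := mem_Xe.1 (hXU x hx)
    have he0 : e ≠ 0 := by
      rintro rfl
      rw [polar_zero_left] at het
      exact zero_ne_one het
    rw [hcd, add_omul, smul_omul, smul_omul, one_omul, hee, ← add_smul] at h4
    have h5 := (smul_eq_zero.1 h4).resolve_right he0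
    rw [hcd, omul_add, omul_smul, omul_smul, omul_one, hee, ← add_smul, h5, zero_smul] at h3
    exact hne (hcd.trans h3.symm)
  -- decomposition of `e x`
  have h3 := omul_omul_self e x
  rw [heQ, zero_smul, sub_zero] at h3
  set! c := polar (plusForm 4 F) e (oconj x) with hc; rewrite [← hc] at h3
  have h4 : omul e x - c • e ∈ Xe e := by
    rw [mem_Xe, ← h3]
    constructor
    · rw [omul_sub', left_alt, hee, h3, omul_smul, hee]
    · rw [sub_omul', right_alt, hee, h3, sub_self]
  have h5 := hX0 _ h4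
  rw [map_sub, map_smul, heU] at h5
  exact sub_left_inj.1 h5

/-! ### The rotation -/

theorem norm_unit {v : V8 F} (hv : plusForm 4 F v ≠ 0) (ht : polar (plusForm 4 F) v (one8 F) ≠ 0)
    (hd : polar (plusForm 4 F) v (one8 F) ^ 2 ≠ 4 * plusForm 4 F v) :
    plusForm 4 F ((plusForm 4 F v)⁻¹ • omul v v) = 1 ∧
      polar (plusForm 4 F) ((plusForm 4 F v)⁻¹ • omul v v) (one8 F) ^ 2 ≠ 4 := by
  constructor
  · rw [QuadraticMap.map_smul, norm_omul, smul_eq_mul]
    field_simp
  · intro h
    rw [polar_smul_left, oct_sq, polar_sub_left, polar_smul_left, polar_smul_left, polar_one_one, smul_eq_mul,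
      smul_eq_mul, smul_eq_mul] at h
    set t := polar (plusForm 4 F) v (one8 F) with ht'
    set n := plusForm 4 F v with hn
    have h1 : t ^ 2 * (t ^ 2 - 4 * n) = 0 := by
      field_simp at h
      linear_combination h
    rcases mul_eq_zero.1 h1 with h2 | h2
    · exact ht (pow_eq_zero_iff (by norm_num) |>.1 h2)
    · exact hd (sub_eq_zero.1 h2)

/-- The action of an automorphism of order `p` on a plane containing `1`. -/
theorem fix_or_shift {p : ℕ} [Fact p.Prime] [CharP F p] {U : V8 F ≃ₗ[F] V8 F} (hU : OL U) (hUp : U ^ p = 1)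
    {a : V8 F} (ha : ∀ c : F, a ≠ c • one8 F) {c d : F} (hUa : U a = c • one8 F + d • a) :
    U a = a + c • one8 F := by
  have h1 : ∀ n : ℕ, ∃ c' : F, (U ^ n) a = c' • one8 F + d ^ n • a := by
    intro n
    induction n with
    | zero => exact ⟨0, by rw [zero_smul, zero_add, pow_zero, pow_zero, one_smul]; rfl⟩
    | succ n ih =>
      obtain ⟨c', h⟩ := ih
      refine ⟨c' + d ^ n * c, ?_⟩
      rw [pow_succ']
      change U ((U ^ n) a) = _
      rw [h, map_add, map_smul, map_smul, hU.one, hUa, smul_add, smul_smul, smul_smul, pow_succ, add_smul, add_assoc]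
  obtain ⟨c', h⟩ := h1 p
  rw [hUp] at h
  have h2 : (1 - d ^ p) • a = c' • one8 F := by
    rw [sub_smul, one_smul]
    exact sub_eq_iff_eq_add.2 h
  have h3 : 1 - d ^ p = 0 := by
    by_contra hne
    apply ha ((1 - d ^ p)⁻¹ * c')
    rw [mul_smul, ← h2, smul_smul, inv_mul_cancel₀ hne, one_smul]
  have h4 : d = 1 := by
    have h5 : (1 - d) ^ p = 0 := by rw [sub_pow_char, one_pow]; exact h3
    exact (sub_eq_zero.1 (pow_eq_zero_iff (Fact.out : p.Prime).ne_zero |>.1 h5)).symm
  rw [hUa, h4, one_smul, add_comm]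

/-- **Box iS** for linear maps. -/
theorem box_iS_lin [Finite F] {p : ℕ} [Fact p.Prime] [CharP F p] (hp3 : p ≠ 3) {κ : Type*} [Finite κ]
    (g : κ → (V8 F ≃ₗ[F] V8 F)) (hg : ∀ j, OL (g j)) (r : κ → ℕ) (hr : ∀ j, ((r j : ℕ) : F) ≠ 0)
    (hM : ∀ j, g j ^ r j = 1) (hc : ∀ i j, g i * g j = g j * g i) (U : V8 F ≃ₗ[F] V8 F) (hU : OL U)
    (hUp : U ^ p = 1) (hU1 : U ≠ 1) (hUc : ∀ j, U * g j = g j * U) (A : Submodule F (V8 F))
    (hA : ∀ x, x ∈ A ↔ ∀ j, g j x = x) (hd : finrank F A = 2) :
    (∀ x ∈ A, U x = x) ∧ ∃ b, (∀ j, g j b = b) ∧ U b = b ∧ plusForm 4 F b = 1 ∧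
      polar (plusForm 4 F) b (one8 F) ^ 2 ≠ 4 := by
  have hcU : ∀ j x, U (g j x) = g j (U x) := fun j x =>
    congrArg (fun f : V8 F ≃ₗ[F] V8 F => f x) (hUc j)
  have hone : one8 F ∈ A := (hA _).2 fun j => (hg j).one
  have h10 : one8 F ≠ 0 := by
    intro h
    have := norm_one8 (F := F)
    rw [h, QuadraticMap.map_zero] at this
    exact zero_ne_one this
  -- a second basis vector
  obtain ⟨a, haA, ha⟩ : ∃ a ∈ A, ∀ c : F, a ≠ c • one8 F := by
    by_contra hcon
    push Not at hcon
    have h1 : A ≤ F ∙ one8 F := by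
      intro x hx
      obtain ⟨c, hc⟩ := hcon x hx
      exact Submodule.mem_span_singleton.2 ⟨c, hc.symm⟩
    have h2 := Submodule.finrank_mono h1
    rw [hd, finrank_span_singleton h10] at h2
    omega
  have span : ∀ a ∈ A, (∀ c : F, a ≠ c • one8 F) → ∀ x ∈ A, ∃ c d : F, x = c • one8 F + d • a := by
    intro a haA ha x hx
    have hli : LinearIndependent F ![(⟨one8 F, hone⟩ : A), ⟨a, haA⟩] := by
      rw [LinearIndependent.pair_iff]
      intro s t hst
      have hst' : s • one8 F + t • a = 0 := congrArg Subtype.val hst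
      have ht : t = 0 := by
        by_contra ht
        apply ha (-(t⁻¹ * s))
        have h5 : t • a = -(s • one8 F) := eq_neg_of_add_eq_zero_right hst'
        rw [neg_smul, mul_smul, ← smul_neg, ← h5, smul_smul, inv_mul_cancel₀ ht, one_smul]
      refine ⟨?_, ht⟩
      rw [ht, zero_smul, add_zero] at hst'
      exact (smul_eq_zero.1 hst').resolve_right h10
    have hsp := hli.span_eq_top_of_card_eq_finrank (by rw [hd]; rfl)
    have hx' : (⟨x, hx⟩ : A) ∈ Submodule.span F (Set.range ![(⟨one8 F, hone⟩ : A), ⟨a, haA⟩]) := by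
      rw [hsp]; trivial
    rw [Matrix.range_cons, Matrix.range_cons, Matrix.range_empty, Set.union_empty,
      Set.singleton_union, Submodule.mem_span_pair] at hx'
    obtain ⟨c, d, hcd⟩ := hx'
    exact ⟨c, d, (congrArg Subtype.val hcd).symm⟩
  have hnd : ∀ x ∈ A, (∀ y ∈ A, polar (plusForm 4 F) x y = 0) → x = 0 := by
    intro x hx h
    exact fix_nondeg g hg r hr hM hc ((hA x).1 hx) fun y hy => h y ((hA y).2 hy)
  have hUA : ∀ x ∈ A, U x ∈ A := by
    intro x hx
    rw [hA] at hx ⊢
    intro j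
    rw [← hcU, hx]
  -- closure under the product
  have hmul : ∀ x ∈ A, ∀ y ∈ A, omul x y ∈ A := by
    intro x hx y hy
    rw [hA] at hx hy ⊢
    intro j
    rw [(hg j).mul, hx, hy]
  by_cases h2 : (2 : F) = 0
  · have hp2 : p = 2 := by
      have h3 : ((2 : ℕ) : F) = 0 := by exact_mod_cast h2
      rw [CharP.cast_eq_zero_iff F p] at h3
      exact (Nat.prime_dvd_prime_iff_eq Fact.out Nat.prime_two).1 h3
    have hUU : ∀ x, U (U x) = x := by
      intro x
      have := congrArg (fun f : V8 F ≃ₗ[F] V8 F => f x) hUp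
      rw [hp2, pow_two] at this
      exact this
    have h11 : polar (plusForm 4 F) (one8 F) (one8 F) = 0 := by rw [polar_one_one, h2]
    -- normalise `a`
    obtain ⟨v, hvA, hv1⟩ : ∃ v ∈ A, polar (plusForm 4 F) v (one8 F) = 1 := by
      by_contra hcon
      push Not at hcon
      apply h10
      apply hnd _ hone
      intro y hy
      by_contra hne
      apply hcon ((polar (plusForm 4 F) (one8 F) y)⁻¹ • y) (A.smul_mem _ hy)
      rw [polar_smul_left, polar_comm (plusForm 4 F) y, smul_eq_mul, inv_mul_cancel₀ hne]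
    have hv : ∀ c : F, v ≠ c • one8 F := by
      rintro c rfl
      rw [polar_smul_left, h11, smul_zero] at hv1
      exact zero_ne_one hv1
    have hvs := span v hvA hv
    have hUv : U v = v := by
      obtain ⟨c, d, hcd⟩ := hvs _ (hUA v hvA)
      have h3 := fix_or_shift hU hUp hv hcd
      have h4 := hU.nm v
      rw [h3, QuadraticMap.map_add (plusForm 4 F), QuadraticMap.map_smul, polar_smul_right, hv1, norm_one8,
        smul_eq_mul, smul_eq_mul, mul_one, mul_one] at h4
      have h5 : c * (c + 1) = 0 := by linear_combination h4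
      rcases mul_eq_zero.1 h5 with h6 | h6
      · rw [h3, h6, zero_smul, add_zero]
      · exfalso
        have h7 : c = 1 := by linear_combination h6 - h2
        rw [h7, one_smul] at h3
        exact no_swap h2 g hg U hU hUU hUc v hv1 h3 fun x hx => hvs x ((hA x).2 hx)
    have hUA' : ∀ x ∈ A, U x = x := by
      intro x hx
      obtain ⟨c, d, rfl⟩ := hvs x hx
      rw [map_add, map_smul, map_smul, hU.one, hUv]
    refine ⟨hUA', ?_⟩
    -- an element with trace one and nonzero norm
    obtain ⟨c, hcn⟩ : ∃ c : F, plusForm 4 F (v + c • one8 F) ≠ 0 := by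
      by_contra hcon
      push Not at hcon
      have hcon' : ∀ c : F, plusForm 4 F v + (c ^ 2 + c) = 0 := by
        intro c
        have := hcon c
        rw [QuadraticMap.map_add (plusForm 4 F), QuadraticMap.map_smul, polar_smul_right, hv1, norm_one8,
          smul_eq_mul, smul_eq_mul, mul_one, mul_one] at this
        linear_combination this
      have h0 : plusForm 4 F v = 0 := by
        have := hcon' 0
        simpa only [_root_.ne_eq, _root_.OfNat.ofNat_ne_zero, _root_.not_false_eq_true, _root_.zero_pow, _root_.add_zero] using this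
      have h01 : ∀ c : F, c = 0 ∨ c = 1 := by
        intro c
        have h3 := hcon' c
        rw [h0, zero_add] at h3
        have h5 : c * (c + 1) = 0 := by linear_combination h3
        rcases mul_eq_zero.1 h5 with h6 | h6
        · exact Or.inl h6
        · exact Or.inr (by linear_combination h6 - h2)
      apply hU1
      apply LinearEquiv.ext
      intro x
      have hs1 := split_fix h2 h01 g hg U hU hUU hUc v h0 hv1 hUv ((hA v).1 hvA)
        (fun x hx => hvs x ((hA x).2 hx)) x
      have e1 : plusForm 4 F (one8 F - v) = 0 := by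
        rw [sub_eq_add_neg, QuadraticMap.map_add (plusForm 4 F), QuadraticMap.map_neg, norm_one8, h0, polar_neg_right,
          polar_comm, hv1]
        ring
      have e2 : polar (plusForm 4 F) (one8 F - v) (one8 F) = 1 := by
        rw [polar_sub_left, h11, hv1]
        linear_combination -h2
      have e3 : U (one8 F - v) = one8 F - v := by rw [map_sub, hU.one, hUv]
      have hs2 := split_fix h2 h01 g hg U hU hUU hUc (one8 F - v) e1 e2 e3
        (fun j => by rw [map_sub, (hg j).one, (hA v).1 hvA]) (fun x hx => by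
          obtain ⟨c, d, hcd⟩ := hvs x ((hA x).2 hx)
          refine ⟨c + d, -d, ?_⟩
          rw [hcd]
          module) x
      have e4 : x = omul v x + omul (one8 F - v) x := by
        rw [sub_omul', one_omul]
        abel
      change U x = x
      conv_rhs => rw [e4]
      conv_lhs => rw [e4]
      rw [map_add, hs1, hs2]
    have hwA : v + c • one8 F ∈ A := A.add_mem hvA (A.smul_mem _ hone)
    have ht : polar (plusForm 4 F) (v + c • one8 F) (one8 F) = 1 := by
      rw [polar_add_left, polar_smul_left, hv1, h11, smul_zero, add_zero]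
    have hb := norm_unit hcn (by rw [ht]; exact one_ne_zero) (by
      rw [ht]
      intro h
      apply one_ne_zero (α := F)
      linear_combination h + 2 * plusForm 4 F (v + c • one8 F) * h2)
    have hbA : (plusForm 4 F (v + c • one8 F))⁻¹ • omul (v + c • one8 F) (v + c • one8 F) ∈ A :=
      A.smul_mem _ (hmul _ hwA _ hwA)
    exact ⟨_, (hA _).1 hbA, hUA' _ hbA, hb.1, hb.2⟩
  · -- odd characteristic
    have h3 : (3 : F) ≠ 0 := by
      intro h
      have h3 : ((3 : ℕ) : F) = 0 := by exact_mod_cast h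
      rw [CharP.cast_eq_zero_iff F p] at h3
      exact hp3 ((Nat.prime_dvd_prime_iff_eq Fact.out Nat.prime_three).1 h3)
    -- a trace zero vector
    set! v := a - (polar (plusForm 4 F) a (one8 F) / 2) • one8 F with hvdef
    have hvA : v ∈ A := A.sub_mem haA (A.smul_mem _ hone)
    have hv : ∀ c : F, v ≠ c • one8 F := by
      intro c h
      apply ha (c + polar (plusForm 4 F) a (one8 F) / 2)
      rw [add_smul, ← h, hvdef, sub_add_cancel]
    have hv1 : polar (plusForm 4 F) v (one8 F) = 0 := by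
      rw [hvdef, polar_sub_left, polar_smul_left, polar_one_one, smul_eq_mul, div_mul_cancel₀ _ h2, sub_self]
    have hvs := span v hvA hv
    have hvn : plusForm 4 F v ≠ 0 := by
      intro h0
      apply hv 0
      rw [zero_smul]
      apply hnd v hvA
      intro y hy
      obtain ⟨c, d, rfl⟩ := hvs y hy
      rw [polar_add_right, polar_smul_right, polar_smul_right, hv1, polar_self', h0]
      simp
    have hUv : U v = v := by
      obtain ⟨c, d, hcd⟩ := hvs _ (hUA v hvA)
      have h5 := fix_or_shift hU hUp hv hcd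
      have h4 := hU.pol v (one8 F)
      rw [hU.one, h5, polar_add_left, polar_smul_left, hv1, polar_one_one, zero_add, smul_eq_mul] at h4
      have h6 : c = 0 := (mul_eq_zero.1 h4).resolve_right h2
      rw [h5, h6, zero_smul, add_zero]
    have hUA' : ∀ x ∈ A, U x = x := by
      intro x hx
      obtain ⟨c, d, rfl⟩ := hvs x hx
      rw [map_add, map_smul, map_smul, hU.one, hUv]
    refine ⟨hUA', ?_⟩
    have hn : ∀ c : F, plusForm 4 F (v + c • one8 F) = plusForm 4 F v + c ^ 2 := by
      intro c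
      rw [QuadraticMap.map_add (plusForm 4 F), QuadraticMap.map_smul, polar_smul_right, hv1, norm_one8, smul_eq_mul,
        mul_one, smul_zero, add_zero, pow_two]
    obtain ⟨c, hc0, hcn⟩ : ∃ c : F, c ≠ 0 ∧ plusForm 4 F (v + c • one8 F) ≠ 0 := by
      by_cases h : plusForm 4 F (v + (1 : F) • one8 F) = 0
      · refine ⟨2, h2, fun h' => ?_⟩
        rw [hn] at h h'
        apply h3
        linear_combination h' - h
      · exact ⟨1, one_ne_zero, h⟩
    have hwA : v + c • one8 F ∈ A := A.add_mem hvA (A.smul_mem _ hone)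
    have ht : polar (plusForm 4 F) (v + c • one8 F) (one8 F) = c * 2 := by
      rw [polar_add_left, polar_smul_left, hv1, polar_one_one, zero_add, smul_eq_mul]
    have hb := norm_unit hcn (by rw [ht]; exact mul_ne_zero hc0 h2) (by
      rw [ht, hn]
      intro h
      apply hvn
      have h6 : (2 : F) * (2 * plusForm 4 F v) = 0 := by linear_combination -h
      exact (mul_eq_zero.1 ((mul_eq_zero.1 h6).resolve_left h2)).resolve_left h2)
    have hbA : (plusForm 4 F (v + c • one8 F))⁻¹ • omul (v + c • one8 F) (v + c • one8 F) ∈ A :=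
      A.smul_mem _ (hmul _ hwA _ hwA)
    exact ⟨_, (hA _).1 hbA, hUA' _ hbA, hb.1, hb.2⟩

/-- **Box iS.** -/
theorem box_iS [Finite F] {p : ℕ} [Fact p.Prime] [CharP F p] (hp3 : p ≠ 3) {κ : Type*} [Finite κ] (M : κ → G8 F)
    (hT : ∀ j, TriS (M j) (M j) (M j)) (hl : ∀ j, IsLin (M j)) (r : κ → ℕ) (hr : ∀ j, ((r j : ℕ) : F) ≠ 0)
    (hM : ∀ j, M j ^ r j = 1) (hc : ∀ i j, M i * M j = M j * M i) (U : G8 F) (hU : TriS U U U) (hUl : IsLin U)
    (hUp : U ^ p = 1) (hU1 : U ≠ 1) (hUc : ∀ j, U * M j = M j * U) (A : Submodule F (V8 F))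
    (hA : ∀ x, x ∈ A ↔ ∀ j, (M j).1 x = x) (hd : finrank F A = 2) :
    (∀ x ∈ A, U.1 x = x) ∧ ∃ b, (∀ j, (M j).1 b = b) ∧ U.1 b = b ∧ plusForm 4 F b = 1 ∧
      polar (plusForm 4 F) b (one8 F) ^ 2 ≠ 4 := by
  choose g hg hgM using fun j => exists_OL (hT j) (hl j)
  obtain ⟨u, hu, huU⟩ := exists_OL hU hUl
  have happ : ∀ (M N : G8 F) (x : V8 F), (M * N).1 x = M.1 (N.1 x) := fun _ _ _ => rfl
  have h := box_iS_lin hp3 g hg r hr (fun j => LinearEquiv.ext fun x => by
      rw [OL.pow_apply (hgM j), hM j]; rfl)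
    (fun i j => LinearEquiv.ext fun x => by
      change g i (g j x) = g j (g i x)
      rw [hgM, hgM, hgM, hgM, ← happ, ← happ, hc i j])
    u hu (LinearEquiv.ext fun x => by rw [OL.pow_apply huU, hUp]; rfl)
    (fun h => hU1 (by
      apply Subtype.ext
      ext1 x
      rw [← huU, h]
      rfl))
    (fun j => LinearEquiv.ext fun x => by
      change u (g j x) = g j (u x)
      rw [hgM, hgM, huU, huU, ← happ, ← happ, hUc j])
    A (fun x => by rw [hA]; simp only [hgM]) hd
  simp only [huU, hgM] at h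
  exact h

end Cfsg.Agent.H338.RC.TriS
end

-- part: H547/RC/TriDim
section
/-!
# S3510, triality type (i): the dimension of the common fixed space of commuting automorphisms (helper547, box P3)
-/

set_option autoImplicit false

namespace Cfsg.Agent.H547.RC.TriDim

open Module QuadraticMap Cfsg.Agent.LieClassical.OrthCore Cfsg.Agent.LieClassical.OrthTrans
  Cfsg.Agent.LieClassical.OrthSimple Cfsg.Agent.ClassicalGeometry.OrthAut1
  Cfsg.Agent.ClassicalGeometry.OrthSemi Cfsg.Agent.H198.Classes
  Cfsg.Agent.LieClassical.QuadForms Cfsg.Agent.H198.ClassesPlus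
  Cfsg.Agent.ClassicalGeometry.TrialityOct Cfsg.Agent.ClassicalGeometry.Triality
  Cfsg.Agent.ClassicalGeometry.TrialitySpaces Cfsg.Agent.H198.TriBase Cfsg.Agent.H198.TriAut
  Cfsg.Agent.H206.Balance Cfsg.Agent.H198.BalVar Cfsg.Agent.H198.TriDia
  Cfsg.Agent.H338.RC.TriS

universe u

variable {F : Type u} [Field F]

/-- linear octonion automorphisms -/
def AL (F : Type u) [Field F] : Subgroup (G8 F) where
  carrier := {M | TriS M M M ∧ IsLin M}
  mul_mem' := by
    rintro M N ⟨h1, c, hc⟩ ⟨h2, d, hd⟩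
    exact ⟨h1.mul h2, _, hc.mul hd⟩
  one_mem' := ⟨TriS.one, 1, one_ne_zero, fun _ _ => rfl, fun _ _ => rfl, fun v => by rw [one_mul]; rfl⟩
  inv_mem' := by
    rintro M ⟨h1, c, hc⟩
    exact ⟨h1.inv, _, hc.inv⟩

/-- stabiliser of a vector -/
def Stv (v : V8 F) : Subgroup (G8 F) where
  carrier := {M | M.1 v = v}
  mul_mem' := by
    rintro M N (h1 : M.1 v = v) (h2 : N.1 v = v)
    show M.1 (N.1 v) = v
    rw [h2, h1]
  one_mem' := rfl
  inv_mem' := by
    rintro M (h1 : M.1 v = v)
    show M.1⁻¹ v = v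
    nth_rewrite 1 [← h1]
    exact inv_apply _ _

/-- **the common fixed space has dimension two or four** -/
theorem dim_fix [Finite F] (hG : _root_.Cfsg.Agent.LieClassical.OrthTrans.Good (plusForm 4 F)) {κ : Type*} [Finite κ] (M : κ → G8 F) (r : κ → ℕ)
    (hT : ∀ j, TriS (M j) (M j) (M j)) (hl : ∀ j, IsLin (M j)) (hr : ∀ j, (r j).Prime) (hinj : Function.Injective r)
    (hrF : ∀ j, ((r j : ℕ) : F) ≠ 0) (hM : ∀ j, M j ^ r j = 1) (hc : ∀ i j, M i * M j = M j * M i)
    (hne : ∃ j, M j ≠ 1) (A : Submodule F (V8 F)) (hA : ∀ x, x ∈ A ↔ ∀ j, (M j).1 x = x) :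
    finrank F A = 2 ∨ finrank F A = 4 := by
  choose g hg hgM using fun j => exists_OL (hT j) (hl j)
  have hA' : ∀ x, x ∈ A ↔ ∀ j, g j x = x := fun x => by
    rw [hA]
    exact forall_congr' fun j => by rw [hgM]
  have hgpow : ∀ j, g j ^ r j = 1 := fun j => LinearEquiv.ext fun x => by
    rw [OL.pow_apply (hgM j), hM]; rfl
  have hgc : ∀ i j, g i * g j = g j * g i := fun i j => LinearEquiv.ext fun x => by
    show g i (g j x) = g j (g i x)
    rw [hgM, hgM, hgM, hgM]
    exact congrArg (fun m : G8 F => m.1 x) (hc i j)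
  have h1A : one8 F ∈ A := (hA' _).2 fun j => (hg j).one
  have hmA : ∀ x ∈ A, ∀ y ∈ A, omul x y ∈ A := fun x hx y hy => (hA' _).2 fun j => by
    rw [(hg j).mul, (hA' x).1 hx j, (hA' y).1 hy j]
  have hcA : ∀ x ∈ A, oconj x ∈ A := fun x hx => by
    rw [oconj_eq]
    exact A.sub_mem (A.smul_mem _ h1A) hx
  have hnd : ∀ x ∈ A, (∀ y ∈ A, polar (plusForm 4 F) x y = 0) → x = 0 := fun x hx h =>
    fix_nondeg g hg r hrF hgpow hgc ((hA' x).1 hx) fun y hy => h y ((hA' y).2 hy)
  -- the projection
  have hproj : ∀ x : V8 F, ∃ a ∈ A, ∀ y ∈ A, polar (plusForm 4 F) y (x - a) = 0 := by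
    intro x
    obtain ⟨v', c, hc0, hv', h⟩ := exists_avg g hg r hrF hgpow hgc x
    refine ⟨c⁻¹ • v', A.smul_mem _ ((hA' _).2 hv'), fun y hy => ?_⟩
    rw [polar_sub_right, polar_smul_right, h y ((hA' y).1 hy), smul_eq_mul, ← mul_assoc, inv_mul_cancel₀ hc0, one_mul,
      sub_self]
  -- a nonsingular vector orthogonal to `A`
  obtain ⟨v, hvA, hv⟩ : ∃ v : V8 F, (∀ y ∈ A, polar (plusForm 4 F) v y = 0) ∧ plusForm 4 F v ≠ 0 := by
    obtain ⟨x, hx⟩ : ∃ x, x ∉ A := by
      obtain ⟨j, hj⟩ := hne
      by_contra hcon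
      push Not at hcon
      exact hj (Subtype.ext (Equiv.ext fun x => (hA x).1 (hcon x) j))
    obtain ⟨a, ha, hax⟩ := hproj x
    have hw0 : x - a ≠ 0 := fun h => hx (by rw [sub_eq_zero.1 h]; exact ha)
    obtain ⟨y, hy⟩ : ∃ y, polar (plusForm 4 F) (x - a) y ≠ 0 := by
      by_contra hcon
      push Not at hcon
      exact hw0 (hG.nondeg _ hcon)
    obtain ⟨b, hb, hby⟩ := hproj y
    have h1 : polar (plusForm 4 F) (x - a) (y - b) ≠ 0 := by
      rw [polar_sub_right, polar_comm _ (x - a) b, hax b hb, sub_zero]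
      exact hy
    by_contra hcon
    push Not at hcon
    apply h1
    have h2 := hcon (x - a) fun z hz => by rw [polar_comm]; exact hax z hz
    have h3 := hcon (y - b) fun z hz => by rw [polar_comm]; exact hby z hz
    have h4 := hcon (x - a + (y - b)) fun z hz => by
      rw [polar_comm, polar_add_right, hax z hz, hby z hz, add_zero]
    rw [polar, h2, h3, h4, sub_zero, sub_zero]
  -- `A` and `v A` are independent
  let φ : V8 F →ₗ[F] V8 F :=
    { toFun := fun a => omul v a
      map_add' := fun a b => omul_add v a b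
      map_smul' := fun c a => omul_smul c v a }
  have hφ : Function.Injective φ := by
    rw [← LinearMap.ker_eq_bot, eq_bot_iff]
    intro a ha
    have h1 : omul v a = 0 := ha
    have h2 := oconj_omul_omul v a
    rw [h1] at h2
    have h3 : omul (oconj v) (0 : V8 F) = 0 := by
      have := omul_smul (0 : F) (oconj v) (0 : V8 F)
      rwa [zero_smul, zero_smul] at this
    rw [h3] at h2
    exact (smul_eq_zero.1 h2.symm).resolve_left hv
  have h4 : finrank F A ≤ 4 := by
    have h1 : finrank F (A.map φ) = finrank F A := (Submodule.equivMapOfInjective φ hφ A).finrank_eq.symm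
    have h2 : A ⊓ A.map φ = ⊥ := by
      rw [eq_bot_iff]
      rintro x ⟨hx, a, ha, rfl⟩
      refine hnd _ hx fun y hy => ?_
      show polar (plusForm 4 F) (omul v a) y = 0
      rw [polar_omul]
      exact hvA _ (hmA _ hy _ (hcA _ ha))
    have h3 := Submodule.finrank_sup_add_finrank_inf_eq A (A.map φ)
    rw [h2, finrank_bot, h1] at h3
    have h5 : finrank F (A ⊔ A.map φ : Submodule F (V8 F)) ≤ 8 := by
      refine (Submodule.finrank_le _).trans ?_
      rw [finrank_fintype_fun_eq_card]
      simp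
    omega
  have h1 : finrank F A ≠ 0 := by
    intro h
    rw [Submodule.finrank_eq_zero] at h
    rw [h, Submodule.mem_bot] at h1A
    have := congrFun h1A (.inl 0)
    exact one_ne_zero this
  -- parity
  have hev : Even (finrank F A) := by
    obtain ⟨s, hs, -, hsM⟩ := Cfsg.Agent.H675.RC.exists_single M (fun i j => hc i j) hr hinj hM
    have hsAL : s ∈ AL F := by
      refine (Subgroup.closure_le _).2 ?_ hs
      rintro _ ⟨j, rfl⟩
      exact ⟨hT j, hl j⟩
    obtain ⟨gs, hgs, hgss⟩ := exists_OL hsAL.1 hsAL.2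
    have h2 := Cfsg.Agent.H675.RC.even_fix hG (τ := (1 : G8 F)) (g := gs) hgs.nm (fun u w => by
      show gs (omul (oconj u) (oconj w)) = omul (oconj (gs u)) (oconj (gs w))
      rw [hgs.mul, hgss, hgss, hgss, hgss, aut_oconj hsAL.1, aut_oconj hsAL.1])
    have h3 : LinearMap.ker ((gs : V8 F →ₗ[F] V8 F) - 1) = A := by
      ext x
      rw [LinearMap.mem_ker, LinearMap.sub_apply, sub_eq_zero, hA]
      show gs x = x ↔ _
      rw [hgss]
      constructor
      · intro hx j
        have h4 : M j ∈ Stv x := (Subgroup.zpowers_le (H := Stv x)).2 hx (hsM j)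
        exact h4
      · intro hx
        have h4 : s ∈ Stv x := by
          refine (Subgroup.closure_le _).2 ?_ hs
          rintro _ ⟨j, rfl⟩
          exact hx j
        exact h4
    rwa [h3] at h2
  obtain ⟨k, hk⟩ := hev
  omega

end Cfsg.Agent.H547.RC.TriDim
end

private theorem dce_33b09fcf3927 : _root_.True := by
  try have : _root_.True := by simp only [_root_.Cfsg.Agent.H338.RC.TriS.Xe.eq_1]
  exact _root_.True.intro
end

-- part: H675/RC/Frame
section
prune_inst 0x4015044404180100000180592312020044c0004b000400000c8000e400a48a800000108010410110002208cc12009000000000010400000000a00080000040000000016020040a008020090000080000000000000000000000000000000010004000000000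
set_option linter.all false
open scoped Cfsg.Agent.FastGrp

/-!
# S3510, triality of `PΩ₈⁺(q)`: the frame (T0) (helper675)

* `NF τ` : normal forms; `classify_nf`;
* `Ex τ M` : `M` is an exact automorphism of `dia τ`; `exists_ex`, `Ex.eq_of_psi`, `Ex.mult`;
* `tricho` : commuting automorphisms of pairwise different prime orders are in a conjugate of the range of `Ψ`, or one
  of order three is outside the range of `Ψ`;
* `frame` : **T0**.
-/

set_option autoImplicit false

namespace Cfsg.Agent.H675.RC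

open Module QuadraticMap Cfsg.Agent.LieClassical.OrthCore Cfsg.Agent.LieClassical.OrthTrans
  Cfsg.Agent.LieClassical.OrthSimple Cfsg.Agent.ClassicalGeometry.OrthAut1
  Cfsg.Agent.ClassicalGeometry.OrthSemi Cfsg.Agent.H198.Classes
  Cfsg.Agent.LieClassical.QuadForms Cfsg.Agent.H198.ClassesPlus
  Cfsg.Agent.ClassicalGeometry.TrialityOct Cfsg.Agent.ClassicalGeometry.Triality
  Cfsg.Agent.ClassicalGeometry.TrialitySpaces Cfsg.Agent.H198.TriBase Cfsg.Agent.H198.TriAut
  Cfsg.Agent.H198.TriDia Cfsg.Agent.H198.TriTC Cfsg.Agent.H566.RC Cfsg.Agent.H106.RC Cfsg.Agent.H93.RC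

universe u

variable {F : Type u} [Field F]

/-! ### Normal forms -/

/-- the normal forms of `τ` -/
def NF (τ : G8 F) : Prop :=
  τ = 1 ∨ ((3 : F) ≠ 0 ∧ τ = tauB F) ∨
    (∃ ν : F ≃+* F, ν ≠ RingEquiv.refl F ∧ (∀ a, ν (ν (ν a)) = a) ∧ τ = fG ν) ∨
    ((3 : F) = 0 ∧ H198.TriDia.IsLin τ ∧ τ ≠ 1 ∧ ∃ v : V8 F, v ≠ 0 ∧ omul v v = 0 ∧ τ.1 v = v)

theorem field_cube {τ : G8 F} (hτ : TriS τ τ τ) (ho : τ ^ 3 = 1) {σ : F ≃+* F} {c : F}
    (hs : IsSS (plusForm 4 F) σ c τ.1) (a : F) : σ (σ (σ a)) = a := by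
  have h1 : (τ ^ 3).1 (a • one8 F) = a • one8 F := by rw [ho]; rfl
  rw [pow_three] at h1
  change τ.1 (τ.1 (τ.1 (a • one8 F))) = _ at h1
  rw [hs.smul, hs.smul, hs.smul, aut_one hτ, aut_one hτ, aut_one hτ] at h1
  have h2 : (σ (σ (σ a)) - a) • one8 F = 0 := by rw [sub_smul, h1, sub_self]
  rcases smul_eq_zero.1 h2 with h3 | h3
  · exact sub_eq_zero.1 h3
  · exfalso
    have h5 := norm_one8 (F := F)
    rw [h3, QuadraticMap.map_zero] at h5
    exact zero_ne_one h5

/-- conjugation of `τ` to a normal form -/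
theorem exists_nf [Finite F] {τ : G8 F} (hτ : TriS τ τ τ) (ho : τ ^ 3 = 1) {v : V8 F} (hv0 : v ≠ 0)
    (hvv : omul v v = 0) (hv : τ.1 v = v) :
    ∃ N : G8 F, TriS N N N ∧ NF (N * τ * N⁻¹) := by
  obtain ⟨σ, c, hs⟩ := τ.2
  obtain rfl := aut_mult hτ hs
  by_cases hσ1 : σ = RingEquiv.refl F
  · subst hσ1
    by_cases h3 : (3 : F) = 0
    · refine ⟨1, TriS.one, ?_⟩
      rw [one_mul, inv_one, mul_one]
      by_cases h1 : τ = 1
      · exact Or.inl h1
      · exact Or.inr (Or.inr (Or.inr ⟨h3, ⟨1, hs⟩, h1, v, hv0, hvv, hv⟩))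
    · rcases H161.TriLin.lin_normal h3 hτ ⟨1, hs⟩ ho hv0 hvv hv with h | ⟨N, hN, h⟩
      · refine ⟨1, TriS.one, ?_⟩
        rw [one_mul, inv_one, mul_one]
        exact Or.inl h
      · exact ⟨N, hN, Or.inr (Or.inl ⟨h3, h⟩)⟩
  · obtain ⟨N, hN, h⟩ := H752.SemiNormal.semi_normal hτ hs hσ1 ho
    exact ⟨N, hN, Or.inr (Or.inr (Or.inl ⟨σ, hσ1, field_cube hτ ho hs, h⟩))⟩

theorem conj_three {G : Type*} [Group G] {a t : G} (h : t ^ 3 = 1) : (a * t * a⁻¹) ^ 3 = 1 := by
  rw [conj_pow, h, mul_one, mul_inv_cancel]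

theorem conj_conj {G : Type*} [Group G] (a b x : G) : b * (a * x * a⁻¹) * b⁻¹ = b * a * x * (b * a)⁻¹ := by
  group

/-- **the classification with normal forms** -/
theorem classify_nf [Finite F] (hG : Good (plusForm 4 F)) {x : MulAut (P8 F)}
    (hx : x ∉ (Psi (plusForm 4 F)).range) (ho : x ^ 3 = 1) :
    ∃ (α : MulAut (P8 F)) (τ : G8 F), TriS τ τ τ ∧ τ ^ 3 = 1 ∧ NF τ ∧
      (α * x * α⁻¹ = xt hG τ ∨ α * x⁻¹ * α⁻¹ = xt hG τ) := by
  (have h_ob := H198.TriCls.classify hG hx ho
   revert h_ob; rintro (⟨α, τ, hτ, hτ3, h, v, hv0, hvv, hv⟩))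
  (have h_ob := exists_nf hτ hτ3 hv0 hvv hv
   revert h_ob; rintro (⟨N, hN, h1⟩))
  refine ⟨Psi _ N * α, N * τ * N⁻¹, (hN.mul hτ).mul hN.inv, conj_three hτ3, h1, ?_⟩
  ((conv => enter [@1, @3]; rw [← xt_conj hG τ hN]); (conv => enter [@2, @3]; rw [← xt_conj hG τ hN]))
  rcases h with h | h
  · left
    ((conv => enter [@3, @5, @6]; rw [← h]); simp only [conj_conj])
  · right
    ((conv => enter [@3, @5, @6]; rw [← h]); simp only [conj_conj])

/-! ### Exact automorphisms of `dia τ` -/

/-- `M` is an automorphism of the product `dia τ` -/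
def Ex (τ M : G8 F) : Prop := ∀ u w, M.1 (dia τ u w) = dia τ (M.1 u) (M.1 w)

theorem Ex.one (τ : G8 F) : Ex τ 1 := fun _ _ => rfl

theorem Ex.mul {τ M N : G8 F} (hM : Ex τ M) (hN : Ex τ N) : Ex τ (M * N) := by
  intro u w
  change M.1 (N.1 _) = dia τ (M.1 (N.1 u)) (M.1 (N.1 w))
  rw [hN, hM]

theorem Ex.inv {τ M : G8 F} (hM : Ex τ M) : Ex τ M⁻¹ := by
  intro u w
  apply M.1.injective
  rw [hM]
  change M.1 (M.1.symm _) = dia τ (M.1 (M.1.symm u)) (M.1 (M.1.symm w))
  rw [Equiv.apply_symm_apply, Equiv.apply_symm_apply, Equiv.apply_symm_apply]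

theorem Ex.pow {τ M : G8 F} (hM : Ex τ M) (n : ℕ) : Ex τ (M ^ n) := by
  induction n with
  | zero => rw [pow_zero]; exact Ex.one τ
  | succ n ih => rw [pow_succ]; exact ih.mul hM

theorem mo_eq_dia {τ : G8 F} (hτ : TriS τ τ τ) (u w : V8 F) : mo τ τ u w = dia τ u w := by
  rw [mo, dia, aut_oconj hτ.inv]

/-- the map `c ↦ ν⁻¹(c) ν(c) c⁻¹` -/
def phi (ν : F ≃+* F) : Fˣ →* Fˣ where
  toFun c := Units.map (ν.symm : F →* F) c * Units.map (ν : F →* F) c * c⁻¹
  map_one' := by simp
  map_mul' a b := by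
    rw [map_mul, map_mul, mul_inv]
    ext
    push_cast
    ring

theorem phi_val (ν : F ≃+* F) (c : Fˣ) : ((phi ν c : Fˣ) : F) = ν.symm c * ν c * (c : F)⁻¹ := by
  rw [phi]
  simp only [_root_.MonoidHom.coe_mk, _root_.OneHom.coe_mk, _root_.Units.val_mul, _root_.Units.coe_map, _root_.MonoidHom.coe_coe, _root_.Units.val_inv_eq_inv_val]

theorem phi_injective {ν : F ≃+* F} (hν : ∀ a, ν (ν (ν a)) = a) : Function.Injective (phi ν) := by
  rw [injective_iff_map_eq_one]
  intro c hc
  have h0 : (c : F) ≠ 0 := c.ne_zero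
  have h1 : ν.symm c * ν c = c := by
    have h := congrArg (Units.val) hc
    rw [phi_val, Units.val_one] at h
    field_simp at h
    exact h
  have hs : ν.symm (c : F) = ν (ν c) := by rw [RingEquiv.symm_apply_eq, hν]
  rw [hs] at h1
  have h2 := congrArg ν h1
  rw [map_mul, hν] at h2
  -- `ν ν c * ν c = c`, `c * ν ν c = ν c`
  have h3 : ν (ν (c : F)) * ν (ν c) = 1 := by
    have h4 : ν (ν (c : F)) * (c * ν (ν c)) = c := by rw [h2, h1]
    have h5 : (c : F) * (ν (ν c) * ν (ν c)) = c * 1 := by rw [mul_one]; linear_combination h4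
    exact mul_left_cancel₀ h0 h5
  have h6 : (c : F) * c = 1 := by
    have h := congrArg ν h3
    rw [map_mul, hν, map_one] at h
    exact h
  have h7 : ν (ν (c : F)) = c := by
    rcases mul_self_eq_one_iff.1 h6 with h | h <;> rw [h] <;> simp only [_root_.map_one, _root_.RingEquiv.map_neg_one]
  have h8 : ν (c : F) = c := by
    rcases mul_self_eq_one_iff.1 h6 with h | h <;> rw [h] <;> simp
  rw [h7, h8, h6] at h1
  exact Units.ext h1.symm

theorem phi_surjective [Finite F] {ν : F ≃+* F} (hν : ∀ a, ν (ν (ν a)) = a) : Function.Surjective (phi ν) := by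
  have : Finite Fˣ := inferInstance
  exact Finite.surjective_of_injective (phi_injective hν)

theorem dia_smul {τ : G8 F} {ν : F ≃+* F} {c : F} (hs : IsSS (plusForm 4 F) ν c τ.1) (a b : F) (u w : V8 F) :
    dia τ (a • u) (b • w) = (ν.symm a * ν b) • dia τ u w := by
  have hsi : IsSS (plusForm 4 F) ν.symm (ν.symm c⁻¹) τ⁻¹.1 := hs.inv
  rw [dia, dia, oconj_smul, oconj_smul, hs.smul, hsi.smul, smul_omul, omul_smul, smul_smul]

/-- existence of an exact representative -/
theorem exists_ex [Finite F] (hG : Good (plusForm 4 F)) {τ : G8 F} (hτ : TriS τ τ τ) (ho : τ ^ 3 = 1)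
    {N : G8 F} (hN : N ∈ T1 F) (hc : Psi _ N * xt hG τ = xt hG τ * Psi _ N) :
    ∃ M : G8 F, Psi (plusForm 4 F) M = Psi _ N ∧ Ex τ M := by
  obtain ⟨N₁, N₂, hN⟩ := hN
  (have h_ob := comm_mo hG hτ hN hc
   revert h_ob; rintro (⟨c, hc0, h⟩))
  (have h_ob := τ.2
   revert h_ob; rintro (⟨ν, k, hs⟩))
  (have h_ob := phi_surjective (field_cube hτ ho hs) (Units.mk0 c hc0)
   revert h_ob; rintro (⟨d, hd⟩))
  have hd' : ν.symm (d : F) * ν d = c * d := by
    have h1 := congrArg Units.val hd
    rw [phi_val, Units.val_mk0] at h1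
    rw [← h1]
    field_simp
  refine ⟨scal _ d * N, ?_, fun u w => ?_⟩
  · have h1 : Psi (plusForm 4 F) (scal _ d) = 1 := by
      rw [← MonoidHom.mem_ker, ker_Psi hG]
      exact ⟨d, rfl⟩
    simp only [map_mul (Psi (plusForm 4 F)) (scal _ d) N, h1, one_mul]
  · change (d : F) • N.1 (dia τ u w) = dia τ ((d : F) • N.1 u) ((d : F) • N.1 w)
    rw [dia_smul hs, hd', ← mo_eq_dia hτ, ← mo_eq_dia hτ, h, smul_smul, mul_comm]

/-- the product is not identically zero on a semisimilitude -/
theorem smul_dia_cancel {τ M : G8 F} (hτ : TriS τ τ τ) {a b : F}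
    (h : ∀ u w, a • dia τ (M.1 u) (M.1 w) = b • dia τ (M.1 u) (M.1 w)) : a = b := by
  have e : one8 F = M.1 (M⁻¹.1 (one8 F)) := (M.1.apply_symm_apply _).symm
  have h1 := h (M⁻¹.1 (one8 F)) (M⁻¹.1 (one8 F))
  rw [← e] at h1
  have h2 : dia τ (one8 F) (one8 F) = one8 F := by
    rw [dia, oconj_one8, aut_one hτ, aut_one hτ.inv, one_omul]
  rw [h2] at h1
  have h3 : (a - b) • one8 F = 0 := by rw [sub_smul, h1, sub_self]
  rcases smul_eq_zero.1 h3 with h4 | h4
  · exact sub_eq_zero.1 h4
  · exfalso
    have h5 := norm_one8 (F := F)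
    rw [h4, QuadraticMap.map_zero] at h5
    exact zero_ne_one h5

/-- uniqueness of the exact representative -/
theorem Ex.eq_of_psi (hG : Good (plusForm 4 F)) {τ : G8 F} (hτ : TriS τ τ τ) (ho : τ ^ 3 = 1)
    {M N : G8 F} (hM : Ex τ M) (hN : Ex τ N) (h : Psi (plusForm 4 F) M = Psi _ N) : M = N := by
  obtain ⟨c, hc⟩ := smul_of_Psi_eq hG h
  obtain ⟨ν, k, hs⟩ := τ.2
  obtain ⟨θ, l, hN'⟩ := N.2
  set! d : Fˣ := Units.map (θ : F →* F) c with hd
  have hdv : (d : F) = θ c := rfl
  have hc' : ∀ v, M.1 v = (d : F) • N.1 v := by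
    intro v
    rw [hc, hN'.smul, hdv]
  have h1 : ν.symm (d : F) * ν d = d := by
    apply smul_dia_cancel hτ (M := N)
    intro u w
    rw [← dia_smul hs, ← hc', ← hc', ← hM, hc', hN]
  have h2 : phi ν d = 1 := by
    apply Units.ext
    rw [phi_val, h1, Units.val_one, mul_inv_cancel₀ d.ne_zero]
  have h3 : d = 1 := phi_injective (field_cube hτ ho hs) (by rw [h2, map_one])
  apply Subtype.ext
  ext1 v
  rw [hc', h3, Units.val_one, one_smul]

/-! ### The classes -/

theorem KT_le : KT F ≤ (Psi (plusForm 4 F)).range := by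
  rintro _ ⟨N, -, rfl⟩
  exact ⟨N, rfl⟩

theorem gen_conj {G : Type*} [Group G] {r k y : G} (h3 : r ^ 3 = 1) (hk : k * r * k = r⁻¹) (kk : k * k = 1) {i : ℕ}
    (hy : y = r ^ i * k) : r ^ i * y * (r ^ i)⁻¹ = k := by
  have hk1 : k * r * k⁻¹ = r⁻¹ := by rw [inv_eq_of_mul_eq_one_right kk, hk]
  have hk2 : k * r ^ i * k⁻¹ = (r ^ i)⁻¹ := by
    rw [← conj_pow, hk1, inv_pow]
  have hk3 : k * r ^ i = (r ^ i)⁻¹ * k := by rw [← hk2]; group
  have hk4 : k * (r ^ i)⁻¹ = r ^ i * k := by
    have := congrArg (fun z => r ^ i * z * (r ^ i)⁻¹) hk3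
    beta_reduce at this
    rw [← mul_assoc, mul_inv_cancel_right] at this
    rw [this]
    group
  rw [hy]
  calc r ^ i * (r ^ i * k) * (r ^ i)⁻¹ = r ^ i * r ^ i * (k * (r ^ i)⁻¹) := by group
    _ = r ^ i * r ^ i * (r ^ i * k) := by rw [hk4]
    _ = (r ^ 3) ^ i * k := by rw [← pow_mul, mul_comm 3 i, pow_mul, pow_three]; group
    _ = k := by rw [h3, one_pow, one_mul]

/-- an element of prime order outside the kernel, in the class of a power of `r` -/
theorem gen_pw {G : Type*} [Group G] {r y : G} (h3 : r ^ 3 = 1) {i : ℕ} (hy : y = r ^ i) (h1 : y ≠ 1) {n : ℕ}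
    (hn : n.Prime) (yn : y ^ n = 1) : n = 3 := by
  have h2 : y ^ 3 = 1 := by rw [hy, ← pow_mul, mul_comm, pow_mul, h3, one_pow]
  by_contra hne
  have hcop : n.Coprime 3 := (Nat.coprime_primes hn Nat.prime_three).2 hne
  have h4 := pow_gcd_eq_one.2 ⟨yn, h2⟩
  rw [hcop.gcd_eq_one, pow_one] at h4
  exact h1 h4

theorem gen_two {G : Type*} [Group G] {r k y : G} (hk : k * r * k = r⁻¹) (kk : k * k = 1) {i : ℕ}
    (hy : y = r ^ i * k) : y ^ 2 = 1 := by
  have hk1 : k * r * k⁻¹ = r⁻¹ := by rw [inv_eq_of_mul_eq_one_right kk, hk]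
  have hk2 : k * r ^ i * k⁻¹ = (r ^ i)⁻¹ := by
    rw [← conj_pow, hk1, inv_pow]
  rw [inv_eq_of_mul_eq_one_right kk] at hk2
  rw [hy, pow_two]
  calc r ^ i * k * (r ^ i * k) = r ^ i * (k * r ^ i * k) := by group
    _ = 1 := by rw [hk2, mul_inv_cancel]

set_option maxHeartbeats 4000000 in
/-- **the trichotomy** -/
theorem tricho [Finite F] (hG : Good (plusForm 4 F)) {ι : Type*} {α : ι → MulAut (P8 F)} {r : ι → ℕ}
    (hr : ∀ i, (r i).Prime) (hinj : Function.Injective r) (hp : ∀ i, α i ^ r i = 1) :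
    (∃ γ : MulAut (P8 F), ∀ i, γ * α i * γ⁻¹ ∈ (Psi (plusForm 4 F)).range) ∨
      ∃ i₁, r i₁ = 3 ∧ α i₁ ∉ (Psi (plusForm 4 F)).range := by
  have hNor := KT_normal hG
  set! π := QuotientGroup.mk' (KT F) with hπ
  have hker : ∀ y, π y = 1 ↔ y ∈ KT F := fun y => QuotientGroup.eq_one_iff y
  have hT : ∀ N ∈ T1 F, π (Psi (plusForm 4 F) N) = 1 := fun N hN => (hker _).2 ⟨N, hN, rfl⟩
  have h3 : π (rho hG) ^ 3 = 1 := by
    simp only [← map_pow π (rho hG) 3, rho_pow_three, map_one π]
  have hk : π (Psi _ (kapG F)) * π (rho hG) * π (Psi _ (kapG F)) = (π (rho hG))⁻¹ := by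
    simp only [← map_mul π (Psi _ (kapG F)) (rho hG), ← map_mul π (Psi _ (kapG F) * rho hG) (Psi _ (kapG F)),
      H198.TriInn.kap_rho_kap hG, map_inv π (rho hG)]
  have kk : π (Psi _ (kapG F)) * π (Psi _ (kapG F)) = 1 := by
    simp only [← map_mul π (Psi _ (kapG F)) (Psi _ (kapG F)), ← map_mul (Psi (plusForm 4 F)) (kapG F) (kapG F),
      kapG_mul_kapG, map_one (Psi (plusForm 4 F)), map_one π]
  -- the classes
  have hcl : ∀ y : MulAut (P8 F), ∃ (i : ℕ) (M : G8 F), i < 3 ∧ y = rho hG ^ i * Psi _ M ∧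
      (π y = π (rho hG) ^ i ∨ π y = π (rho hG) ^ i * π (Psi _ (kapG F))) := by
    intro y
    (have h_ob := aut_cases hG y
     revert h_ob; rintro (⟨i, N, hi, h1⟩))
    refine ⟨i, N, hi, h1, ?_⟩
    have h2 : π y = π (rho hG) ^ i * π (Psi _ N) := by
      simp only [h1, map_mul π (rho hG ^ i) (Psi _ N), map_pow π (rho hG) i]
    by_cases hN : N ∈ T1 F
    · left
      simp only [h2, hT N hN, mul_one]
    · right
      have h3 := hT _ (not_mem_T1 hG hN)
      simp only [map_mul (Psi (plusForm 4 F)) N (kapG F), map_mul π (Psi _ N) (Psi _ (kapG F))] at h3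
      have h4 : π (Psi _ N) = π (Psi _ (kapG F)) := by
        simp only [eq_inv_of_mul_eq_one_left h3]
        exact (eq_inv_of_mul_eq_one_left kk).symm
      simp only [h2, h4]
  by_cases hall : ∀ i, π (α i) = 1
  · left
    refine ⟨1, fun i => ?_⟩
    simp only [one_mul, inv_one, mul_one]
    exact KT_le ((hker _).1 (hall i))
  push Not at hall
  obtain ⟨i₀, hi₀⟩ := hall
  have hpow : ∀ i, π (α i) ^ r i = 1 := fun i => by simp only [← map_pow π (α i) (r i), hp, map_one π]
  by_cases hex : ∃ i₁, r i₁ = 3 ∧ α i₁ ∉ (Psi (plusForm 4 F)).range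
  · exact Or.inr hex
  left
  -- the classes of the members are `1` or of the second type
  have h2nd : ∀ i, π (α i) ≠ 1 → r i = 2 ∧ ∃ j : ℕ, π (α i) = π (rho hG) ^ j * π (Psi _ (kapG F)) := by
    intro i hi
    (have h_ob := hcl (α i)
     revert h_ob; rintro (⟨j, M, hj, h1, h2 | h2⟩))
    · exfalso
      apply hex
      refine ⟨i, gen_pw h3 h2 hi (hr i) (hpow i), ?_⟩
      rintro ⟨L, hL⟩
      have h4 : rho hG ^ j ∈ (Psi (plusForm 4 F)).range := by
        have h5 : rho hG ^ j = Psi _ L * (Psi _ M)⁻¹ := by simp only [hL, h1, mul_inv_cancel_right]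
        simp only [h5]
        exact mul_mem ⟨L, rfl⟩ (inv_mem ⟨M, rfl⟩)
      interval_cases j
      · simp only [pow_zero] at h2
        exact hi h2
      · simp only [pow_one] at h4
        exact rho_not_mem hG h4
      · simp only [rho_sq] at h4
        exact rho_inv_not_mem hG h4
    · refine ⟨?_, j, h2⟩
      have h4 := gen_two hk kk h2
      by_contra hne
      have hcop : (r i).Coprime 2 := (Nat.coprime_primes (hr i) Nat.prime_two).2 hne
      have h5 := pow_gcd_eq_one.2 ⟨hpow i, h4⟩
      simp only [hcop.gcd_eq_one, pow_one] at h5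
      exact hi h5
  (have h_ob := h2nd i₀ hi₀
   revert h_ob; rintro (⟨hr2, j, hj⟩))
  refine ⟨rho hG ^ j, fun i => ?_⟩
  by_cases hii : i = i₀
  · subst hii
    have h5 : π (rho hG ^ j * α i * (rho hG ^ j)⁻¹) = π (Psi _ (kapG F)) := by
      simp only [map_mul π (rho hG ^ j * α i) (rho hG ^ j)⁻¹, map_mul π (rho hG ^ j) (α i), map_inv π (rho hG ^ j),
        map_pow π (rho hG) j]
      exact gen_conj h3 hk kk hj
    have h6 : (Psi (plusForm 4 F) (kapG F))⁻¹ * (rho hG ^ j * α i * (rho hG ^ j)⁻¹) ∈ KT F :=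
      QuotientGroup.eq.1 h5.symm
    have h7 := mul_mem (MonoidHom.mem_range.2 ⟨kapG F, rfl⟩ : Psi (plusForm 4 F) (kapG F) ∈ _) (KT_le h6)
    (simp only [mul_inv_cancel_left] at h7; assumption)
  · have h8 : π (α i) = 1 := by
      by_contra hne
      exact hii (hinj ((h2nd i hne).1.trans hr2.symm))
    exact KT_le (hNor.conj_mem _ ((hker _).1 h8) _)

/-! ### Multipliers -/

/-- exact automorphisms have multiplier one -/
theorem Ex.mult {τ : G8 F} (hτ : TriS τ τ τ) (ho : τ ^ 3 = 1) {M : G8 F} (hM : Ex τ M) {θ : F ≃+* F} {c : F}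
    (hs : IsSS (plusForm 4 F) θ c M.1) : c = 1 := by
  obtain ⟨ν, k, ht⟩ := τ.2
  obtain rfl := aut_mult hτ ht
  have hti : IsSS (plusForm 4 F) ν.symm (ν.symm 1⁻¹) τ⁻¹.1 := ht.inv
  have h2 : dia τ (one8 F) (one8 F) = one8 F := by
    rw [dia, oconj_one8, aut_one hτ, aut_one hτ.inv, one_omul]
  have h3 := congrArg (plusForm 4 F) (hM (one8 F) (one8 F))
  rw [h2, dia, norm_omul, ht.form, hti.form, norm_oconj, hs.form, norm_one8, map_one, mul_one, inv_one, map_one,
    one_mul, one_mul] at h3
  have h4 : phi ν (Units.mk0 c hs.ne) = 1 := by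
    apply Units.ext
    rw [phi_val, Units.val_mk0, ← h3, Units.val_one, mul_inv_cancel₀ hs.ne]
  have h5 := phi_injective (field_cube hτ ho ht) (h4.trans (map_one (phi ν)).symm)
  exact congrArg Units.val h5

/-! ### The frame -/

/-- the data of the frame -/
structure Fr {G ι : Type*} [Group G] (hG : Good (plusForm 4 F)) (N : Subgroup G) (x : ι → G) (r : ι → ℕ)
    (σ : P8 F →* G) (i₁ : ι) (τ : G8 F) (M : ι → G8 F) : Prop where
  rp : Rp (plusForm 4 F) N σ
  three : r i₁ = 3
  tri : TriS τ τ τ
  cube : τ ^ 3 = 1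
  nf : NF τ
  la : La σ (x i₁) (xt hG τ)
  lf : ∀ j, j ≠ i₁ → Lf (up σ) (x j) (M j)
  ex : ∀ j, Ex τ (M j)
  pow : ∀ j, M j ^ r j = 1
  comm : ∀ j k, M j * M k = M k * M j
  ne : ∀ j, j ≠ i₁ → M j ≠ 1
  one : M i₁ = 1

theorem gen_cm {G : Type*} [Group G] {a b c : G} (h : a * b = b * a) :
    c * a * c⁻¹ * (c * b * c⁻¹) = c * b * c⁻¹ * (c * a * c⁻¹) := by
  have e : ∀ a b : G, c * a * c⁻¹ * (c * b * c⁻¹) = c * (a * b) * c⁻¹ := fun a b => by group
  rw [e, e, h]

section frame

variable [Finite F] (hG : Good (plusForm 4 F)) {G Ω ι : Type*} [Group G] [MulAction G Ω] {N : Subgroup G}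
  {σ : P8 F →* G} {x : ι → G} {r : ι → ℕ}

/-- the frame, from the automorphisms -/
theorem frame_aux (hE : Env G Ω N) (hσ : Rp (plusForm 4 F) N σ) (hx : PF x r) {α : ι → MulAut (P8 F)} (hα : ∀ i, La σ (x i) (α i))
    {i₁ : ι} (h3 : r i₁ = 3) {γ : MulAut (P8 F)} {τ : G8 F} (hτ : TriS τ τ τ) (hτ3 : τ ^ 3 = 1) (hnf : NF τ)
    (hγ : γ * α i₁ * γ⁻¹ = xt hG τ) :
    ∃ (σ' : P8 F →* G) (M : ι → G8 F), Fr hG N x r σ' i₁ τ M := by
  classical
  have hcomm : ∀ i j, α i * α j = α j * α i := fun i j =>
    La.unique hσ ((hα i).mul (hα j)) (by rw [hx.comm]; exact (hα j).mul (hα i))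
  have hpow : ∀ i, α i ^ r i = 1 := fun i =>
    La.unique hσ ((hα i).pow (r i)) (by rw [hx.pow]; exact La.one)
  obtain ⟨σ', h1, h2⟩ := hσ.change γ
  have hβ : ∀ j, ∃ M : G8 F, Ex τ M ∧ (j ≠ i₁ → Psi (plusForm 4 F) M = γ * α j * γ⁻¹) ∧ (j = i₁ → M = 1) := by
    intro j
    by_cases hj : j = i₁
    · exact ⟨1, Ex.one τ, fun h => absurd hj h, fun _ => rfl⟩
    have hc : γ * α j * γ⁻¹ * (Psi _ τ * rho hG) = Psi _ τ * rho hG * (γ * α j * γ⁻¹) := by
      have h4 := gen_cm (c := γ) (hcomm j i₁)
      (simp +singlePass only [hγ] at h4)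
      exact h4
    have hn : (r j).Coprime 3 := by
      rw [← h3]
      exact (Nat.coprime_primes (hx.prime j) (hx.prime i₁)).2 fun h => hj (hx.inj h)
    have hyn : (γ * α j * γ⁻¹) ^ r j = 1 := by simp only [conj_pow, hpow, mul_one, mul_inv_cancel]
    (have h_ob := comm_range hG (M := τ) ⟨τ, τ, hτ⟩ hc hn hyn
     revert h_ob; rintro (⟨L, L₁, L₂, hL, hL'⟩))
    (have h_ob := exists_ex hG hτ hτ3 (N := L) ⟨L₁, L₂, hL⟩ (by ((conv => enter [@2, @5]; rw [hL']); (conv => enter [@3, @6]; rw [hL'])); exact hc)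
     revert h_ob; rintro (⟨M, hM, hM'⟩))
    exact ⟨M, hM', fun _ => by simp only [hM, hL'], fun h => absurd h hj⟩
  choose M hM1 hM2 hM3 using hβ
  have hu : ∀ {A B : G8 F}, Ex τ A → Ex τ B → Psi (plusForm 4 F) A = Psi _ B → A = B := fun hA hB h =>
    Ex.eq_of_psi hG hτ hτ3 hA hB h
  refine ⟨σ', M, h1, h3, hτ, hτ3, hnf, by rw [← hγ]; exact h2 _ _ (hα i₁), fun j hj => ?_, hM1, fun j => ?_,
    fun j k => ?_, fun j hj h => ?_, hM3 i₁ rfl⟩
  · apply La.lf.1
    rw [hM2 j hj]
    exact h2 _ _ (hα j)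
  · by_cases hj : j = i₁
    · rw [hM3 j hj, one_pow]
    · apply hu ((hM1 j).pow _) (Ex.one τ)
      simp only [map_pow (Psi (plusForm 4 F)) (M j) (r j), hM2 j hj, map_one (Psi (plusForm 4 F)), conj_pow, hpow, mul_one,
        mul_inv_cancel]
  · by_cases hj : j = i₁
    · rw [hM3 j hj, one_mul, mul_one]
    by_cases hk : k = i₁
    · rw [hM3 k hk, one_mul, mul_one]
    apply hu ((hM1 j).mul (hM1 k)) ((hM1 k).mul (hM1 j))
    simp only [_root_.MonoidHom.map_mul (Psi (plusForm 4 F)) (M j) (M k), _root_.MonoidHom.map_mul (Psi (plusForm 4 F)) (M k) (M j), hM2 j hj, hM2 k hk]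
    exact gen_cm (hcomm j k)
  · have h4 := hM2 j hj
    simp only [h, map_one (Psi (plusForm 4 F))] at h4
    have h5 : α j = 1 := by
      have h6 : γ * α j * γ⁻¹ = γ * 1 * γ⁻¹ := by simp only [← h4, mul_one, mul_inv_cancel]
      exact mul_left_cancel (mul_right_cancel h6)
    exact hx.ne j (La.eq hE hσ (hα j) (by rw [h5]; exact La.one))

/-- inversion of a member of a family -/
theorem inv_family [DecidableEq ι] (hx : PF x r) (i₁ : ι) :
    PF (Function.update x i₁ (x i₁)⁻¹) r ∧
      ∀ i (ω : Ω), Function.update x i₁ (x i₁)⁻¹ i • ω = ω ↔ x i • ω = ω := by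
  refine ⟨⟨hx.prime, hx.inj, fun i => ?_, fun i => ?_, fun i j => ?_⟩, fun i ω => ?_⟩
  · by_cases hi : i = i₁
    · subst hi
      rw [Function.update_self, inv_pow, hx.pow, inv_one]
    · rw [Function.update_of_ne hi, hx.pow]
  · by_cases hi : i = i₁
    · subst hi
      rw [Function.update_self]
      exact inv_ne_one.2 (hx.ne i)
    · rw [Function.update_of_ne hi]
      exact hx.ne i
  · have h1 : ∀ i j, Commute (x i) (x j) := fun i j => hx.comm i j
    by_cases hi : i = i₁
    · by_cases hj : j = i₁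
      · rw [hi, hj]
      · rw [Function.update_of_ne hj, hi, Function.update_self]
        exact (h1 i₁ j).inv_left
    · by_cases hj : j = i₁
      · rw [Function.update_of_ne hi, hj, Function.update_self]
        exact (h1 i i₁).inv_right
      · rw [Function.update_of_ne hi, Function.update_of_ne hj]
        exact h1 i j
  · by_cases hi : i = i₁
    · subst hi
      rw [Function.update_self, inv_smul_eq_iff]
      exact eq_comm
    · rw [Function.update_of_ne hi]

/-- **T0, the frame** -/
theorem frame (hE : Env G Ω N) (hσ : Rp (plusForm 4 F) N σ) (hx : PF x r)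
    (hno : ¬ ∃ σ' : P8 F →* G, Rp (plusForm 4 F) N σ' ∧ ∀ i, ∃ M : G8 F, Lf (up σ') (x i) M) :
    ∃ (x' : ι → G) (σ' : P8 F →* G) (i₁ : ι) (τ : G8 F) (M : ι → G8 F), (∀ j, j ≠ i₁ → x' j = x j) ∧
      (x' i₁ = x i₁ ∨ x' i₁ = (x i₁)⁻¹) ∧ PF x' r ∧ (∀ i (ω : Ω), x' i • ω = ω ↔ x i • ω = ω) ∧
      Fr hG N x' r σ' i₁ τ M := by
  classical
  choose α hα using fun i => exists_La hE.norm hσ (x i)
  have hpow : ∀ i, α i ^ r i = 1 := fun i =>
    La.unique hσ ((hα i).pow (r i)) (by rw [hx.pow]; exact La.one)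
  rcases tricho hG hx.prime hx.inj hpow with ⟨γ, hγ⟩ | ⟨i₁, h3, hi₁⟩
  · exfalso
    obtain ⟨σ', h1, h2⟩ := hσ.change γ
    refine hno ⟨σ', h1, fun i => ?_⟩
    obtain ⟨M, hM⟩ := hγ i
    exact ⟨M, La.lf.1 (by rw [hM]; exact h2 _ _ (hα i))⟩
  · obtain ⟨γ, τ, hτ, hτ3, hnf, h | h⟩ := classify_nf hG hi₁ (by rw [← h3]; exact hpow i₁)
    · obtain ⟨σ', M, hM⟩ := frame_aux hG hE hσ hx hα h3 hτ hτ3 hnf h
      exact ⟨x, σ', i₁, τ, M, fun _ _ => rfl, Or.inl rfl, hx, fun _ _ => Iff.rfl, hM⟩
    · obtain ⟨hx', hfix⟩ := inv_family (Ω := Ω) hx i₁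
      have hα' : ∀ i, La σ (Function.update x i₁ (x i₁)⁻¹ i) (Function.update α i₁ (α i₁)⁻¹ i) := by
        intro i
        by_cases hi : i = i₁
        · subst hi
          rw [Function.update_self, Function.update_self]
          exact (hα i).inv
        · rw [Function.update_of_ne hi, Function.update_of_ne hi]
          exact hα i
      obtain ⟨σ', M, hM⟩ := frame_aux hG hE hσ hx' hα' h3 hτ hτ3 hnf (by rw [Function.update_self]; exact h)
      refine ⟨_, σ', i₁, τ, M, fun j hj => Function.update_of_ne hj _ _, Or.inr (Function.update_self _ _ _), hx',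
        hfix, hM⟩

end frame

end Cfsg.Agent.H675.RC

private theorem dce_7b0802439bc0 : _root_.True := by
  try have : _root_.True := by simp only [_root_.Cfsg.Agent.H675.RC.phi.eq_1]
  exact _root_.True.intro
end

-- part: H188/RC/IDNormal
section
prune_inst 0x41150450065801000001805123220002024000000004000002060054201094802a50308013a30050000a004404000000000100080402000000a0004000006010000800400b0480108200096000000000000000000000000000000000000010000000000000
set_option linter.all false
open scoped Cfsg.Agent.FastGrp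

-- part: H237/RC/IDDef
section
/-!
# S3510, triality type (i), box iD: definitions
-/

set_option autoImplicit false
open Cfsg

namespace Cfsg.Agent.H237.RC.ID

open Module QuadraticMap Cfsg.Agent.LieClassical.OrthCore Cfsg.Agent.LieClassical.OrthTrans
  Cfsg.Agent.ClassicalGeometry.OrthSemi Cfsg.Agent.LieClassical.QuadForms
  Cfsg.Agent.ClassicalGeometry.TrialityOct Cfsg.Agent.ClassicalGeometry.Triality
  Cfsg.Agent.H198.TriBase Cfsg.Agent.H752.SemiNormal

/-- the quaternion subalgebra `⟨l₀, r₀, l₁, r₁⟩` -/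
def H0 (F : Type*) [Field F] : Submodule F (V8 F) where
  carrier := {x | x (.inl 2) = 0 ∧ x (.inl 3) = 0 ∧ x (.inr 2) = 0 ∧ x (.inr 3) = 0}
  add_mem' := by
    rintro x y ⟨h1, h2, h3, h4⟩ ⟨k1, k2, k3, k4⟩
    exact ⟨by rw [Pi.add_apply, h1, k1, add_zero], by rw [Pi.add_apply, h2, k2, add_zero],
      by rw [Pi.add_apply, h3, k3, add_zero], by rw [Pi.add_apply, h4, k4, add_zero]⟩
  zero_mem' := ⟨rfl, rfl, rfl, rfl⟩
  smul_mem' := by
    rintro c x ⟨h1, h2, h3, h4⟩
    exact ⟨by rw [Pi.smul_apply, h1, smul_zero], by rw [Pi.smul_apply, h2, smul_zero],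
      by rw [Pi.smul_apply, h3, smul_zero], by rw [Pi.smul_apply, h4, smul_zero]⟩

end Cfsg.Agent.H237.RC.ID
end

-- part: H188/RC/IDNormal
section
/-!
# S3510, triality type (i), box iD part A: the common fixed space is nondegenerate, the normal form (helper188)
-/

set_option autoImplicit false
open Cfsg

namespace Cfsg.Agent.H188.RC.IDNormal

open Module QuadraticMap Cfsg.Agent.LieClassical.OrthCore Cfsg.Agent.LieClassical.OrthTrans
  Cfsg.Agent.ClassicalGeometry.OrthSemi Cfsg.Agent.LieClassical.QuadForms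
  Cfsg.Agent.ClassicalGeometry.TrialityOct Cfsg.Agent.ClassicalGeometry.Triality
  Cfsg.Agent.H198.TriBase Cfsg.Agent.H752.SemiNormal Cfsg.Agent.H198.TriDia

variable {F : Type} [Field F]

/-! ### Linear isometries -/

/-- a linear isometry preserves the polar form -/
theorem pol {M : G8 F} (h : IsSS (plusForm 4 F) (RingEquiv.refl F) 1 M.1) (x y : V8 F) :
    polar (plusForm 4 F) (M.1 x) (M.1 y) = polar (plusForm 4 F) x y := by
  rw [h.polar, one_mul]; rfl

theorem nrm {M : G8 F} (h : IsSS (plusForm 4 F) (RingEquiv.refl F) 1 M.1) (x : V8 F) :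
    plusForm 4 F (M.1 x) = plusForm 4 F x := by
  rw [h.form, one_mul]; rfl

theorem sml {M : G8 F} (h : IsSS (plusForm 4 F) (RingEquiv.refl F) 1 M.1) (c : F) (x : V8 F) :
    M.1 (c • x) = c • M.1 x := h.smul c x

/-- the linear map -/
def lin {M : G8 F} (h : IsSS (plusForm 4 F) (RingEquiv.refl F) 1 M.1) : V8 F ≃ₗ[F] V8 F where
  toFun := M.1
  invFun := M.1.symm
  left_inv := M.1.symm_apply_apply
  right_inv := M.1.apply_symm_apply
  map_add' := h.add
  map_smul' := fun c x => sml h c x

theorem pol_symm (x y : V8 F) : polar (plusForm 4 F) x y = polar (plusForm 4 F) y x := QuadraticMap.polar_comm _ _ _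

theorem pol_add_left (x y z : V8 F) :
    polar (plusForm 4 F) (x + y) z = polar (plusForm 4 F) x z + polar (plusForm 4 F) y z := by
  simp only [polar8, Pi.add_apply]; ring

theorem pol_add_right (x y z : V8 F) :
    polar (plusForm 4 F) x (y + z) = polar (plusForm 4 F) x y + polar (plusForm 4 F) x z := by
  simp only [polar8, Pi.add_apply]; ring

theorem pol_sub_left (x y z : V8 F) :
    polar (plusForm 4 F) (x - y) z = polar (plusForm 4 F) x z - polar (plusForm 4 F) y z := by
  simp only [polar8, Pi.sub_apply]; ring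

theorem pol_sub_right (x y z : V8 F) :
    polar (plusForm 4 F) x (y - z) = polar (plusForm 4 F) x y - polar (plusForm 4 F) x z := by
  simp only [polar8, Pi.sub_apply]; ring

theorem pol_smul_left (c : F) (x y : V8 F) :
    polar (plusForm 4 F) (c • x) y = c * polar (plusForm 4 F) x y := by
  simp only [polar8, Pi.smul_apply, smul_eq_mul]; ring

theorem pol_smul_right (c : F) (x y : V8 F) :
    polar (plusForm 4 F) x (c • y) = c * polar (plusForm 4 F) x y := by
  simp only [polar8, Pi.smul_apply, smul_eq_mul]; ring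

theorem pol_one (x : V8 F) : polar (plusForm 4 F) x (one8 F) = x (.inl 0) + x (.inr 0) := by
  simp [polar8, one8]

/-- the plus form is nondegenerate -/
theorem eq_zero_of_pol {x : V8 F} (h : ∀ y, polar (plusForm 4 F) x y = 0) : x = 0 := by
  apply ext8
  · simpa [polar8, bs] using h (bs (.inr 0))
  · simpa [polar8, bs] using h (bs (.inr 1))
  · simpa [polar8, bs] using h (bs (.inr 2))
  · simpa [polar8, bs] using h (bs (.inr 3))
  · simpa [polar8, bs] using h (bs (.inl 0))
  · simpa [polar8, bs] using h (bs (.inl 1))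
  · simpa [polar8, bs] using h (bs (.inl 2))
  · simpa [polar8, bs] using h (bs (.inl 3))

/-! ### A1: averaging -/

/-- A1 (averaging): the common fixed space of commuting `p'`-isometries is nondegenerate. -/
theorem nondeg_fix [Finite F] {p : ℕ} [CharP F p] {κ : Type} [Finite κ]
    (M : κ → G8 F) (s : κ → ℕ) (hs : ∀ j, (s j).Prime) (hsp : ∀ j, s j ≠ p)
    (hiso : ∀ j, IsSS (plusForm 4 F) (RingEquiv.refl F) 1 (M j).1) (hpow : ∀ j, M j ^ s j = 1)
    (hc : ∀ i j, M i * M j = M j * M i) (x : V8 F) (hx : ∀ j, (M j).1 x = x)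
    (h : ∀ y, (∀ j, (M j).1 y = y) → polar (plusForm 4 F) x y = 0) : x = 0 := by
  classical
  have hcc : ∀ i j (v : V8 F), (M i).1 ((M j).1 v) = (M j).1 ((M i).1 v) := by
    intro i j v
    exact congrArg (fun z : G8 F => z.1 v) (hc i j)
  -- the averages
  have hsF : ∀ j, ((s j : ℕ) : F) ≠ 0 := by
    intro j h0
    have hp : p.Prime := CharP.char_is_prime F p
    have h1 := (CharP.cast_eq_zero_iff F p (s j)).1 h0
    exact hsp j ((Nat.prime_dvd_prime_iff_eq hp (hs j)).1 h1).symm
  have key : ∀ t : Finset κ, ∀ v : V8 F, ∃ w : V8 F, (∀ j ∈ t, (M j).1 w = w) ∧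
      polar (plusForm 4 F) x w = polar (plusForm 4 F) x v := by
    intro t
    induction t using Finset.induction_on with
    | empty => intro v; exact ⟨v, by simp, rfl⟩
    | insert j t hj ih =>
      intro v
      obtain ⟨w, hw, hwv⟩ := ih v
      have hadd := (hiso j).add
      -- iterates
      have hit : ∀ k : ℕ, ∀ i ∈ t, (M i).1 ((M j ^ k).1 w) = (M j ^ k).1 w := by
        intro k i hi
        induction k with
        | zero => exact hw i hi
        | succ k ihk =>
          have e1 : (M j ^ (k + 1)).1 w = (M j).1 ((M j ^ k).1 w) := by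
            rw [pow_succ']; rfl
          rw [e1, hcc, ihk]
      have hpolk : ∀ k : ℕ, polar (plusForm 4 F) x ((M j ^ k).1 w) = polar (plusForm 4 F) x w := by
        intro k
        induction k with
        | zero => rfl
        | succ k ihk =>
          have e1 : (M j ^ (k + 1)).1 w = (M j).1 ((M j ^ k).1 w) := by
            rw [pow_succ']; rfl
          rw [e1, ← ihk]
          nth_rw 1 [← hx j]
          exact pol (hiso j) _ _
      have hsum : ∀ i, (M i).1 (∑ k ∈ Finset.range (s j), (M j ^ k).1 w) =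
          ∑ k ∈ Finset.range (s j), (M i).1 ((M j ^ k).1 w) := by
        intro i
        have := map_sum (lin (hiso i)) (fun k => (M j ^ k).1 w) (Finset.range (s j))
        exact this
      refine ⟨((s j : ℕ) : F)⁻¹ • ∑ k ∈ Finset.range (s j), (M j ^ k).1 w, ?_, ?_⟩
      · intro i hi
        rw [sml (hiso i), hsum]
        congr 1
        rcases Finset.mem_insert.1 hi with rfl | hi
        · have e1 : ∀ k, (M i).1 ((M i ^ k).1 w) = (M i ^ (k + 1)).1 w := by
            intro k
            rw [pow_succ']; rfl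
          have e2 : ∑ k ∈ Finset.range (s i), (M i).1 ((M i ^ k).1 w) =
              ∑ k ∈ Finset.range (s i), (M i ^ (k + 1)).1 w := Finset.sum_congr rfl fun k _ => e1 k
          rw [e2]
          have e3 := Finset.sum_range_succ (fun k => (M i ^ k).1 w) (s i)
          have e4 := Finset.sum_range_succ' (fun k => (M i ^ k).1 w) (s i)
          rw [e3] at e4
          have e5 : (M i ^ (s i)).1 w = (M i ^ 0).1 w := by rw [hpow, pow_zero]
          rw [e5] at e4
          exact (add_right_cancel e4).symm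
        · exact Finset.sum_congr rfl fun k _ => hit k i hi
      · rw [pol_smul_right]
        have e1 : polar (plusForm 4 F) x (∑ k ∈ Finset.range (s j), (M j ^ k).1 w) =
            ∑ k ∈ Finset.range (s j), polar (plusForm 4 F) x ((M j ^ k).1 w) := by
          have e6 : ∀ n : ℕ, polar (plusForm 4 F) x (∑ k ∈ Finset.range n, (M j ^ k).1 w) =
              ∑ k ∈ Finset.range n, polar (plusForm 4 F) x ((M j ^ k).1 w) := by
            intro n
            induction n with
            | zero => simp only [polar8, _root_.Finset.range_zero, _root_.SubmonoidClass.coe_pow, _root_.Finset.sum_empty, _root_.QuadraticMap.polar_zero_right, _root_.Fin.isValue]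
            | succ n ihn => rw [Finset.sum_range_succ, Finset.sum_range_succ, pol_add_right, ihn]
          exact e6 _
        rw [e1, Finset.sum_congr rfl fun k _ => hpolk k, Finset.sum_const, Finset.card_range, nsmul_eq_mul,
          ← mul_assoc, inv_mul_cancel₀ (hsF j), one_mul, hwv]
  have : Fintype κ := Fintype.ofFinite κ
  apply eq_zero_of_pol
  intro v
  obtain ⟨w, hw, hwv⟩ := key Finset.univ v
  rw [← hwv]
  exact h w fun j => hw j (Finset.mem_univ _)

/-! ### The normal form of `l, n, r` -/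

/-- a matrix of determinant one with given first row -/
theorem exists_mat (a1 a2 a3 b1 b2 b3 : F) (h : a1 * b1 + a2 * b2 + a3 * b3 = 1) :
    ∃ P : Matrix (Fin 3) (Fin 3) F, P.det = 1 ∧ P 0 0 = b1 ∧ P 0 1 = b2 ∧ P 0 2 = b3 ∧
      P 1 0 * a1 + P 1 1 * a2 + P 1 2 * a3 = 0 ∧ P 2 0 * a1 + P 2 1 * a2 + P 2 2 * a3 = 0 := by
  by_cases h1 : a1 = 0
  · by_cases h2 : a2 = 0
    · have h3 : a3 ≠ 0 := by
        rintro rfl
        rw [h1, h2] at h
        simp at h
      refine ⟨!![b1, b2, b3; a3, 0, -a1; 0, 1, -(a2 / a3)], ?_, rfl, rfl, rfl, ?_, ?_⟩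
      · rw [Matrix.det_fin_three]
        simp only [_root_.Fin.isValue, _root_.Matrix.of_apply, _root_.Matrix.cons_val', _root_.Matrix.cons_val_zero, _root_.Matrix.cons_val_fin_one, _root_.Matrix.cons_val_one, _root_.MulZeroClass.mul_zero, _root_.Matrix.cons_val, _root_.mul_neg, _root_.MulZeroClass.zero_mul, _root_.neg_zero, _root_.mul_one, _root_.sub_neg_eq_add, _root_.zero_add, _root_.add_zero, _root_.sub_zero]
        field_simp
        linear_combination h
      · simp only [_root_.Fin.isValue, _root_.Matrix.of_apply, _root_.Matrix.cons_val', _root_.Matrix.cons_val_zero, _root_.Matrix.cons_val_fin_one, _root_.Matrix.cons_val_one, _root_.MulZeroClass.zero_mul, _root_.add_zero, _root_.Matrix.cons_val, _root_.neg_mul]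
        ring
      · simp only [_root_.Fin.isValue, _root_.Matrix.of_apply, _root_.Matrix.cons_val', _root_.Matrix.cons_val_zero, _root_.Matrix.cons_val_fin_one, _root_.Matrix.cons_val, _root_.Matrix.cons_val_one, _root_.MulZeroClass.zero_mul, _root_.one_mul, _root_.zero_add, _root_.neg_mul]
        field_simp
        ring
    · refine ⟨!![b1, b2, b3; 0, -a3, a2; 1, -(a1 / a2), 0], ?_, rfl, rfl, rfl, ?_, ?_⟩
      · rw [Matrix.det_fin_three]
        simp only [_root_.Fin.isValue, _root_.Matrix.of_apply, _root_.Matrix.cons_val', _root_.Matrix.cons_val_zero, _root_.Matrix.cons_val_fin_one, _root_.Matrix.cons_val_one, _root_.mul_neg, _root_.Matrix.cons_val, _root_.MulZeroClass.mul_zero, _root_.sub_neg_eq_add, _root_.zero_add, _root_.sub_zero, _root_.mul_one, _root_.MulZeroClass.zero_mul, _root_.neg_zero, _root_.add_zero]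
        field_simp
        linear_combination h
      · simp only [_root_.Fin.isValue, _root_.Matrix.of_apply, _root_.Matrix.cons_val', _root_.Matrix.cons_val_zero, _root_.Matrix.cons_val_fin_one, _root_.Matrix.cons_val_one, _root_.MulZeroClass.zero_mul, _root_.neg_mul, _root_.zero_add, _root_.Matrix.cons_val]
        ring
      · simp only [_root_.Fin.isValue, _root_.Matrix.of_apply, _root_.Matrix.cons_val', _root_.Matrix.cons_val_zero, _root_.Matrix.cons_val_fin_one, _root_.Matrix.cons_val, _root_.Matrix.cons_val_one, _root_.one_mul, _root_.neg_mul, _root_.MulZeroClass.zero_mul, _root_.add_zero]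
        field_simp
        ring
  · refine ⟨!![b1, b2, b3; -a2, a1, 0; -(a3 / a1), 0, 1], ?_, rfl, rfl, rfl, ?_, ?_⟩
    · rw [Matrix.det_fin_three]
      simp only [_root_.Fin.isValue, _root_.Matrix.of_apply, _root_.Matrix.cons_val', _root_.Matrix.cons_val_zero, _root_.Matrix.cons_val_fin_one, _root_.Matrix.cons_val_one, _root_.Matrix.cons_val, _root_.mul_one, _root_.MulZeroClass.mul_zero, _root_.sub_zero, _root_.mul_neg, _root_.sub_neg_eq_add, _root_.MulZeroClass.zero_mul, _root_.neg_zero, _root_.add_zero]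
      field_simp
      linear_combination h
    · simp only [_root_.Fin.isValue, _root_.Matrix.of_apply, _root_.Matrix.cons_val', _root_.Matrix.cons_val_zero, _root_.Matrix.cons_val_fin_one, _root_.Matrix.cons_val_one, _root_.neg_mul, _root_.Matrix.cons_val, _root_.MulZeroClass.zero_mul, _root_.add_zero]
      ring
    · simp only [_root_.Fin.isValue, _root_.Matrix.of_apply, _root_.Matrix.cons_val', _root_.Matrix.cons_val_zero, _root_.Matrix.cons_val_fin_one, _root_.Matrix.cons_val, _root_.Matrix.cons_val_one, _root_.neg_mul, _root_.MulZeroClass.zero_mul, _root_.add_zero, _root_.one_mul]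
      field_simp
      ring

theorem four_le_H0 : 4 ≤ finrank F (H237.RC.ID.H0 F) := by
  let f : (Fin 4 → F) →ₗ[F] H237.RC.ID.H0 F :=
    { toFun := fun y => ⟨Sum.elim ![y 0, y 1, 0, 0] ![y 2, y 3, 0, 0], rfl, rfl, rfl, rfl⟩
      map_add' := by
        intro x y
        apply Subtype.ext
        apply ext8 <;> simp
      map_smul' := by
        intro c x
        apply Subtype.ext
        apply ext8 <;> simp }
  have hf : Function.Injective f := by
    intro x y hxy
    have h1 : (f x).1 = (f y).1 := congrArg Subtype.val hxy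
    have h0 := congrFun h1 (.inl 0)
    have h2 := congrFun h1 (.inl 1)
    have h3 := congrFun h1 (.inr 0)
    have h4 := congrFun h1 (.inr 1)
    funext i
    fin_cases i
    · exact h0
    · exact h2
    · exact h3
    · exact h4
  have := LinearMap.finrank_le_finrank_of_injective hf
  rwa [finrank_fin_fun] at this

/-- automorphisms are transitive on the frames of quaternion subalgebras -/
theorem exists_frame (A : Submodule F (V8 F)) (hA4 : finrank F A = 4) (hA1 : one8 F ∈ A)
    (hAm : ∀ x ∈ A, ∀ y ∈ A, omul x y ∈ A) {l n r : V8 F} (hl : l ∈ A) (hn : n ∈ A) (hr : r ∈ A)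
    (hl1 : polar (plusForm 4 F) l (one8 F) = 1) (hl0 : plusForm 4 F l = 0) (hln : omul l n = n)
    (hnl : omul n l = 0) (hnr : polar (plusForm 4 F) n r = 1) :
    ∃ φ : G8 F, TriS φ φ φ ∧ IsSS (plusForm 4 F) (RingEquiv.refl F) 1 φ.1 ∧ φ.1 l = bs (.inl 0) ∧
      φ.1 n = bs (.inl 1) ∧ ∀ x, φ.1 x ∈ H237.RC.ID.H0 F ↔ x ∈ A := by
  rw [pol_one] at hl1
  obtain ⟨N, hN, hNl, hNe⟩ := exists_aut hl1 hl0
  replace hNe : N.1 l = bs (.inl 0) := hNe
  have e1 : omul (bs (.inl 0)) (N.1 n) = N.1 n := by rw [← hNe, ← hN, hln]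
  have e2 : omul (N.1 n) (bs (.inl 0)) = 0 := by rw [← hNe, ← hN, hnl]; exact hNl.map_zero
  have c1 : N.1 n (.inl 0) = 0 := by
    have := congrFun e2 (.inl 0)
    simpa [omul_l0, bs] using this
  have c2 : N.1 n (.inr 0) = 0 := by
    have := congrFun e1 (.inr 0)
    simpa [omul_r0, bs] using this.symm
  have c3 : N.1 n (.inr 1) = 0 := by
    have := congrFun e1 (.inr 1)
    simpa [omul_r1, bs] using this.symm
  have c4 : N.1 n (.inr 2) = 0 := by
    have := congrFun e1 (.inr 2)
    simpa [omul_r2, bs] using this.symm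
  have c5 : N.1 n (.inr 3) = 0 := by
    have := congrFun e1 (.inr 3)
    simpa [omul_r3, bs] using this.symm
  have c6 : N.1 n (.inl 1) * N.1 r (.inr 1) + N.1 n (.inl 2) * N.1 r (.inr 2) + N.1 n (.inl 3) * N.1 r (.inr 3) = 1 := by
    have h1 := pol hNl n r
    rw [hnr, polar8, c1, c2, c3, c4, c5] at h1
    linear_combination h1
  obtain ⟨P, hP, p0, p1, p2, p3, p4⟩ := exists_mat _ _ _ _ _ _ c6
  have hPd : P 0 0 * (P 1 1 * P 2 2 - P 1 2 * P 2 1) + P 0 1 * (P 1 2 * P 2 0 - P 1 0 * P 2 2) +
      P 0 2 * (P 1 0 * P 2 1 - P 1 1 * P 2 0) = 1 := by rw [← H161.Oct.det3, hP]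
  let φ : G8 F := liG (H161.Oct.sl_mem P hP) * N
  have hφ : ∀ x, φ.1 x = oz (H161.Oct.slF P (zo (N.1 x))) := fun x => rfl
  have hT : TriS φ φ φ := (tri_liG (H161.Oct.sl_mem P hP)).mul hN
  have hI : IsSS (plusForm 4 F) (RingEquiv.refl F) 1 φ.1 := by
    have h1 := (isSS_liP (H161.Oct.sl_mem P hP)).mul hNl
    refine ⟨one_ne_zero, h1.add, h1.smul, fun v => ?_⟩
    have h2 := h1.form v
    rw [map_one, one_mul, one_mul] at h2
    rw [one_mul]
    exact h2
  have f1 : φ.1 l = bs (.inl 0) := by
    rw [hφ, hNe]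
    (refine And.elim (fun cj1 => And.elim fun cj2 => And.elim fun cj3 => And.elim fun cj4 => And.elim fun cj5 => And.elim fun cj6 => And.elim fun cj7 cj8 => by apply ext8; exacts [cj1, cj2, cj3, cj4, cj5, cj6, cj7, cj8]) ?_; simp [oz, zo, H161.Oct.slF, bs])
  have f2 : φ.1 n = bs (.inl 1) := by
    rw [hφ]
    (refine And.elim (fun cj1 => And.elim fun cj2 => And.elim fun cj3 => And.elim fun cj4 => And.elim fun cj5 => And.elim fun cj6 => And.elim fun cj7 cj8 => by apply ext8; exacts [cj1, cj2, cj3, cj4, cj5, cj6, cj7, cj8]) ?_; simp only [oz, zo, H161.Oct.slF, bs, c1, c2, c3, c4, c5, _root_.Fin.isValue, _root_.neg_zero, _root_.Matrix.cons_val_zero, _root_.Matrix.cons_val_one, _root_.Matrix.cons_val, _root_.MulZeroClass.mul_zero, _root_.add_zero, _root_.Sum.elim_inl, _root_.ne_eq, _root_.Sum.inl.injEq, _root_.zero_ne_one, _root_.not_false_eq_true, _root_.Pi.single_eq_of_ne, _root_.Pi.single_eq_same, _root_.Fin.reduceEq, _root_.Sum.elim_inr, _root_.reduceCtorEq, and_self, and_true, true_and]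 <;> and_intros)
    · rw [p0, p1, p2]; linear_combination c6
    · exact p3
    · exact p4
  have f3 : φ.1 r (.inr 1) = 1 := by
    have h1 := pol hI n r
    rw [hnr, f2, polar8] at h1
    simpa [bs] using h1
  have f4 : φ.1 r (.inr 2) = 0 := by
    rw [hφ]
    simp only [oz, zo, H161.Oct.slF, _root_.Fin.isValue, _root_.Matrix.cons_val_zero, _root_.Matrix.cons_val_one, _root_.Matrix.cons_val, _root_.mul_neg, _root_.neg_add_rev, _root_.neg_neg, _root_.Sum.elim_inr]
    rw [p0, p1, p2]; ring
  have f5 : φ.1 r (.inr 3) = 0 := by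
    rw [hφ]
    simp only [oz, zo, H161.Oct.slF, _root_.Fin.isValue, _root_.Matrix.cons_val_zero, _root_.Matrix.cons_val_one, _root_.Matrix.cons_val, _root_.mul_neg, _root_.neg_add_rev, _root_.neg_neg, _root_.Sum.elim_inr]
    rw [p0, p1, p2]; ring
  refine ⟨φ, hT, hI, f1, f2, ?_⟩
  -- the image of `A`
  have hone : φ.1 (one8 F) = one8 F := aut_one hT
  have g1 : bs (.inl 0) ∈ A.map (lin hI).toLinearMap := ⟨l, hl, f1⟩
  have g2 : one8 F ∈ A.map (lin hI).toLinearMap := ⟨one8 F, hA1, hone⟩
  have g3 : bs (.inl 1) ∈ A.map (lin hI).toLinearMap := ⟨n, hn, f2⟩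
  have g4 : bs (.inr 0) ∈ A.map (lin hI).toLinearMap := by
    rw [bs_r0]
    exact Submodule.sub_mem _ g2 g1
  have g5 : bs (.inr 1) ∈ A.map (lin hI).toLinearMap := by
    refine ⟨omul (omul (one8 F - l) r) l, hAm _ (hAm _ (A.sub_mem hA1 hl) _ hr) _ hl, ?_⟩
    change φ.1 _ = _
    rw [hT, hT, hI.sub, hone, f1]
    (refine And.elim (fun cj1 => And.elim fun cj2 => And.elim fun cj3 => And.elim fun cj4 => And.elim fun cj5 => And.elim fun cj6 => And.elim fun cj7 cj8 => by apply ext8; exacts [cj1, cj2, cj3, cj4, cj5, cj6, cj7, cj8]) ?_; simp [omul_l0, omul_l1, omul_l2, omul_l3, omul_r0, omul_r1, omul_r2, omul_r3, one8, bs, f3, f4, f5])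
  have g6 : H237.RC.ID.H0 F ≤ A.map (lin hI).toLinearMap := by
    rintro x ⟨h1, h2, h3, h4⟩
    rw [decomp x, h1, h2, h3, h4, zero_smul, zero_smul, zero_smul, zero_smul, add_zero, add_zero, add_zero, add_zero]
    exact Submodule.add_mem _ (Submodule.add_mem _ (Submodule.add_mem _ (Submodule.smul_mem _ _ g1)
      (Submodule.smul_mem _ _ g3)) (Submodule.smul_mem _ _ g4)) (Submodule.smul_mem _ _ g5)
  have g7 : finrank F (A.map (lin hI).toLinearMap) = 4 := by
    exact (LinearEquiv.finrank_map_eq (lin hI) A).trans hA4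
  have g8 : H237.RC.ID.H0 F = A.map (lin hI).toLinearMap :=
    Submodule.eq_of_le_of_finrank_le g6 (by rw [g7]; exact four_le_H0)
  intro x
  rw [g8]
  constructor
  · rintro ⟨y, hy, hyx⟩
    have : y = x := φ.1.injective hyx
    rwa [← this]
  · intro hx
    exact ⟨x, hx, rfl⟩

/-! ### The unipotent automorphism -/

/-- the operator `U - 1` is nilpotent -/
theorem nil_of_pow {p : ℕ} [CharP F p] (hp : p.Prime) {U : G8 F}
    (hUl : IsSS (plusForm 4 F) (RingEquiv.refl F) 1 U.1) (hUp : U ^ p = 1) (x : V8 F) :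
    (((lin hUl).toLinearMap - 1 : Module.End F (V8 F)) ^ p) x = 0 := by
  have : Fact p.Prime := ⟨hp⟩
  have h0 : ((Polynomial.X - 1 : Polynomial F)) ^ p = Polynomial.X ^ p - 1 := by
    rw [sub_pow_char, one_pow]
  have h1 := congrArg (Polynomial.aeval (lin hUl).toLinearMap) h0
  rw [map_pow, map_sub, Polynomial.aeval_X, map_one, map_sub, map_pow, Polynomial.aeval_X, map_one] at h1
  rw [h1]
  have h2 : ∀ k : ℕ, ((lin hUl).toLinearMap ^ k : Module.End F (V8 F)) x = (U ^ k).1 x := by
    intro k
    induction k with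
    | zero => rfl
    | succ k ih =>
      rw [pow_succ', pow_succ']
      change U.1 (((lin hUl).toLinearMap ^ k : Module.End F (V8 F)) x) = U.1 ((U ^ k).1 x)
      rw [ih]
  rw [LinearMap.sub_apply, h2, hUp]
  exact sub_self x

/-- a last nonzero `U b - b` -/
theorem exists_last {p : ℕ} [CharP F p] (hp : p.Prime) {A : Submodule F (V8 F)} {U : G8 F}
    (hUl : IsSS (plusForm 4 F) (RingEquiv.refl F) 1 U.1) (hUp : U ^ p = 1)
    (hUA : ∀ x ∈ A, U.1 x ∈ A) {a : V8 F} (ha : a ∈ A) (hne : U.1 a ≠ a) :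
    ∃ b ∈ A, U.1 b - b ≠ 0 ∧ U.1 (U.1 b - b) = U.1 b - b := by
  classical
  let D : Module.End F (V8 F) := (lin hUl).toLinearMap - 1
  have hD : ∀ x, D x = U.1 x - x := fun x => rfl
  have hex : ∃ m : ℕ, (D ^ m) a = 0 := ⟨p, nil_of_pow hp hUl hUp a⟩
  have hmem : ∀ m : ℕ, (D ^ m) a ∈ A := by
    intro m
    induction m with
    | zero => exact ha
    | succ m ih =>
      rw [pow_succ']
      change D ((D ^ m) a) ∈ A
      rw [hD]
      exact A.sub_mem (hUA _ ih) ih
  have h2 : 2 ≤ Nat.find hex := by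
    by_contra hlt
    have h3 : Nat.find hex = 0 ∨ Nat.find hex = 1 := by omega
    have h4 := Nat.find_spec hex
    rcases h3 with h3 | h3
    · rw [h3, pow_zero] at h4
      change a = 0 at h4
      apply hne
      rw [h4, hUl.map_zero]
    · rw [h3, pow_one, hD, sub_eq_zero] at h4
      exact hne h4
  obtain ⟨m, hm⟩ : ∃ m, Nat.find hex = m + 2 := ⟨Nat.find hex - 2, by omega⟩
  have h5 := Nat.find_spec hex
  rw [hm] at h5
  have h6 : (D ^ (m + 1)) a ≠ 0 := Nat.find_min hex (by omega)
  refine ⟨(D ^ m) a, hmem m, ?_, ?_⟩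
  · rw [← hD]
    change (D * D ^ m) a ≠ 0
    rw [← pow_succ']
    exact h6
  · have h7 : D (D ((D ^ m) a)) = 0 := by
      change (D * (D * D ^ m)) a = 0
      rw [← pow_succ', ← pow_succ']
      exact h5
    rw [hD (D _), sub_eq_zero, hD] at h7
    exact h7

/-- `U b - b` is orthogonal to the fixed vectors -/
theorem pol_fix {U : G8 F} (hUl : IsSS (plusForm 4 F) (RingEquiv.refl F) 1 U.1) (b : V8 F) {x : V8 F}
    (hx : U.1 x = x) : polar (plusForm 4 F) (U.1 b - b) x = 0 := by
  rw [pol_sub_left]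
  nth_rw 1 [← hx]
  rw [pol hUl, sub_self]

theorem norm_add' (x y : V8 F) : plusForm 4 F (x + y) = plusForm 4 F x + plusForm 4 F y + polar (plusForm 4 F) x y := by
  rw [QuadraticMap.polar]; ring

theorem norm_smul' (c : F) (x : V8 F) : plusForm 4 F (c • x) = c * c * plusForm 4 F x := QuadraticMap.map_smul _ _ _

theorem pol_self (x : V8 F) : polar (plusForm 4 F) x x = 2 * plusForm 4 F x := by
  rw [polar8, norm8]; ring

/-- a singular fixed vector of trace zero -/
theorem exists_null [Finite F] {p : ℕ} [CharP F p]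
    (A : Submodule F (V8 F)) (hA4 : finrank F A = 4) (hA1 : one8 F ∈ A)
    (hAm : ∀ x ∈ A, ∀ y ∈ A, omul x y ∈ A)
    (hAn : ∀ x ∈ A, (∀ y ∈ A, polar (plusForm 4 F) x y = 0) → x = 0)
    (U : G8 F) (hU : TriS U U U) (hUl : IsSS (plusForm 4 F) (RingEquiv.refl F) 1 U.1) (hUp : U ^ p = 1)
    (hUA : ∀ x ∈ A, U.1 x ∈ A) (hne : ∃ x ∈ A, U.1 x ≠ x) :
    ∃ n ∈ A, n ≠ 0 ∧ U.1 n = n ∧ plusForm 4 F n = 0 ∧ polar (plusForm 4 F) n (one8 F) = 0 := by
  have hp : p.Prime := CharP.char_is_prime F p
  have hone : U.1 (one8 F) = one8 F := aut_one hU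
  by_cases h2 : (2 : F) = 0
  · -- characteristic two
    have hp2 : p = 2 := by
      have h1 : ((2 : ℕ) : F) = 0 := by exact_mod_cast h2
      have h3 := (CharP.cast_eq_zero_iff F p 2).1 h1
      exact (Nat.prime_dvd_prime_iff_eq hp Nat.prime_two).1 h3
    subst hp2
    have hUU : ∀ x, U.1 (U.1 x) = x := by
      intro x
      have := congrArg (fun z : G8 F => z.1 x) hUp
      rw [pow_two] at this
      exact this
    have hneg : ∀ c : F, -c = c := by
      intro c
      linear_combination (-c) * h2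
    have hneg8 : ∀ x : V8 F, -x = x := by
      intro x
      funext i
      exact hneg (x i)
    by_cases hex : ∃ a ∈ A, ∀ c : F, U.1 a - a ≠ c • one8 F
    · obtain ⟨a, ha, hac⟩ := hex
      have hn : U.1 (U.1 a - a) = U.1 a - a := by
        rw [hUl.sub, hUU, ← neg_sub, hneg8]
      obtain ⟨c, hc⟩ : ∃ c : F, c ^ 2 = plusForm 4 F (U.1 a - a) := by
        have := (frobeniusEquiv F 2).surjective (plusForm 4 F (U.1 a - a))
        obtain ⟨c, hc⟩ := this
        exact ⟨c, hc⟩
      have ht : polar (plusForm 4 F) (U.1 a - a) (one8 F) = 0 := pol_fix hUl a hone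
      refine ⟨(U.1 a - a) + c • one8 F, A.add_mem (A.sub_mem (hUA a ha) ha) (A.smul_mem c hA1), ?_, ?_, ?_, ?_⟩
      · intro h0
        apply hac (-c)
        rw [neg_smul]
        exact eq_neg_of_add_eq_zero_left h0
      · rw [hUl.add, hn, sml hUl, hone]
      · rw [norm_add', norm_smul', norm_one8, ← hc, pol_smul_right, ht]
        linear_combination (c ^ 2) * h2
      · rw [pol_add_left, ht, pol_smul_left, pol_self, norm_one8]
        linear_combination c * h2
    · exfalso
      push Not at hex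
      have hf : ∀ a ∈ A, ∃ c : F, U.1 a = a + c • one8 F ∧ (c = 0 ∨ c = polar (plusForm 4 F) a (one8 F)) := by
        intro a ha
        obtain ⟨c, hc⟩ := hex a ha
        have h1 : U.1 a = a + c • one8 F := by rw [← hc]; abel
        refine ⟨c, h1, ?_⟩
        have h3 := nrm hUl a
        rw [h1, norm_add', norm_smul', norm_one8, pol_smul_right] at h3
        have h4 : c * (c + polar (plusForm 4 F) a (one8 F)) = 0 := by linear_combination h3
        rcases mul_eq_zero.1 h4 with h5 | h5
        · exact Or.inl h5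
        · right
          rw [← hneg c]
          linear_combination (-1 : F) * h5
      have hone_ne : one8 F ≠ 0 := by
        intro h0
        have := norm_one8 (F := F)
        rw [h0, QuadraticMap.map_zero] at this
        exact zero_ne_one this
      have hcancel : ∀ c d : F, c • one8 F = d • one8 F → c = d := by
        intro c d hcd
        by_contra hne'
        rw [← sub_eq_zero, ← sub_smul] at hcd
        rcases smul_eq_zero.1 hcd with h5 | h5
        · exact hne' (sub_eq_zero.1 h5)
        · exact hone_ne h5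
      obtain ⟨a0, ha0, hne0⟩ := hne
      obtain ⟨c0, hc0, hc0'⟩ := hf a0 ha0
      have hc0ne : c0 ≠ 0 := by
        rintro rfl
        apply hne0
        rw [hc0, zero_smul, add_zero]
      have hc0t : c0 = polar (plusForm 4 F) a0 (one8 F) := hc0'.resolve_left hc0ne
      have hconj : ∀ a ∈ A, U.1 a = oconj a := by
        intro a ha
        obtain ⟨c, hc, hc'⟩ := hf a ha
        have h6 : c = polar (plusForm 4 F) a (one8 F) := by
          rcases hc' with rfl | h5
          · obtain ⟨d, hd, hd'⟩ := hf (a + a0) (A.add_mem ha ha0)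
            have h7 : d = c0 := by
              apply hcancel
              rw [hUl.add, hc, hc0, zero_smul, add_zero, ← add_assoc] at hd
              exact (add_left_cancel hd).symm
            rw [h7, pol_add_left, ← hc0t] at hd'
            rcases hd' with h8 | h8
            · exact absurd h8 hc0ne
            · linear_combination h8
          · exact h5
        rw [hc, oconj_eq, ← h6, sub_eq_add_neg, hneg8, add_comm]
      have hcA : ∀ a ∈ A, oconj a ∈ A := by
        intro a ha
        rw [← hconj a ha]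
        exact hUA a ha
      -- `A` is commutative
      have hcomm : ∀ x ∈ A, ∀ y ∈ A, omul x y = omul y x := by
        intro x hx y hy
        have h8 := hU (oconj x) (oconj y)
        rw [hconj _ (hcA x hx), hconj _ (hcA y hy), hconj _ (hAm _ (hcA x hx) _ (hcA y hy)), oconj_omul, oconj_oconj,
          oconj_oconj] at h8
        exact h8.symm
      have horth : ∀ x ∈ A, ∀ y ∈ A, polar (plusForm 4 F) x (one8 F) = 0 → polar (plusForm 4 F) y (one8 F) = 0 →
          polar (plusForm 4 F) x y = 0 := by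
        intro x hx y hy hx1 hy1
        have h9 : omul x (oconj y) + omul y (oconj x) = polar (plusForm 4 F) x y • one8 F := by
          apply ext8 <;> simp only [omul_l0, omul_l1, omul_l2, omul_l3, omul_r0, omul_r1, omul_r2, omul_r3,
            oconj_l0, oconj_l1, oconj_l2, oconj_l3, oconj_r0, oconj_r1, oconj_r2, oconj_r3,
            Pi.add_apply, Pi.smul_apply, smul_eq_mul, polar8] <;> simp only [one8, _root_.Fin.isValue, _root_.mul_neg, _root_.Sum.elim_inl, _root_.Matrix.cons_val_zero, _root_.mul_one, _root_.sub_neg_eq_add, _root_.Matrix.cons_val_one, _root_.MulZeroClass.mul_zero, _root_.Matrix.cons_val, _root_.Sum.elim_inr] <;> ring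
        rw [oconj_eq, oconj_eq, hx1, hy1, zero_smul, zero_sub, zero_sub, hneg8, hneg8, hcomm y hy x hx] at h9
        have h10 : omul x y + omul x y = 0 := by
          nth_rw 1 [← hneg8 (omul x y)]
          exact neg_add_cancel _
        rw [h10] at h9
        rcases smul_eq_zero.1 h9.symm with h11 | h11
        · exact h11
        · exact absurd h11 hone_ne
      have hscal : ∀ x ∈ A, polar (plusForm 4 F) x (one8 F) = 0 → ∃ c : F, x = c • one8 F := by
        intro x hx hx1
        refine ⟨polar (plusForm 4 F) x a0 / c0, ?_⟩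
        rw [← sub_eq_zero]
        apply hAn _ (A.sub_mem hx (A.smul_mem _ hA1))
        intro y hy
        have k1 : polar (plusForm 4 F) (x - (polar (plusForm 4 F) x a0 / c0) • one8 F) a0 = 0 := by
          rw [pol_sub_left, pol_smul_left, pol_symm (one8 F), ← hc0t]
          field_simp
          ring
        have k2 : polar (plusForm 4 F) (x - (polar (plusForm 4 F) x a0 / c0) • one8 F) (one8 F) = 0 := by
          rw [pol_sub_left, hx1, pol_smul_left, pol_self, h2]
          ring
        have k3 : polar (plusForm 4 F) (y - (polar (plusForm 4 F) y (one8 F) / c0) • a0) (one8 F) = 0 := by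
          rw [pol_sub_left, pol_smul_left, ← hc0t]
          field_simp
          ring
        have k4 := horth _ (A.sub_mem hx (A.smul_mem (polar (plusForm 4 F) x a0 / c0) hA1)) _
          (A.sub_mem hy (A.smul_mem (polar (plusForm 4 F) y (one8 F) / c0) ha0)) k2 k3
        rw [pol_sub_right, pol_smul_right, k1, mul_zero, sub_zero] at k4
        exact k4
      -- dimension
      have hle : A ≤ Submodule.span F ({a0, one8 F} : Set (V8 F)) := by
        intro y hy
        have k3 : polar (plusForm 4 F) (y - (polar (plusForm 4 F) y (one8 F) / c0) • a0) (one8 F) = 0 := by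
          rw [pol_sub_left, pol_smul_left, ← hc0t]
          field_simp
          ring
        obtain ⟨c, hc⟩ := hscal _ (A.sub_mem hy (A.smul_mem (polar (plusForm 4 F) y (one8 F) / c0) ha0)) k3
        rw [Submodule.mem_span_pair]
        exact ⟨_, c, by rw [← hc]; abel⟩
      have h12 := Submodule.finrank_mono hle
      have h13 : finrank F (Submodule.span F ({a0, one8 F} : Set (V8 F))) ≤ 2 := by
        classical
        have h14 := finrank_span_finset_le_card (R := F) ({a0, one8 F} : Finset (V8 F))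
        have h15 : ({a0, one8 F} : Finset (V8 F)).card ≤ 2 := Finset.card_le_two
        rw [Finset.coe_insert, Finset.coe_singleton] at h14
        exact h14.trans h15
      omega
  · -- odd characteristic
    obtain ⟨a, ha, hne⟩ := hne
    obtain ⟨b, hb, hbn, hbf⟩ := exists_last hp hUl hUp hUA ha hne
    refine ⟨U.1 b - b, A.sub_mem (hUA b hb) hb, hbn, hbf, ?_, pol_fix hUl b hone⟩
    have h1 := pol_fix hUl b hbf
    rw [pol_self] at h1
    exact (mul_eq_zero.1 h1).resolve_left h2

/-- the idempotent `n r̄` -/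
theorem idem_facts {n r : V8 F} (hn0 : plusForm 4 F n = 0) (hn1 : polar (plusForm 4 F) n (one8 F) = 0)
    (hnr : polar (plusForm 4 F) n r = 1) :
    polar (plusForm 4 F) (omul n (oconj r)) (one8 F) = 1 ∧ plusForm 4 F (omul n (oconj r)) = 0 ∧
      omul (omul n (oconj r)) n = n ∧ omul n (omul n (oconj r)) = 0 := by
  refine ⟨?_, ?_, ?_, ?_⟩
  · rw [pol_one, ← hnr]
    simp only [omul_l0, omul_r0, oconj_l0, oconj_l1, oconj_l2, oconj_l3, oconj_r0, oconj_r1, oconj_r2, oconj_r3, polar8]
    ring
  · rw [norm_omul, hn0, zero_mul]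
  · rw [omul_oconj_omul_self, hnr, hn0, one_smul, zero_smul, sub_zero]
  · have h1 := oconj_omul_omul n (oconj r)
    rw [oconj_eq n, hn1, hn0, zero_smul, zero_smul, zero_sub] at h1
    have h2 : omul (-n) (omul n (oconj r)) = -omul n (omul n (oconj r)) := by
      rw [← neg_one_smul F n, smul_omul, neg_one_smul]
    rw [h2, neg_eq_zero] at h1
    exact h1

/-- A2 (normal form): a nondegenerate subalgebra of dimension four with a nontrivial unipotent automorphism. -/
theorem exists_normal [Finite F] {p : ℕ} [CharP F p]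
    (A : Submodule F (V8 F)) (hA4 : finrank F A = 4) (hA1 : one8 F ∈ A)
    (hAm : ∀ x ∈ A, ∀ y ∈ A, omul x y ∈ A)
    (hAn : ∀ x ∈ A, (∀ y ∈ A, polar (plusForm 4 F) x y = 0) → x = 0)
    (U : G8 F) (hU : TriS U U U) (hUl : IsSS (plusForm 4 F) (RingEquiv.refl F) 1 U.1) (hUp : U ^ p = 1)
    (hUA : ∀ x ∈ A, U.1 x ∈ A) (hne : ∃ x ∈ A, U.1 x ≠ x) :
    ∃ φ : G8 F, TriS φ φ φ ∧ IsSS (plusForm 4 F) (RingEquiv.refl F) 1 φ.1 ∧ (∀ x, φ.1 x ∈ H237.RC.ID.H0 F ↔ x ∈ A) ∧
      φ.1 (U.1 (φ⁻¹.1 (bs (.inl 0)))) = bs (.inl 0) - bs (.inl 1) ∧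
      φ.1 (U.1 (φ⁻¹.1 (bs (.inl 1)))) = bs (.inl 1) := by
  obtain ⟨n, hn, hnz, hUn, hn0, hn1⟩ := exists_null A hA4 hA1 hAm hAn U hU hUl hUp hUA hne
  obtain ⟨r, hr, hnr⟩ : ∃ r ∈ A, polar (plusForm 4 F) n r = 1 := by
    by_contra hcon
    push Not at hcon
    apply hnz
    apply hAn n hn
    intro y hy
    by_contra h0
    apply hcon ((polar (plusForm 4 F) n y)⁻¹ • y) (A.smul_mem _ hy)
    rw [pol_smul_right, inv_mul_cancel₀ h0]
  obtain ⟨hl1, hl0, hln, hnl⟩ := idem_facts hn0 hn1 hnr
  have hcr : oconj r ∈ A := by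
    rw [oconj_eq]
    exact A.sub_mem (A.smul_mem _ hA1) hr
  have hl : omul n (oconj r) ∈ A := hAm _ hn _ hcr
  generalize omul n (oconj r) = l at hl1 hl0 hln hnl hl
  obtain ⟨φ, hφ, hφl, f1, f2, f3⟩ := exists_frame A hA4 hA1 hAm hl hn hr hl1 hl0 hln hnl hnr
  -- the image of `U l`
  have y1 : omul (φ.1 (U.1 l)) (bs (.inl 1)) = bs (.inl 1) := by
    have h1 := congrArg (fun z => φ.1 (U.1 z)) hln
    change φ.1 (U.1 (omul l n)) = φ.1 (U.1 n) at h1
    rw [hU, hφ, hUn, f2] at h1
    exact h1
  have y2 : omul (bs (.inl 1)) (φ.1 (U.1 l)) = 0 := by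
    have h1 := congrArg (fun z => φ.1 (U.1 z)) hnl
    change φ.1 (U.1 (omul n l)) = φ.1 (U.1 0) at h1
    rw [hU, hφ, hUn, f2, hUl.map_zero, hφl.map_zero] at h1
    exact h1
  obtain ⟨y3, y4, y5, y6⟩ := (f3 (U.1 l)).2 (hUA l hl)
  obtain ⟨c, hc⟩ : ∃ c : F, U.1 l = l + c • n := by
    refine ⟨φ.1 (U.1 l) (.inl 1), φ.1.injective ?_⟩
    rw [hφl.add, sml hφl, f1, f2]
    have a1 : φ.1 (U.1 l) (.inl 0) = 1 := by
      have := congrFun y1 (.inl 1)
      simpa [omul_l1, bs] using this
    have a2 : φ.1 (U.1 l) (.inr 1) = 0 := by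
      have := congrFun y1 (.inr 0)
      simpa [omul_r0, bs] using this
    have a3 : φ.1 (U.1 l) (.inr 0) = 0 := by
      have := congrFun y2 (.inl 1)
      simpa [omul_l1, bs] using this
    apply ext8 <;> simp [bs, a1, a2, a3, y3, y4, y5, y6]
  have hone : U.1 (one8 F) = one8 F := aut_one hU
  have hone' : φ.1 (one8 F) = one8 F := aut_one hφ
  have hc0 : c ≠ 0 := by
    rintro rfl
    rw [zero_smul, add_zero] at hc
    -- `U` is trivial on `A`
    obtain ⟨x, hx, hUx⟩ := hne
    apply hUx
    -- the element `r₁`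
    obtain ⟨ρ, hρ, hρ'⟩ : ∃ ρ ∈ A, φ.1 ρ = bs (.inr 1) := by
      refine ⟨φ.1.symm (bs (.inr 1)), ?_, φ.1.apply_symm_apply _⟩
      rw [← f3, φ.1.apply_symm_apply]
      exact ⟨rfl, rfl, rfl, rfl⟩
    have hρ1 : omul ρ l = ρ := by
      apply φ.1.injective
      rw [hφ, f1, hρ']
      apply ext8 <;> simp [omul_l0, omul_l1, omul_l2, omul_l3, omul_r0, omul_r1, omul_r2, omul_r3, bs]
    have hρ2 : omul l ρ = 0 := by
      apply φ.1.injective
      rw [hφ, f1, hρ', hφl.map_zero]
      apply ext8 <;> simp [omul_l0, omul_l1, omul_l2, omul_l3, omul_r0, omul_r1, omul_r2, omul_r3, bs]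
    have hρ3 : polar (plusForm 4 F) n ρ = 1 := by
      rw [← pol hφl, f2, hρ', polar8]
      simp [bs]
    have z1 : omul (φ.1 (U.1 ρ)) (bs (.inl 0)) = φ.1 (U.1 ρ) := by
      have h1 := congrArg (fun z => φ.1 (U.1 z)) hρ1
      change φ.1 (U.1 (omul ρ l)) = φ.1 (U.1 ρ) at h1
      rw [hU, hφ, hc, f1] at h1
      exact h1
    have z2 : omul (bs (.inl 0)) (φ.1 (U.1 ρ)) = 0 := by
      have h1 := congrArg (fun z => φ.1 (U.1 z)) hρ2
      change φ.1 (U.1 (omul l ρ)) = φ.1 (U.1 0) at h1
      rw [hU, hφ, hc, f1, hUl.map_zero, hφl.map_zero] at h1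
      exact h1
    obtain ⟨z3, z4, z5, z6⟩ := (f3 (U.1 ρ)).2 (hUA ρ hρ)
    have z7 : φ.1 (U.1 ρ) (.inr 1) = 1 := by
      have h1 := pol hUl n ρ
      rw [hUn, hρ3, ← pol hφl, f2, polar8] at h1
      simpa [bs] using h1
    have z8 : φ.1 (U.1 ρ) (.inl 0) = 0 := by
      have := congrFun z2 (.inl 0)
      simpa [omul_l0, bs] using this
    have z9 : φ.1 (U.1 ρ) (.inl 1) = 0 := by
      have := congrFun z2 (.inl 1)
      simpa [omul_l1, bs] using this
    have z10 : φ.1 (U.1 ρ) (.inr 0) = 0 := by
      have := congrFun z1 (.inr 0)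
      simpa [omul_r0, bs] using this.symm
    have z11 : U.1 ρ = ρ := by
      apply φ.1.injective
      rw [hρ']
      apply ext8 <;> simp [bs, z3, z4, z5, z6, z7, z8, z9, z10]
    obtain ⟨x3, x4, x5, x6⟩ := (f3 x).2 hx
    have hxd : x = (φ.1 x (.inl 0)) • l + (φ.1 x (.inl 1)) • n + (φ.1 x (.inr 0)) • (one8 F - l) +
        (φ.1 x (.inr 1)) • ρ := by
      apply φ.1.injective
      rw [hφl.add, hφl.add, hφl.add, sml hφl, sml hφl, sml hφl, sml hφl, hφl.sub, f1, f2, hρ', hone']
      apply ext8 <;> simp [bs, one8, x3, x4, x5, x6]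
    rw [hxd, hUl.add, hUl.add, hUl.add, sml hUl, sml hUl, sml hUl, sml hUl, hUl.sub, hc, hUn, hone, z11]
  -- rescaling
  obtain ⟨ψ, hψ, hψl, g1, g2, g3⟩ := exists_frame A hA4 hA1 hAm hl (A.smul_mem (-c) hn) (A.smul_mem (-c⁻¹) hr) hl1 hl0
    (by rw [omul_smul, hln]) (by rw [smul_omul, hnl, smul_zero]) (by
      rw [pol_smul_left, pol_smul_right, hnr]
      field_simp)
  have i1 : ψ⁻¹.1 (bs (.inl 0)) = l := by
    rw [← g1]
    exact ψ.1.symm_apply_apply l
  have i2 : ψ⁻¹.1 (bs (.inl 1)) = -c • n := by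
    rw [← g2]
    exact ψ.1.symm_apply_apply _
  refine ⟨ψ, hψ, hψl, g3, ?_, ?_⟩
  · rw [i1, hc, ← g1, ← g2, ← hψl.sub]
    congr 1
    rw [neg_smul, sub_neg_eq_add]
  · rw [i2, sml hUl, hUn, g2]

end Cfsg.Agent.H188.RC.IDNormal
end
end
end
end
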